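import Mathlib
import Cfsg.Agent.Lib.Helper10.BR0

/-!
# S0999 piece BR-N3 `invol_struct` (job 1025, helper20)
-/

set_option autoImplicit false

namespace Cfsg.Agent.Lib.Helper10.BR

open Cfsg
open Cfsg.Agent.Lib.Helper83 (trivIrr)
open scoped ComplexConjugate

namespace BRN3aux

variable {G : Type*} [Group G]

/-- an element commuting with a non-identity element of the subgroup `P` of prime order
centralizes `P` -/
theorem mem_centralizer_of_commute {p : ℕ} (hp : p.Prime) {P : Subgroup G}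
    (hP : Nat.card P = p) {σ c : G} (hc : c ∈ P) (hc1 : c ≠ 1) (hσc : σ * c = c * σ) :
    σ ∈ Subgroup.centralizer (P : Set G) := by
  have : Fact p.Prime := ⟨hp⟩
  rw [Subgroup.mem_centralizer_iff]
  intro u hu
  have hc1' : (⟨c, hc⟩ : ↥P) ≠ 1 := fun h0 => hc1 (congrArg Subtype.val h0)
  have h1 : (⟨u, hu⟩ : ↥P) ∈ Subgroup.zpowers (⟨c, hc⟩ : ↥P) := mem_zpowers_of_prime_card hP hc1'
  obtain ⟨k, hk⟩ := Subgroup.mem_zpowers_iff.mp h1
  have h2 : u = c ^ k := by
    have := congrArg Subtype.val hk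
    simpa using this.symm
  rw [h2]
  have h3 : Commute σ c := hσc
  exact ((h3.zpow_right k).eq).symm

/-- an involution does not lie in a subgroup of odd prime order -/
theorem not_mem_of_orderOf_two {p : ℕ} (hp : p.Prime) (hp5 : 5 ≤ p) {P : Subgroup G}
    (hP : Nat.card P = p) {σ : G} (hσ2 : orderOf σ = 2) : σ ∉ P := by
  intro hσ
  have h1 : orderOf σ ∣ Nat.card P := Subgroup.orderOf_dvd_natCard P hσ
  rw [hσ2, hP] at h1
  have h2 := (Nat.prime_dvd_prime_iff_eq Nat.prime_two hp).mp h1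
  omega

/-- an involution normalizing the self-centralizing subgroup `P` of odd prime order inverts it -/
theorem inverts {p : ℕ} (hp : p.Prime) (hp5 : 5 ≤ p) {P : Subgroup G}
    (hP : Nat.card P = p) (hcent : Subgroup.centralizer (P : Set G) = P) {σ : G}
    (hσ : σ ∈ Subgroup.normalizer (P : Set G)) (hσ2 : orderOf σ = 2) :
    ∀ u ∈ P, σ * u * σ⁻¹ = u⁻¹ := by
  intro u hu
  have hσσ : σ * σ = 1 := by
    have := pow_orderOf_eq_one σ
    rwa [hσ2, pow_two] at this
  have hσinv : σ⁻¹ = σ := inv_eq_of_mul_eq_one_left hσσ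
  have hφu : σ * u * σ⁻¹ ∈ P := (Subgroup.mem_normalizer_iff.mp hσ u).mp hu
  -- `P` is commutative
  have hcomm : ∀ a ∈ P, ∀ b ∈ P, a * b = b * a := by
    intro a ha b hb
    have hb' : b ∈ Subgroup.centralizer (P : Set G) := by rw [hcent]; exact hb
    exact Subgroup.mem_centralizer_iff.mp hb' a ha
  -- `a := u * (σ u σ⁻¹)` is fixed by `σ`
  have ha : u * (σ * u * σ⁻¹) ∈ P := P.mul_mem hu hφu
  have hfix : σ * (u * (σ * u * σ⁻¹)) = (u * (σ * u * σ⁻¹)) * σ := by
    have h1 : σ * (u * (σ * u * σ⁻¹)) = (σ * u * σ⁻¹) * u * σ := by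
      rw [hσinv]
      have : σ * (u * (σ * u * σ)) = σ * u * σ * u * σ := by group
      rw [this]
    rw [h1, hcomm _ hφu u hu]
  by_contra hne
  have ha1 : u * (σ * u * σ⁻¹) ≠ 1 := by
    intro h0
    exact hne (eq_inv_of_mul_eq_one_right h0)
  have h2 := mem_centralizer_of_commute hp hP ha ha1 hfix
  rw [hcent] at h2
  exact not_mem_of_orderOf_two hp hp5 hP hσ2 h2

end BRN3aux

section T

variable {G : Type*} [Group G] [Fintype G] {p e t : ℕ} {P : Subgroup G} {ε : ℤ} {x₀ : ℕ}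
  {A B Y D : Finset (IrrCharacter G)}

/-- BR-N3 -/
theorem invol_struct (h : Tab G p e t P ε x₀ A B Y D) (τ : G)
    (hτ : τ ∈ Subgroup.normalizer (P : Set G)) (hτ2 : orderOf τ = 2) :
    (∀ u ∈ P, τ * u * τ⁻¹ = u⁻¹) ∧
    (∀ σ ∈ Subgroup.normalizer (P : Set G), orderOf σ = 2 → ∃ u ∈ P, σ = τ * u) ∧
    (∀ u ∈ P, orderOf (τ * u) = 2 ∧ ∃ w ∈ P, w⁻¹ * τ * w = τ * u) := by
  have hp := h.hp
  have hp5 := h.hp5
  have hP := h.cardP
  have hcent := h.cent
  have hinv := BRN3aux.inverts hp hp5 hP hcent hτ hτ2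
  have hττ : τ * τ = 1 := by
    have := pow_orderOf_eq_one τ
    rwa [hτ2, pow_two] at this
  have hτinv : τ⁻¹ = τ := inv_eq_of_mul_eq_one_left hττ
  have hτP : τ ∉ P := BRN3aux.not_mem_of_orderOf_two hp hp5 hP hτ2
  refine ⟨hinv, ?_, ?_⟩
  · intro σ hσ hσ2
    have hinvσ := BRN3aux.inverts hp hp5 hP hcent hσ hσ2
    refine ⟨τ⁻¹ * σ, ?_, by group⟩
    rw [← hcent, Subgroup.mem_centralizer_iff]
    intro u hu
    -- `τ⁻¹ σ u = u τ⁻¹ σ`
    have h1 : σ * u = u⁻¹ * σ := by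
      have := hinvσ u hu
      rw [mul_inv_eq_iff_eq_mul] at this
      exact this
    have h2 : τ * u⁻¹ = u * τ := by
      have := hinv u⁻¹ (P.inv_mem hu)
      rw [inv_inv, mul_inv_eq_iff_eq_mul] at this
      exact this
    have h3 : τ⁻¹ * u⁻¹ = u * τ⁻¹ := by rw [hτinv]; exact h2
    calc u * (τ⁻¹ * σ) = (u * τ⁻¹) * σ := by group
      _ = (τ⁻¹ * u⁻¹) * σ := by rw [h3]
      _ = τ⁻¹ * (u⁻¹ * σ) := by group
      _ = τ⁻¹ * (σ * u) := by rw [h1]
      _ = τ⁻¹ * σ * u := by group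
  · intro u hu
    have h1 : τ * u = u⁻¹ * τ := by
      have := hinv u hu
      rw [mul_inv_eq_iff_eq_mul] at this
      exact this
    constructor
    · have : Fact (Nat.Prime 2) := ⟨Nat.prime_two⟩
      apply orderOf_eq_prime
      · rw [pow_two]
        calc τ * u * (τ * u) = τ * u * (u⁻¹ * τ) := by rw [h1]
          _ = τ * τ := by group
          _ = 1 := hττ
      · intro h0
        apply hτP
        have h2 : τ = u⁻¹ := eq_inv_of_mul_eq_one_left h0
        rw [h2]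
        exact P.inv_mem hu
    · -- `w := u ^ ((p + 1) / 2)`
      have hup : u ^ p = 1 := by
        have h2 : orderOf u ∣ Nat.card P := Subgroup.orderOf_dvd_natCard P hu
        rw [hP] at h2
        exact orderOf_dvd_iff_pow_eq_one.mp h2
      have hodd : p % 2 = 1 := by
        rcases hp.eq_two_or_odd with h2 | h2
        · omega
        · exact h2
      refine ⟨u ^ ((p + 1) / 2), P.pow_mem hu _, ?_⟩
      have hw2 : u ^ ((p + 1) / 2) * u ^ ((p + 1) / 2) = u := by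
        rw [← pow_add]
        have h3 : (p + 1) / 2 + (p + 1) / 2 = p + 1 := by omega
        rw [h3, pow_succ, hup, one_mul]
      have hw : u ^ ((p + 1) / 2) ∈ P := P.pow_mem hu _
      have h4 : τ * (u ^ ((p + 1) / 2))⁻¹ = u ^ ((p + 1) / 2) * τ := by
        have := hinv (u ^ ((p + 1) / 2))⁻¹ (P.inv_mem hw)
        rw [inv_inv, mul_inv_eq_iff_eq_mul] at this
        exact this
      calc (u ^ ((p + 1) / 2))⁻¹ * τ * u ^ ((p + 1) / 2)
          = τ⁻¹ * (τ * (u ^ ((p + 1) / 2))⁻¹) * τ * u ^ ((p + 1) / 2) := by group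
        _ = τ⁻¹ * (u ^ ((p + 1) / 2) * τ) * τ * u ^ ((p + 1) / 2) := by rw [h4]
        _ = τ * (u ^ ((p + 1) / 2) * τ) * τ * u ^ ((p + 1) / 2) := by rw [hτinv]
        _ = τ * u ^ ((p + 1) / 2) * (τ * τ) * u ^ ((p + 1) / 2) := by group
        _ = τ * (u ^ ((p + 1) / 2) * u ^ ((p + 1) / 2)) := by rw [hττ]; group
        _ = τ * u := by rw [hw2]

end T

end Cfsg.Agent.Lib.Helper10.BR
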