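import Mathlib
import Cfsg.Agent.Lib.Helper10.BR0

/-!
# S0999 piece BR-N4 `count_x_of` (job 1026, helper20)
-/

set_option autoImplicit false

namespace Cfsg.Agent.Lib.Helper10.BR

open Cfsg
open Cfsg.Agent.Lib.Helper83 (trivIrr)
open scoped ComplexConjugate

namespace BRN4aux

variable {G : Type*} [Group G]

/-- an involution inverting a non-identity element of the subgroup `P` of prime order
normalizes `P` -/
theorem mem_normalizer_of_inverts {p : ℕ} (hp : p.Prime) {P : Subgroup G}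
    (hP : Nat.card P = p) {q c : G} (hc : c ∈ P) (hc1 : c ≠ 1) (hqq : q * q = 1)
    (hqc : q * c * q⁻¹ = c⁻¹) : q ∈ Subgroup.normalizer (P : Set G) := by
  have : Fact p.Prime := ⟨hp⟩
  have hqinv : q⁻¹ = q := inv_eq_of_mul_eq_one_left hqq
  have hc1' : (⟨c, hc⟩ : ↥P) ≠ 1 := fun h0 => hc1 (congrArg Subtype.val h0)
  have hfwd : ∀ u ∈ P, q * u * q⁻¹ ∈ P := by
    intro u hu
    have h1 : (⟨u, hu⟩ : ↥P) ∈ Subgroup.zpowers (⟨c, hc⟩ : ↥P) :=
      mem_zpowers_of_prime_card hP hc1'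
    obtain ⟨k, hk⟩ := Subgroup.mem_zpowers_iff.mp h1
    have h2 : u = c ^ k := by
      have := congrArg Subtype.val hk
      simpa using this.symm
    rw [h2, ← conj_zpow, hqc]
    exact P.zpow_mem (P.inv_mem hc) k
  rw [Subgroup.mem_normalizer_iff]
  intro u
  refine ⟨hfwd u, fun hu => ?_⟩
  have h3 := hfwd _ hu
  have h4 : q * (q * u * q⁻¹) * q⁻¹ = u := by
    rw [hqinv]
    calc q * (q * u * q) * q = (q * q) * u * (q * q) := by group
      _ = u := by rw [hqq, one_mul, mul_one]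
  rwa [h4] at h3

/-- a conjugate of an involution squares to one and is not the identity -/
theorem conj_invol {τ q : G} (hττ : τ * τ = 1) (hτ1 : τ ≠ 1) (hq : IsConj τ q) :
    q * q = 1 ∧ q ≠ 1 := by
  obtain ⟨c, rfl⟩ := isConj_iff.mp hq
  constructor
  · calc c * τ * c⁻¹ * (c * τ * c⁻¹) = c * (τ * τ) * c⁻¹ := by group
      _ = 1 := by rw [hττ]; group
  · intro h0
    apply hτ1
    have : τ = c⁻¹ * (c * τ * c⁻¹) * c := by group
    rw [this, h0]; group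

end BRN4aux

section T

variable {G : Type*} [Group G] [Fintype G] {p e t : ℕ} {P : Subgroup G} {ε : ℤ} {x₀ : ℕ}
  {A B Y D : Finset (IrrCharacter G)}

/-- BR-N4 -/
theorem count_x_of (h : Tab G p e t P ε x₀ A B Y D) (τ : G)
    (hτ : τ ∈ Subgroup.normalizer (P : Set G)) (hτ2 : orderOf τ = 2)
    (hs : (∀ u ∈ P, τ * u * τ⁻¹ = u⁻¹) ∧
      (∀ σ ∈ Subgroup.normalizer (P : Set G), orderOf σ = 2 → ∃ u ∈ P, σ = τ * u) ∧
      (∀ u ∈ P, orderOf (τ * u) = 2 ∧ ∃ w ∈ P, w⁻¹ * τ * w = τ * u))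
    (x : G) (hx : x ∈ P) (hx1 : x ≠ 1) :
    Nat.card {q : G × G // IsConj τ q.1 ∧ IsConj τ q.2 ∧ q.1 * q.2 = x} = p := by
  obtain ⟨hinv, hN2, hPc⟩ := hs
  have hp := h.hp
  have hP := h.cardP
  have hττ : τ * τ = 1 := by
    have := pow_orderOf_eq_one τ
    rwa [hτ2, pow_two] at this
  have hτ1 : τ ≠ 1 := by
    intro h0
    rw [h0, orderOf_one] at hτ2
    omega
  have hconjτu : ∀ u ∈ P, IsConj τ (τ * u) := by
    intro u hu
    obtain ⟨w, hw, hwe⟩ := (hPc u hu).2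
    rw [isConj_iff]
    exact ⟨w⁻¹, by rw [inv_inv]; exact hwe⟩
  have hsq : ∀ u ∈ P, (τ * u) * (τ * u) = 1 := by
    intro u hu
    have := pow_orderOf_eq_one (τ * u)
    rwa [(hPc u hu).1, pow_two] at this
  have hsnd : ∀ u ∈ P, IsConj τ ((τ * u)⁻¹ * x) := by
    intro u hu
    have h1 : (τ * u)⁻¹ = τ * u := inv_eq_of_mul_eq_one_left (hsq u hu)
    rw [h1, mul_assoc]
    exact hconjτu _ (P.mul_mem hu hx)
  obtain ⟨f, hf⟩ : ∃ f : ↥P → {q : G × G // IsConj τ q.1 ∧ IsConj τ q.2 ∧ q.1 * q.2 = x},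
      ∀ u : ↥P, (f u).1 = (τ * (u : G), (τ * (u : G))⁻¹ * x) :=
    ⟨fun u => ⟨(τ * (u : G), (τ * (u : G))⁻¹ * x), hconjτu u u.2, hsnd u u.2,
      mul_inv_cancel_left _ _⟩, fun u => rfl⟩
  have hinj : Function.Injective f := by
    intro u u' huu
    have h1 := congrArg (fun q => q.1.1) huu
    simp only [hf] at h1
    exact Subtype.ext (mul_left_cancel h1)
  have hsurj : Function.Surjective f := by
    rintro ⟨⟨q1, q2⟩, hq1, hq2, hq12⟩
    simp only at hq1 hq2 hq12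
    obtain ⟨hq1q1, hq1ne⟩ := BRN4aux.conj_invol hττ hτ1 hq1
    obtain ⟨hq2q2, -⟩ := BRN4aux.conj_invol hττ hτ1 hq2
    have hq1inv : q1⁻¹ = q1 := inv_eq_of_mul_eq_one_left hq1q1
    have hq2inv : q2⁻¹ = q2 := inv_eq_of_mul_eq_one_left hq2q2
    have hq1x : q1 * x * q1⁻¹ = x⁻¹ := by
      rw [← hq12, mul_inv_rev, hq1inv, hq2inv]
      calc q1 * (q1 * q2) * q1 = (q1 * q1) * q2 * q1 := by group
        _ = q2 * q1 := by rw [hq1q1, one_mul]
    have hq1N : q1 ∈ Subgroup.normalizer (P : Set G) :=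
      BRN4aux.mem_normalizer_of_inverts hp hP hx hx1 hq1q1 hq1x
    have hq1o : orderOf q1 = 2 := by
      have : Fact (Nat.Prime 2) := ⟨Nat.prime_two⟩
      apply orderOf_eq_prime
      · rw [pow_two]; exact hq1q1
      · exact hq1ne
    obtain ⟨u, hu, hq1u⟩ := hN2 q1 hq1N hq1o
    refine ⟨⟨u, hu⟩, ?_⟩
    apply Subtype.ext
    rw [hf]
    show (τ * u, (τ * u)⁻¹ * x) = (q1, q2)
    rw [← hq1u, ← hq12, inv_mul_cancel_left]
  rw [← hP]
  exact (Nat.card_congr (Equiv.ofBijective f ⟨hinj, hsurj⟩)).symm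

end T

end Cfsg.Agent.Lib.Helper10.BR
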