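import Mathlib
import Cfsg.Agent.Lib.Helper83.Ortho
import Cfsg.Agent.Lib.Helper83.Quot
import Cfsg.Agent.Lib.Helper83.LinearCount
import Cfsg.Agent.Lib.Helper35.Virt
import Cfsg.Agent.Lib.Helper4.CharExp2
import Cfsg.Agent.Lib.Helper20.Gallagher
import Cfsg.Agent.Lib.Helper36.CharCoh

set_option autoImplicit false
open scoped ComplexConjugate
open Cfsg

namespace Cfsg.Agent.Lib.Helper20

section quotorth

variable {H : Type*} [Group H] [Fintype H] (M : Subgroup H) [M.Normal]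

open Classical in
/-- the regular character -/
theorem sum_degree_mul [Fintype (IrrCharacter H)] (y : H) :
    ∑ χ : IrrCharacter H, (χ : H → ℂ) 1 * (χ : H → ℂ) y =
      if y = 1 then (Nat.card H : ℂ) else 0 := by
  classical
  have h := Helper83.column_orthogonality (G := H) y 1
  have h1 : ∀ χ : IrrCharacter H, (χ : H → ℂ) y * conj ((χ : H → ℂ) 1) =
      (χ : H → ℂ) 1 * (χ : H → ℂ) y := by
    intro χ
    rw [Helper4.irr_one_conj, mul_comm]
  rw [Finset.sum_congr rfl (fun χ _ => h1 χ)] at h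
  rw [h]
  have h2 : (Subgroup.centralizer ({1} : Set H)) = ⊤ := by
    ext x
    simp [Subgroup.mem_centralizer_iff]
  by_cases hy : y = 1
  · rw [if_pos hy, if_pos (by rw [hy]), h2, Subgroup.card_top]
  · rw [if_neg hy, if_neg (fun hc => hy (isConj_one_right.mp hc))]

open Classical in
/-- column orthogonality for the characters with `M` in the kernel -/
theorem column_orth_quot [Fintype (IrrCharacter H)] (y y' : H) :
    ∑ χ : IrrCharacter H, (if (∀ x ∈ M, (χ : H → ℂ) x = (χ : H → ℂ) 1) then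
        (χ : H → ℂ) y * conj ((χ : H → ℂ) y') else 0) =
      if IsConj (y' : H ⧸ M) (y : H ⧸ M) then
        (Nat.card (Subgroup.centralizer ({(y' : H ⧸ M)} : Set (H ⧸ M))) : ℂ) else 0 := by
  have := Helper4.irr_finite (G := H ⧸ M)
  let _ : Fintype (IrrCharacter (H ⧸ M)) := Fintype.ofFinite _
  let _ : Fintype (H ⧸ M) := Fintype.ofFinite _
  have hco := Helper83.column_orthogonality (G := H ⧸ M) (y : H ⧸ M) (y' : H ⧸ M)
  rw [← Finset.sum_filter,
    Finset.sum_subtype (Finset.univ.filter _)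
      (p := fun χ : IrrCharacter H => ∀ x ∈ M, (χ : H → ℂ) x = (χ : H → ℂ) 1)
      (by intro χ; simp),
    ← Equiv.sum_comp (Helper83.inflateEquiv M)]
  by_cases hc : IsConj (y' : H ⧸ M) (y : H ⧸ M)
  · rw [if_pos hc] at hco ⊢
    rw [← hco]
    rfl
  · rw [if_neg hc] at hco ⊢
    rw [← hco]
    rfl

open Classical in
/-- the sum of the squares of the degrees of the characters with `M` in the kernel -/
theorem sum_sq_triv [Fintype (IrrCharacter H)] :
    ∑ χ : IrrCharacter H, (if (∀ x ∈ M, (χ : H → ℂ) x = (χ : H → ℂ) 1) then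
        (χ : H → ℂ) 1 * (χ : H → ℂ) 1 else 0) = (M.index : ℂ) := by
  have h := column_orth_quot M (1 : H) 1
  rw [if_pos (IsConj.refl _)] at h
  have h2 : (Subgroup.centralizer ({((1 : H) : H ⧸ M)} : Set (H ⧸ M))) = ⊤ := by
    ext x
    simp [Subgroup.mem_centralizer_iff]
  rw [h2, Subgroup.card_top] at h
  rw [Subgroup.index, ← h]
  apply Finset.sum_congr rfl
  intro χ _
  rw [Helper4.irr_one_conj]

/-- an irreducible character not trivial on `M` vanishes at every element whose centralizer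
meets `M` trivially -/
theorem irr_vanish_of_centralizer [Fintype (IrrCharacter H)] (y : H)
    (hy : ∀ k ∈ M, k * y = y * k → k = 1) (χ : IrrCharacter H)
    (hχ : ¬ ∀ x ∈ M, (χ : H → ℂ) x = (χ : H → ℂ) 1) : (χ : H → ℂ) y = 0 := by
  classical
  have h1 := Helper83.column_orthogonality_conj (G := H) (IsConj.refl y)
  have h2 := column_orth_quot M y y
  rw [if_pos (IsConj.refl _)] at h2
  have h3 : Nat.card (Subgroup.centralizer ({y} : Set H)) ≤
      Nat.card (Subgroup.centralizer ({(y : H ⧸ M)} : Set (H ⧸ M))) := by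
    let φ : Subgroup.centralizer ({y} : Set H) →
        Subgroup.centralizer ({(y : H ⧸ M)} : Set (H ⧸ M)) :=
      fun x => ⟨((x : H) : H ⧸ M), by
        rw [Subgroup.mem_centralizer_singleton_iff]
        have hx := Subgroup.mem_centralizer_singleton_iff.mp x.2
        rw [← QuotientGroup.mk_mul, ← QuotientGroup.mk_mul, hx]⟩
    apply Nat.card_le_card_of_injective φ
    intro x x' hxx
    have h : ((x : H) : H ⧸ M) = ((x' : H) : H ⧸ M) := congrArg Subtype.val hxx
    rw [QuotientGroup.eq] at h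
    have hx := Subgroup.mem_centralizer_singleton_iff.mp x.2
    have hx' := Subgroup.mem_centralizer_singleton_iff.mp x'.2
    have hc : (x : H)⁻¹ * (x' : H) * y = y * ((x : H)⁻¹ * (x' : H)) := by
      have hxi : (x : H)⁻¹ * y = y * (x : H)⁻¹ := by
        rw [inv_mul_eq_iff_eq_mul, ← mul_assoc, hx, mul_inv_cancel_right]
      rw [mul_assoc, hx', ← mul_assoc, hxi, mul_assoc]
    have h5 := hy _ h hc
    apply Subtype.ext
    exact inv_mul_eq_one.mp h5
  have e1 : ∑ χ : IrrCharacter H, Complex.normSq ((χ : H → ℂ) y) =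
      (Nat.card (Subgroup.centralizer ({y} : Set H)) : ℝ) := by
    apply Complex.ofReal_injective
    push_cast
    rw [← h1]
    exact Finset.sum_congr rfl (fun χ _ => (Complex.mul_conj _).symm)
  have e2 : ∑ χ : IrrCharacter H, (if (∀ x ∈ M, (χ : H → ℂ) x = (χ : H → ℂ) 1) then
      Complex.normSq ((χ : H → ℂ) y) else 0) =
      (Nat.card (Subgroup.centralizer ({(y : H ⧸ M)} : Set (H ⧸ M))) : ℝ) := by
    apply Complex.ofReal_injective
    push_cast
    rw [← h2]
    apply Finset.sum_congr rfl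
    intro χ _
    by_cases hP : ∀ x ∈ M, (χ : H → ℂ) x = (χ : H → ℂ) 1
    · rw [if_pos hP, if_pos hP]
      exact (Complex.mul_conj _).symm
    · rw [if_neg hP, if_neg hP]
      rfl
  have e3 : ∑ χ : IrrCharacter H, (if (∀ x ∈ M, (χ : H → ℂ) x = (χ : H → ℂ) 1) then (0 : ℝ) else
      Complex.normSq ((χ : H → ℂ) y)) ≤ 0 := by
    have h4 : ∑ χ : IrrCharacter H, (if (∀ x ∈ M, (χ : H → ℂ) x = (χ : H → ℂ) 1) then (0 : ℝ) else
        Complex.normSq ((χ : H → ℂ) y)) =
        ∑ χ : IrrCharacter H, Complex.normSq ((χ : H → ℂ) y) -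
        ∑ χ : IrrCharacter H, (if (∀ x ∈ M, (χ : H → ℂ) x = (χ : H → ℂ) 1) then
          Complex.normSq ((χ : H → ℂ) y) else 0) := by
      rw [← Finset.sum_sub_distrib]
      apply Finset.sum_congr rfl
      intro χ _
      by_cases hP : ∀ x ∈ M, (χ : H → ℂ) x = (χ : H → ℂ) 1
      · rw [if_pos hP, if_pos hP, sub_self]
      · rw [if_neg hP, if_neg hP, sub_zero]
    rw [h4, e1, e2]
    have h5 : (Nat.card (Subgroup.centralizer ({y} : Set H)) : ℝ) ≤
        (Nat.card (Subgroup.centralizer ({(y : H ⧸ M)} : Set (H ⧸ M))) : ℝ) := by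
      exact_mod_cast h3
    linarith
  have e4 : ∀ χ ∈ (Finset.univ : Finset (IrrCharacter H)),
      0 ≤ (if (∀ x ∈ M, (χ : H → ℂ) x = (χ : H → ℂ) 1) then (0 : ℝ) else
        Complex.normSq ((χ : H → ℂ) y)) := by
    intro χ _
    by_cases hP : ∀ x ∈ M, (χ : H → ℂ) x = (χ : H → ℂ) 1
    · rw [if_pos hP]
    · rw [if_neg hP]
      exact Complex.normSq_nonneg _
  have e5 := (Finset.sum_eq_zero_iff_of_nonneg e4).mp (le_antisymm e3 (Finset.sum_nonneg e4)) χ
    (Finset.mem_univ _)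
  rw [if_neg hχ] at e5
  exact Complex.normSq_eq_zero.mp e5

/-- an irreducible character not trivial on `M` sums to zero over `M` -/
theorem irr_sum_normal [Fintype M] (χ : IrrCharacter H)
    (hχ : ¬ ∀ x ∈ M, (χ : H → ℂ) x = (χ : H → ℂ) 1) : ∑ k : M, (χ : H → ℂ) (k : H) = 0 := by
  push Not at hχ
  obtain ⟨x, hx, hx1⟩ := hχ
  have h := Helper83.irr_sum_normal_eq_zero M χ.2 x hx hx1 1
  simpa using h

open Classical in
/-- a class function whose multiplicities at the characters not trivial on `M` are proportional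
to the degrees is constant on `M \ {1}` -/
theorem const_on_normal [Fintype (IrrCharacter H)] (f : H → ℂ) (hf : IsClassFunction H f) (b : ℂ)
    (hb : ∀ χ : IrrCharacter H, (¬ ∀ x ∈ M, (χ : H → ℂ) x = (χ : H → ℂ) 1) →
      classInner f (χ : H → ℂ) = b * (χ : H → ℂ) 1)
    (k : H) (hk : k ∈ M) (hk1 : k ≠ 1) :
    f k = (∑ χ : IrrCharacter H, if (∀ x ∈ M, (χ : H → ℂ) x = (χ : H → ℂ) 1) then
      classInner f (χ : H → ℂ) * (χ : H → ℂ) 1 else 0) - b * (M.index : ℂ) := by
  have hexp := Helper83.class_fun_expansion f (fun g x => hf g x)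
  have h1 : f k = ∑ χ : IrrCharacter H, classInner f (χ : H → ℂ) * (χ : H → ℂ) k := by
    conv_lhs => rw [hexp]
    rw [Finset.sum_apply]
    rfl
  have hE := sum_sq_triv M
  have hreg := sum_degree_mul (H := H) k
  rw [if_neg hk1] at hreg
  have hterm : ∀ χ : IrrCharacter H, classInner f (χ : H → ℂ) * (χ : H → ℂ) k =
      (if (∀ x ∈ M, (χ : H → ℂ) x = (χ : H → ℂ) 1) then
        classInner f (χ : H → ℂ) * (χ : H → ℂ) 1 else 0) +
      b * ((χ : H → ℂ) 1 * (χ : H → ℂ) k) -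
      b * (if (∀ x ∈ M, (χ : H → ℂ) x = (χ : H → ℂ) 1) then
        (χ : H → ℂ) 1 * (χ : H → ℂ) 1 else 0) := by
    intro χ
    by_cases hP : ∀ x ∈ M, (χ : H → ℂ) x = (χ : H → ℂ) 1
    · rw [if_pos hP, if_pos hP, hP k hk]
      ring
    · rw [if_neg hP, if_neg hP, hb χ hP]
      ring
  rw [h1, Finset.sum_congr rfl (fun χ _ => hterm χ), Finset.sum_sub_distrib,
    Finset.sum_add_distrib, ← Finset.mul_sum, ← Finset.mul_sum, hreg, hE]
  ring

open Classical in
/-- the index of a nontrivial normal subgroup `M` is an integral combination of the degrees of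
the irreducible characters not trivial on `M` -/
theorem index_mem_span_degrees [Fintype (IrrCharacter H)] (k : H) (hk : k ∈ M) (hk1 : k ≠ 1) :
    ∃ n : IrrCharacter H → ℤ, (M.index : ℂ) =
      ∑ χ : IrrCharacter H, if (∀ x ∈ M, (χ : H → ℂ) x = (χ : H → ℂ) 1) then 0
        else (n χ : ℂ) * (χ : H → ℂ) 1 := by
  obtain ⟨C, hC⟩ : ∃ C : Subgroup H, C = Subgroup.zpowers k := ⟨_, rfl⟩
  have hCM : C ≤ M := by
    rw [hC]
    exact Subgroup.zpowers_le.mpr hk
  have hcomm : IsMulCommutative C := by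
    rw [hC]
    infer_instance
  let _ : Fintype C := Fintype.ofFinite C
  have hcard : 2 ≤ Nat.card C := by
    rw [hC, Nat.card_zpowers]
    have h0 : 0 < orderOf k := orderOf_pos k
    have h1 : orderOf k ≠ 1 := fun h => hk1 (orderOf_eq_one_iff.mp h)
    omega
  have hcardIrr : Nat.card (IrrCharacter C) = Nat.card C := Helper83.card_irr_comm
  have hfinIrr := Helper4.irr_finite (G := C)
  have hnt : Nontrivial (IrrCharacter C) := by
    apply (Finite.one_lt_card_iff_nontrivial).mp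
    omega
  obtain ⟨lam, hlam⟩ := exists_ne (Helper83.trivIrr C)
  have hlam1 : (lam : C → ℂ) 1 = 1 := Helper83.irr_comm_degree lam.2
  have hC0 : (Nat.card C : ℂ) ≠ 0 := by
    have : 0 < Nat.card C := Nat.card_pos
    exact_mod_cast this.ne'
  -- the key identity
  have key : ∀ μ : C → ℂ, ∑ χ : IrrCharacter H,
      (χ : H → ℂ) 1 * classInner (Helper35.res C (χ : H → ℂ)) μ =
      (Nat.card H : ℂ) / (Nat.card C : ℂ) * conj (μ 1) := by
    intro μ
    unfold classInner
    have h1 : ∀ χ : IrrCharacter H, (χ : H → ℂ) 1 * ((Nat.card C : ℂ)⁻¹ *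
        ∑ c : C, Helper35.res C (χ : H → ℂ) c * conj (μ c)) =
        (Nat.card C : ℂ)⁻¹ * ∑ c : C, conj (μ c) * ((χ : H → ℂ) 1 * (χ : H → ℂ) (c : H)) := by
      intro χ
      rw [Finset.mul_sum, Finset.mul_sum, Finset.mul_sum]
      apply Finset.sum_congr rfl
      intro c _
      rw [Helper35.res_apply]
      ring
    rw [Finset.sum_congr rfl (fun χ _ => h1 χ), ← Finset.mul_sum, Finset.sum_comm]
    have h2 : ∀ c : C, ∑ χ : IrrCharacter H,
        conj (μ c) * ((χ : H → ℂ) 1 * (χ : H → ℂ) (c : H)) =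
        if c = 1 then conj (μ 1) * (Nat.card H : ℂ) else 0 := by
      intro c
      rw [← Finset.mul_sum, sum_degree_mul]
      by_cases hc : c = 1
      · rw [if_pos hc, if_pos (by rw [hc]; rfl), hc]
      · rw [if_neg hc, if_neg (fun h : (c : H) = 1 => hc (Subtype.ext h)), mul_zero]
    rw [Finset.sum_congr rfl (fun c _ => h2 c), Finset.sum_ite_eq', if_pos (Finset.mem_univ _)]
    field_simp
  have hm := fun χ : IrrCharacter H => Helper35.classInner_char_nat
    (Helper35.isCharacter_res C (Helper35.isChar_of_irr χ.2)) (Helper35.isChar_of_irr lam.2)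
  have hm' := fun χ : IrrCharacter H => Helper35.classInner_char_nat
    (Helper35.isCharacter_res C (Helper35.isChar_of_irr χ.2))
    (Helper35.isChar_of_irr (Helper83.isIrr_one (G := C)))
  choose m hm using hm
  choose m' hm' using hm'
  have k1 := key (lam : C → ℂ)
  have k2 := key (fun _ => (1 : ℂ))
  rw [hlam1, map_one, mul_one] at k1
  rw [map_one, mul_one] at k2
  -- characters trivial on `M`
  have hres : ∀ χ : IrrCharacter H, (∀ x ∈ M, (χ : H → ℂ) x = (χ : H → ℂ) 1) →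
      Helper35.res C (χ : H → ℂ) = ((χ : H → ℂ) 1) • (fun _ : C => (1 : ℂ)) := by
    intro χ hP
    funext c
    rw [Helper35.res_apply, hP _ (hCM c.2)]
    simp
  have hlamne : (fun _ : C => (1 : ℂ)) ≠ (lam : C → ℂ) := by
    intro h
    apply hlam
    apply Subtype.ext
    exact h.symm
  have ht1 : ∀ χ : IrrCharacter H, (∀ x ∈ M, (χ : H → ℂ) x = (χ : H → ℂ) 1) →
      (m χ : ℂ) = 0 := by
    intro χ hP
    rw [← hm χ, hres χ hP, Helper35.classInner_smul_left,
      Helper35.classInner_irr' Helper83.isIrr_one lam.2, if_neg hlamne, mul_zero]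
  have ht2 : ∀ χ : IrrCharacter H, (∀ x ∈ M, (χ : H → ℂ) x = (χ : H → ℂ) 1) →
      (m' χ : ℂ) = (χ : H → ℂ) 1 := by
    intro χ hP
    rw [← hm' χ, hres χ hP, Helper35.classInner_smul_left,
      Helper35.classInner_irr' Helper83.isIrr_one Helper83.isIrr_one, if_pos rfl, mul_one]
  refine ⟨fun χ => (m χ : ℤ) - (m' χ : ℤ), ?_⟩
  rw [← sum_sq_triv M]
  have hdiff : ∑ χ : IrrCharacter H, ((χ : H → ℂ) 1 * (m χ : ℂ) - (χ : H → ℂ) 1 * (m' χ : ℂ)) = 0 := by
    rw [Finset.sum_sub_distrib]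
    have e1 : ∑ χ : IrrCharacter H, (χ : H → ℂ) 1 * (m χ : ℂ) =
        (Nat.card H : ℂ) / (Nat.card C : ℂ) := by
      rw [← k1]
      exact Finset.sum_congr rfl (fun χ _ => by rw [hm χ])
    have e2 : ∑ χ : IrrCharacter H, (χ : H → ℂ) 1 * (m' χ : ℂ) =
        (Nat.card H : ℂ) / (Nat.card C : ℂ) := by
      rw [← k2]
      exact Finset.sum_congr rfl (fun χ _ => by rw [hm' χ])
    rw [e1, e2, sub_self]
  have e : ∀ χ : IrrCharacter H,
      (if (∀ x ∈ M, (χ : H → ℂ) x = (χ : H → ℂ) 1) then (χ : H → ℂ) 1 * (χ : H → ℂ) 1 else 0) -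
      (if (∀ x ∈ M, (χ : H → ℂ) x = (χ : H → ℂ) 1) then 0
        else (((m χ : ℤ) - (m' χ : ℤ) : ℤ) : ℂ) * (χ : H → ℂ) 1) =
      -((χ : H → ℂ) 1 * (m χ : ℂ) - (χ : H → ℂ) 1 * (m' χ : ℂ)) := by
    intro χ
    by_cases hP : ∀ x ∈ M, (χ : H → ℂ) x = (χ : H → ℂ) 1
    · rw [if_pos hP, if_pos hP, ht1 χ hP, ht2 χ hP]
      ring
    · rw [if_neg hP, if_neg hP]
      push_cast
      ring
  rw [← sub_eq_zero, ← Finset.sum_sub_distrib, Finset.sum_congr rfl (fun χ _ => e χ),
    Finset.sum_neg_distrib, hdiff, neg_zero]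

open Classical in
/-- a generalized character whose multiplicities at the characters not trivial on `M` are
proportional to the degrees takes a constant integer value on `M \ {1}` -/
theorem const_on_normal_int [Fintype (IrrCharacter H)] (f : H → ℂ)
    (hf : IsGeneralizedCharacter H f)
    (hprop : ∀ χ ξ : IrrCharacter H, (¬ ∀ x ∈ M, (χ : H → ℂ) x = (χ : H → ℂ) 1) →
      (¬ ∀ x ∈ M, (ξ : H → ℂ) x = (ξ : H → ℂ) 1) →
      (ξ : H → ℂ) 1 * classInner f (χ : H → ℂ) = (χ : H → ℂ) 1 * classInner f (ξ : H → ℂ))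
    (k₀ : H) (hk₀ : k₀ ∈ M) (hk₀1 : k₀ ≠ 1) :
    ∃ v : ℤ, ∀ k ∈ M, k ≠ 1 → f k = v := by
  have hcf : IsClassFunction H f := by
    obtain ⟨a, b, ha, hb, rfl⟩ := hf
    intro g h
    rw [Pi.sub_apply, Pi.sub_apply, Helper35.isClassFunction_of_isCharacter ha g h,
      Helper35.isClassFunction_of_isCharacter hb g h]
  have hint : ∀ χ : IrrCharacter H, ∃ z : ℤ, classInner f (χ : H → ℂ) = z := fun χ =>
    Helper35.classInner_gen_int hf (Helper35.isGenChar_of_char (Helper35.isChar_of_irr χ.2))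
  choose z hz using hint
  obtain ⟨n, hn⟩ := index_mem_span_degrees M k₀ hk₀ hk₀1
  have hdeg := fun χ : IrrCharacter H => Helper4.irr_one_nat χ
  choose d hdpos hd using hdeg
  obtain ⟨b, hb⟩ : ∃ b : ℂ, ∀ χ : IrrCharacter H,
      (¬ ∀ x ∈ M, (χ : H → ℂ) x = (χ : H → ℂ) 1) → classInner f (χ : H → ℂ) = b * (χ : H → ℂ) 1 := by
    by_cases hex : ∃ χ₀ : IrrCharacter H, ¬ ∀ x ∈ M, (χ₀ : H → ℂ) x = (χ₀ : H → ℂ) 1
    · obtain ⟨χ₀, hχ₀⟩ := hex
      refine ⟨classInner f (χ₀ : H → ℂ) / (χ₀ : H → ℂ) 1, fun χ hχ => ?_⟩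
      have h := hprop χ χ₀ hχ hχ₀
      have h0 := Helper4.irr_one_ne_zero χ₀
      field_simp
      linear_combination h
    · exact ⟨0, fun χ hχ => absurd ⟨χ, hχ⟩ hex⟩
  refine ⟨(∑ χ : IrrCharacter H, if (∀ x ∈ M, (χ : H → ℂ) x = (χ : H → ℂ) 1) then
      z χ * (d χ : ℤ) else 0) - ∑ χ : IrrCharacter H,
      (if (∀ x ∈ M, (χ : H → ℂ) x = (χ : H → ℂ) 1) then 0 else n χ * z χ), fun k hk hk1 => ?_⟩
  rw [const_on_normal M f hcf b hb k hk hk1, hn, Finset.mul_sum]
  push_cast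
  congr 1
  · apply Finset.sum_congr rfl
    intro χ _
    by_cases hP : ∀ x ∈ M, (χ : H → ℂ) x = (χ : H → ℂ) 1
    · rw [if_pos hP, if_pos hP, hz, hd]
    · rw [if_neg hP, if_neg hP]
  · apply Finset.sum_congr rfl
    intro χ _
    by_cases hP : ∀ x ∈ M, (χ : H → ℂ) x = (χ : H → ℂ) 1
    · rw [if_pos hP, if_pos hP, mul_zero]
    · rw [if_neg hP, if_neg hP, ← hz, hb χ hP]
      ring

/-- an irreducible character not trivial on `M` and vanishing off `M` is not constant on
`M \ {1}` when there is a second such character -/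
theorem irr_nonconst [Fintype M] (χ ξ : IrrCharacter H) (hne : χ ≠ ξ)
    (hχ : ¬ ∀ x ∈ M, (χ : H → ℂ) x = (χ : H → ℂ) 1)
    (hξ : ¬ ∀ x ∈ M, (ξ : H → ℂ) x = (ξ : H → ℂ) 1)
    (hvan : ∀ y : H, y ∉ M → (χ : H → ℂ) y = 0) :
    ∃ a ∈ M, ∃ b ∈ M, a ≠ 1 ∧ b ≠ 1 ∧ (χ : H → ℂ) a ≠ (χ : H → ℂ) b := by
  classical
  by_contra hcon
  push Not at hcon
  have hχ' := hχ
  push Not at hχ'
  obtain ⟨k₁, hk₁, hk₁1⟩ := hχ'
  have hk₁ne : k₁ ≠ 1 := by
    intro h
    rw [h] at hk₁1
    exact hk₁1 rfl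
  have hv : ∀ k ∈ M, k ≠ 1 → (χ : H → ℂ) k = (χ : H → ℂ) k₁ :=
    fun k hk hk1 => hcon k hk k₁ hk₁ hk1 hk₁ne
  have horth := Helper4.classInner_irr χ ξ
  rw [if_neg hne] at horth
  unfold classInner at horth
  have hcard : (Nat.card H : ℂ)⁻¹ ≠ 0 := by
    apply inv_ne_zero
    have : 0 < Nat.card H := Nat.card_pos
    exact_mod_cast this.ne'
  have hsum : ∑ y : H, (χ : H → ℂ) y * conj ((ξ : H → ℂ) y) = 0 := by
    rcases mul_eq_zero.mp horth with h | h
    · exact absurd h hcard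
    · exact h
  rw [sum_eq_sum_subgroup M (fun y => (χ : H → ℂ) y * conj ((ξ : H → ℂ) y))
    (fun y hy => by rw [hvan y hy, zero_mul])] at hsum
  have hterm : ∀ k : M, (χ : H → ℂ) (k : H) * conj ((ξ : H → ℂ) (k : H)) =
      (χ : H → ℂ) k₁ * conj ((ξ : H → ℂ) (k : H)) +
      (if k = 1 then ((χ : H → ℂ) 1 - (χ : H → ℂ) k₁) * conj ((ξ : H → ℂ) 1) else 0) := by
    intro k
    by_cases hk : k = 1
    · rw [if_pos hk, hk]
      simp only [OneMemClass.coe_one]
      ring
    · rw [if_neg hk, add_zero, hv (k : H) k.2 (fun h => hk (Subtype.ext h))]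
  rw [Finset.sum_congr rfl (fun k _ => hterm k), Finset.sum_add_distrib, ← Finset.mul_sum,
    Finset.sum_ite_eq', if_pos (Finset.mem_univ _), ← map_sum, irr_sum_normal M ξ hξ, map_zero,
    mul_zero, zero_add] at hsum
  rcases mul_eq_zero.mp hsum with h | h
  · exact hk₁1 (sub_eq_zero.mp h).symm
  · rw [Helper4.irr_one_conj] at h
    exact Helper4.irr_one_ne_zero ξ h

end quotorth

end Cfsg.Agent.Lib.Helper20
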