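import Mathlib
import Cfsg.Agent.Lib.Helper20.Frob

set_option autoImplicit false
open scoped ComplexConjugate
open Cfsg

namespace Cfsg.Agent.Lib.Helper20

theorem tifn_mem_iff {G : Type*} [Group G] (K N : Subgroup G) (χ : N → ℂ) :
    (IsIrrCharacter N χ ∧ ∃ k : N, (k : G) ∈ K ∧ χ k ≠ χ 1) ↔
      IsIrrCharacter N χ ∧ ¬ ∀ x ∈ K.subgroupOf N, χ x = χ 1 := by
  constructor
  · rintro ⟨h1, k, hk, hk1⟩
    exact ⟨h1, fun h => hk1 (h k (Subgroup.mem_subgroupOf.mpr hk))⟩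
  · rintro ⟨h1, h2⟩
    push Not at h2
    obtain ⟨k, hk, hk1⟩ := h2
    exact ⟨h1, k, Subgroup.mem_subgroupOf.mp hk, hk1⟩

/-- the data of a coherent set of characters of the normalizer `N` of a T.I. subgroup `K` with
Frobenius normalizer -/
structure Tifn {G : Type*} [Group G] [Fintype G] (K N : Subgroup G) [Fintype N]
    (S : Set (N → ℂ)) (star : (N → ℂ) → (G → ℂ)) : Prop where
  hMn : (K.subgroupOf N).Normal
  hC : ∀ k ∈ K, k ≠ 1 → Subgroup.centralizer ({k} : Set G) ≤ K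
  hind : ∀ ϑ : N → ℂ, IsClassFunction N ϑ → (∀ x : N, (x : G) ∉ K → ϑ x = 0) → ϑ 1 = 0 →
    ∀ x : N, indFun N ϑ x = ϑ x
  hS : S = {χ : N → ℂ | IsIrrCharacter N χ ∧ ∃ k : N, (k : G) ∈ K ∧ χ k ≠ χ 1}
  hstar : IsLinearIsometryOn (zspan S) star
  hext : ∀ α ∈ zspanOn S ({1}ᶜ : Set N), star α = indFun N α

namespace Tifn

variable {G : Type*} [Group G] [Fintype G] {K N : Subgroup G} [Fintype N]
  {S : Set (N → ℂ)} {star : (N → ℂ) → (G → ℂ)} (T : Tifn K N S star)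

include T

theorem irr (χ : N → ℂ) (hχ : χ ∈ S) : IsIrrCharacter N χ := by
  rw [T.hS] at hχ
  exact hχ.1

theorem not_triv (χ : N → ℂ) (hχ : χ ∈ S) : ¬ ∀ x ∈ K.subgroupOf N, χ x = χ 1 := by
  rw [T.hS] at hχ
  exact ((tifn_mem_iff K N χ).mp hχ).2

theorem mem_of (χ : IrrCharacter N)
    (hχ : ¬ ∀ x ∈ K.subgroupOf N, (χ : N → ℂ) x = (χ : N → ℂ) 1) : (χ : N → ℂ) ∈ S := by
  rw [T.hS]
  exact (tifn_mem_iff K N χ).mpr ⟨χ.2, hχ⟩

theorem vanish (χ : N → ℂ) (hχ : χ ∈ S) (y : N) (hy : (y : G) ∉ K) : χ y = 0 := by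
  classical
  have := Helper4.irr_finite (G := N)
  let _ : Fintype (IrrCharacter N) := Fintype.ofFinite _
  have := T.hMn
  apply irr_vanish_of_centralizer (K.subgroupOf N) y ?_ ⟨χ, T.irr χ hχ⟩ (T.not_triv χ hχ)
  intro k hk hky
  by_contra hk1
  have hk1' : (k : G) ≠ 1 := fun h => hk1 (Subtype.ext h)
  have h1 := T.hC (k : G) (Subgroup.mem_subgroupOf.mp hk) hk1'
  apply hy
  apply h1
  rw [Subgroup.mem_centralizer_singleton_iff]
  have h2 : (k : G) * (y : G) = (y : G) * (k : G) := congrArg Subtype.val hky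
  exact h2.symm

theorem alpha_mem (χ ξ : N → ℂ) (hχ : χ ∈ S) (hξ : ξ ∈ S) (dχ dξ : ℕ) (h1 : χ 1 = dχ)
    (h2 : ξ 1 = dξ) : (dξ : ℤ) • χ - (dχ : ℤ) • ξ ∈ zspanOn S ({1}ᶜ : Set N) :=
  Helper36.degDiff_mem hχ hξ dχ dξ h1 h2

theorem star_alpha (χ ξ : N → ℂ) (hχ : χ ∈ S) (hξ : ξ ∈ S) (dχ dξ : ℕ) :
    star ((dξ : ℤ) • χ - (dχ : ℤ) • ξ) = (dξ : ℤ) • star χ - (dχ : ℤ) • star ξ := by
  have h1 := Helper36.subset_zspan S hχ
  have h2 := Helper36.subset_zspan S hξ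
  rw [Helper36.isoOn_sub T.hstar (fun b hb => Helper36.zspan_neg hb) (Helper36.zspan_zsmul h1 _)
    (Helper36.zspan_zsmul h2 _), T.hstar.2.1 χ h1, T.hstar.2.1 ξ h2]

theorem ind_alpha_apply (χ ξ : N → ℂ) (hχ : χ ∈ S) (hξ : ξ ∈ S) (dχ dξ : ℕ) (h1 : χ 1 = dχ)
    (h2 : ξ 1 = dξ) (x : N) :
    indFun N ((dξ : ℤ) • χ - (dχ : ℤ) • ξ) x = ((dξ : ℤ) • χ - (dχ : ℤ) • ξ) x := by
  have c1 : IsClassFunction N χ :=
    Helper4.isClassFunction_irr (⟨χ, T.irr χ hχ⟩ : IrrCharacter N)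
  have c2 : IsClassFunction N ξ :=
    Helper4.isClassFunction_irr (⟨ξ, T.irr ξ hξ⟩ : IrrCharacter N)
  apply T.hind
  · intro g h
    simp only [Pi.sub_apply, Pi.smul_apply]
    rw [c1 g h, c2 g h]
  · intro y hy
    simp only [Pi.sub_apply, Pi.smul_apply]
    rw [T.vanish χ hχ y hy, T.vanish ξ hξ y hy]
    simp
  · simp only [Pi.sub_apply, Pi.smul_apply]
    rw [h1, h2]
    simp only [zsmul_eq_mul]
    push_cast
    ring

/-- the defects `star χ k - χ k` are proportional to the degrees -/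
theorem prop (χ ξ : N → ℂ) (hχ : χ ∈ S) (hξ : ξ ∈ S) (k : N) :
    ξ 1 * (star χ (k : G) - χ k) = χ 1 * (star ξ (k : G) - ξ k) := by
  obtain ⟨dχ, -, h1⟩ := Helper4.irr_one_nat (⟨χ, T.irr χ hχ⟩ : IrrCharacter N)
  obtain ⟨dξ, -, h2⟩ := Helper4.irr_one_nat (⟨ξ, T.irr ξ hξ⟩ : IrrCharacter N)
  have h1' : χ 1 = dχ := h1
  have h2' : ξ 1 = dξ := h2
  have e1 := congrFun (T.star_alpha χ ξ hχ hξ dχ dξ) (k : G)
  rw [T.hext _ (T.alpha_mem χ ξ hχ hξ dχ dξ h1' h2'),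
    T.ind_alpha_apply χ ξ hχ hξ dχ dξ h1' h2' k] at e1
  simp only [Pi.sub_apply, Pi.smul_apply] at e1
  simp only [zsmul_eq_mul] at e1
  push_cast at e1
  rw [h1', h2']
  linear_combination -e1

theorem inner_alpha (Ψ : G → ℂ) (hΨ : IsClassFunction G Ψ) (χ ξ : N → ℂ) (hχ : χ ∈ S)
    (hξ : ξ ∈ S) (dχ dξ : ℕ) (h1 : χ 1 = dχ) (h2 : ξ 1 = dξ) :
    classInner (Helper35.res N Ψ) ((dξ : ℤ) • χ - (dχ : ℤ) • ξ) =
      classInner Ψ (star ((dξ : ℤ) • χ - (dχ : ℤ) • ξ)) := by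
  rw [T.hext _ (T.alpha_mem χ ξ hχ hξ dχ dξ h1 h2)]
  exact (Helper35.frobenius_reciprocity' N _ Ψ hΨ).symm

/-- on `K \ {1}` the character `star χ` differs from `χ` by a constant integer -/
theorem exists_value (χ₁ : N → ℂ) (hχ₁ : χ₁ ∈ S) (k₀ : N) (hk₀ : (k₀ : G) ∈ K) (hk₀1 : k₀ ≠ 1) :
    ∃ v : ℤ, ∀ k : N, (k : G) ∈ K → k ≠ 1 → star χ₁ (k : G) - χ₁ k = v := by
  classical
  have := Helper4.irr_finite (G := N)
  let _ : Fintype (IrrCharacter N) := Fintype.ofFinite _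
  have := T.hMn
  have hz1 := Helper36.subset_zspan S hχ₁
  have hgen : IsGeneralizedCharacter G (star χ₁) := T.hstar.2.2.2 χ₁ hz1
  have hcfG : IsClassFunction G (star χ₁) := by
    obtain ⟨a, b, ha, hb, hab⟩ := hgen
    intro g h
    rw [hab, Pi.sub_apply, Pi.sub_apply, Helper35.isClassFunction_of_isCharacter ha g h,
      Helper35.isClassFunction_of_isCharacter hb g h]
  have hf : IsGeneralizedCharacter N (Helper35.res N (star χ₁) - χ₁) :=
    Helper35.isGenChar_sub (Helper35.isGenChar_res N hgen)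
      (Helper35.isGenChar_of_char (Helper35.isChar_of_irr (T.irr χ₁ hχ₁)))
  obtain ⟨v, hv⟩ := const_on_normal_int (K.subgroupOf N) (Helper35.res N (star χ₁) - χ₁) hf (by
    intro χ ξ hχ hξ
    obtain ⟨dχ, -, h1⟩ := Helper4.irr_one_nat χ
    obtain ⟨dξ, -, h2⟩ := Helper4.irr_one_nat ξ
    have hχS := T.mem_of χ hχ
    have hξS := T.mem_of ξ hξ
    have e1 : classInner (Helper35.res N (star χ₁) - χ₁)
        ((dξ : ℤ) • (χ : N → ℂ) - (dχ : ℤ) • (ξ : N → ℂ)) = 0 := by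
      rw [Helper35.classInner_sub_left, T.inner_alpha (star χ₁) hcfG _ _ hχS hξS dχ dξ h1 h2,
        T.hstar.2.2.1 χ₁ hz1 _ (T.alpha_mem _ _ hχS hξS dχ dξ h1 h2).1, sub_self]
    rw [Helper35.classInner_sub_right, Helper36.classInner_zsmul_right,
      Helper36.classInner_zsmul_right] at e1
    push_cast at e1
    rw [h1, h2]
    linear_combination e1) k₀ (Subgroup.mem_subgroupOf.mpr hk₀) hk₀1
  refine ⟨v, fun k hk hk1 => ?_⟩
  have h := hv k (Subgroup.mem_subgroupOf.mpr hk) hk1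
  exact h

/-- a character of `G` orthogonal to all `star χ` is constant on `K \ {1}` -/
theorem const_of_orth (ψ : G → ℂ) (hψ : IsCharacter G ψ)
    (horth : ∀ χ ∈ S, classInner ψ (star χ) = 0) (a b : N) (ha : (a : G) ∈ K) (ha1 : a ≠ 1)
    (hb : (b : G) ∈ K) (hb1 : b ≠ 1) : ψ (a : G) = ψ (b : G) := by
  classical
  have := Helper4.irr_finite (G := N)
  let _ : Fintype (IrrCharacter N) := Fintype.ofFinite _
  have := T.hMn
  have hcfG : IsClassFunction G ψ := Helper35.isClassFunction_of_isCharacter hψ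
  have hf : IsGeneralizedCharacter N (Helper35.res N ψ) :=
    Helper35.isGenChar_of_char (Helper35.isCharacter_res N hψ)
  obtain ⟨v, hv⟩ := const_on_normal_int (K.subgroupOf N) (Helper35.res N ψ) hf (by
    intro χ ξ hχ hξ
    obtain ⟨dχ, -, h1⟩ := Helper4.irr_one_nat χ
    obtain ⟨dξ, -, h2⟩ := Helper4.irr_one_nat ξ
    have hχS := T.mem_of χ hχ
    have hξS := T.mem_of ξ hξ
    have e1 : classInner (Helper35.res N ψ)
        ((dξ : ℤ) • (χ : N → ℂ) - (dχ : ℤ) • (ξ : N → ℂ)) = 0 := by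
      rw [T.inner_alpha ψ hcfG _ _ hχS hξS dχ dξ h1 h2, T.star_alpha _ _ hχS hξS,
        Helper35.classInner_sub_right, Helper36.classInner_zsmul_right,
        Helper36.classInner_zsmul_right, horth _ hχS, horth _ hξS]
      simp
    rw [Helper35.classInner_sub_right, Helper36.classInner_zsmul_right,
      Helper36.classInner_zsmul_right] at e1
    push_cast at e1
    rw [h1, h2]
    linear_combination e1) a (Subgroup.mem_subgroupOf.mpr ha) ha1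
  have h1 := hv a (Subgroup.mem_subgroupOf.mpr ha) ha1
  have h2 := hv b (Subgroup.mem_subgroupOf.mpr hb) hb1
  exact h1.trans h2.symm

/-- a member of `S` is not constant on `K \ {1}` when `S` has a second member -/
theorem nonconst (χ ξ : N → ℂ) (hχ : χ ∈ S) (hξ : ξ ∈ S) (hne : χ ≠ ξ) :
    ∃ a b : N, (a : G) ∈ K ∧ a ≠ 1 ∧ (b : G) ∈ K ∧ b ≠ 1 ∧ χ a ≠ χ b := by
  classical
  have := T.hMn
  let _ : Fintype (K.subgroupOf N) := Fintype.ofFinite _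
  obtain ⟨a, ha, b, hb, ha1, hb1, hab⟩ := irr_nonconst (K.subgroupOf N)
    (⟨χ, T.irr χ hχ⟩ : IrrCharacter N) ⟨ξ, T.irr ξ hξ⟩
    (fun h => hne (congrArg Subtype.val h)) (T.not_triv χ hχ) (T.not_triv ξ hξ)
    (fun y hy => T.vanish χ hχ y (fun h => hy (Subgroup.mem_subgroupOf.mpr h)))
  exact ⟨a, b, Subgroup.mem_subgroupOf.mp ha, ha1, Subgroup.mem_subgroupOf.mp hb, hb1, hab⟩

end Tifn

end Cfsg.Agent.Lib.Helper20
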