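import Mathlib
import Cfsg.Agent.Lib.Helper20.Tifn
import Cfsg.Agent.Lib.Helper20.Ito
import Cfsg.Agent.Lib.Helper20.Clifford
import Cfsg.Agent.Lib.Helper20.LinChar
import Cfsg.Agent.Lib.Helper4.IndFun

set_option autoImplicit false
open scoped ComplexConjugate
open Cfsg

namespace Cfsg.Agent.Lib.Helper20

section comb

theorem comb_aux {O X : Type*} (μ ν : O → X)
    (H : ∀ ξ ζ : O, ξ ≠ ζ → (μ ξ = μ ζ ∧ ν ξ ≠ ν ζ) ∨ (ν ξ = ν ζ ∧ μ ξ ≠ μ ζ)) :
    (∀ ξ ζ, μ ξ = μ ζ) ∨ (∀ ξ ζ, ν ξ = ν ζ) := by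
  classical
  by_cases hA : ∀ ξ ζ, μ ξ = μ ζ
  · exact Or.inl hA
  · right
    push Not at hA
    obtain ⟨ξ₀, ζ₀, h0⟩ := hA
    have hne0 : ξ₀ ≠ ζ₀ := fun h => h0 (by rw [h])
    have hν0 : ν ξ₀ = ν ζ₀ := by
      rcases H ξ₀ ζ₀ hne0 with h | h
      · exact absurd h.1 h0
      · exact h.1
    have key : ∀ η, ν η = ν ξ₀ := by
      intro η
      by_cases h1 : η = ξ₀
      · rw [h1]
      by_cases h2 : η = ζ₀
      · rw [h2, hν0]
      rcases H ξ₀ η (Ne.symm h1) with h | h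
      · rcases H ζ₀ η (Ne.symm h2) with h' | h'
        · exact absurd (h.1.trans h'.1.symm) h0
        · exact absurd (hν0.trans h'.1) h.2
      · exact h.1.symm
    intro ξ ζ
    rw [key ξ, key ζ]

end comb

section coherent

variable {G : Type*} [Group G] [Fintype G]

open Classical in
theorem inner_diff_irr (μ ν μ' ν' : IrrCharacter G) :
    classInner ((μ : G → ℂ) - (ν : G → ℂ)) ((μ' : G → ℂ) - (ν' : G → ℂ)) =
      (if μ = μ' then (1 : ℂ) else 0) - (if μ = ν' then (1 : ℂ) else 0) -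
        (if ν = μ' then (1 : ℂ) else 0) + (if ν = ν' then (1 : ℂ) else 0) := by
  have e1 : classInner (μ : G → ℂ) (μ' : G → ℂ) = if μ = μ' then (1 : ℂ) else 0 := by
    exact Helper4.classInner_irr μ μ'
  have e2 : classInner (μ : G → ℂ) (ν' : G → ℂ) = if μ = ν' then (1 : ℂ) else 0 := by
    exact Helper4.classInner_irr μ ν'
  have e3 : classInner (ν : G → ℂ) (μ' : G → ℂ) = if ν = μ' then (1 : ℂ) else 0 := by
    exact Helper4.classInner_irr ν μ'
  have e4 : classInner (ν : G → ℂ) (ν' : G → ℂ) = if ν = ν' then (1 : ℂ) else 0 := by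
    exact Helper4.classInner_irr ν ν'
  rw [Helper35.classInner_sub_left, Helper35.classInner_sub_right, Helper35.classInner_sub_right,
    e1, e2, e3, e4]
  ring

open Classical in
/-- a family of class functions whose differences are generalized characters of norm `2`
vanishing at `1` with pairwise inner products `1` is coherent -/
theorem coherent_of_norm_two {ι : Type*} (I : ι → G → ℂ)
    (h1 : ∀ χ ξ : ι, χ ≠ ξ → IsGeneralizedCharacter G (I χ - I ξ) ∧ (I χ - I ξ) 1 = 0)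
    (h2 : ∀ χ ξ ζ : ι, χ ≠ ξ → χ ≠ ζ →
      classInner (I χ - I ξ) (I χ - I ζ) = if ξ = ζ then 2 else 1) :
    ∃ (ε : ℂ) (f : ι → IrrCharacter G), (ε = 1 ∨ ε = -1) ∧ Function.Injective f ∧
      ∀ χ ξ, I χ - I ξ = ε • ((f χ : G → ℂ) - (f ξ : G → ℂ)) := by
  classical
  by_cases hne : Nonempty ι
  swap
  · exact ⟨1, fun _ => Helper83.trivIrr G, Or.inl rfl, fun a => absurd ⟨a⟩ hne,
      fun χ => absurd ⟨χ⟩ hne⟩
  obtain ⟨χ₁⟩ := hne
  have hdec : ∀ ξ : ι, ∃ μ ν : IrrCharacter G, ξ ≠ χ₁ →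
      μ ≠ ν ∧ I χ₁ - I ξ = (μ : G → ℂ) - (ν : G → ℂ) := by
    intro ξ
    by_cases hξ : ξ = χ₁
    · exact ⟨Helper83.trivIrr G, Helper83.trivIrr G, fun h => absurd hξ h⟩
    · obtain ⟨hg, h0⟩ := h1 χ₁ ξ (Ne.symm hξ)
      have hn := h2 χ₁ ξ ξ (Ne.symm hξ) (Ne.symm hξ)
      rw [if_pos rfl] at hn
      obtain ⟨m₁, m₂, hm₁, hm₂, hne, heq⟩ := Helper35.gen_norm_two hg hn h0
      exact ⟨⟨m₁, hm₁⟩, ⟨m₂, hm₂⟩, fun _ => ⟨fun h => hne (congrArg Subtype.val h), heq⟩⟩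
  choose μ ν hμν using hdec
  have H : ∀ ξ ζ : ι, ξ ≠ χ₁ → ζ ≠ χ₁ → ξ ≠ ζ →
      (μ ξ = μ ζ ∧ ν ξ ≠ ν ζ) ∨ (ν ξ = ν ζ ∧ μ ξ ≠ μ ζ) := by
    intro ξ ζ hξ hζ hξζ
    have e := h2 χ₁ ξ ζ (Ne.symm hξ) (Ne.symm hζ)
    rw [if_neg hξζ, (hμν ξ hξ).2, (hμν ζ hζ).2, inner_diff_irr] at e
    have n1 := (hμν ξ hξ).1
    have n2 := (hμν ζ hζ).1
    by_cases ha : μ ξ = μ ζ
    · by_cases hb : ν ξ = ν ζ
      · exfalso
        have hc : μ ξ ≠ ν ζ := fun h => n2 (ha.symm.trans h)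
        have hd : ν ξ ≠ μ ζ := fun h => n1 (ha.trans h.symm)
        rw [if_pos ha, if_neg hc, if_neg hd, if_pos hb] at e
        norm_num at e
      · exact Or.inl ⟨ha, hb⟩
    · by_cases hb : ν ξ = ν ζ
      · exact Or.inr ⟨hb, ha⟩
      · exfalso
        rw [if_neg ha, if_neg hb] at e
        by_cases hc : μ ξ = ν ζ
        · by_cases hd : ν ξ = μ ζ
          · rw [if_pos hc, if_pos hd] at e
            norm_num at e
          · rw [if_pos hc, if_neg hd] at e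
            norm_num at e
        · by_cases hd : ν ξ = μ ζ
          · rw [if_neg hc, if_pos hd] at e
            norm_num at e
          · rw [if_neg hc, if_neg hd] at e
            norm_num at e
  -- reduction to the differences with `χ₁`
  have hfin : ∀ (ε : ℂ) (f : ι → IrrCharacter G),
      (∀ χ, I χ₁ - I χ = ε • ((f χ₁ : G → ℂ) - (f χ : G → ℂ))) →
      ∀ χ ξ, I χ - I ξ = ε • ((f χ : G → ℂ) - (f ξ : G → ℂ)) := by
    intro ε f hf χ ξ
    have e1 : I χ - I ξ = (I χ₁ - I ξ) - (I χ₁ - I χ) := by ring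
    rw [e1, hf ξ, hf χ, ← smul_sub]
    congr 1
    ring
  by_cases hO : ∃ ξ₀ : ι, ξ₀ ≠ χ₁
  swap
  · push Not at hO
    refine ⟨1, fun _ => Helper83.trivIrr G, Or.inl rfl, fun a b _ => (hO a).trans (hO b).symm,
      fun χ ξ => ?_⟩
    rw [hO χ, hO ξ, sub_self, sub_self, smul_zero]
  obtain ⟨ξ₀, hξ₀⟩ := hO
  rcases comb_aux (O := {ξ : ι // ξ ≠ χ₁}) (fun o => μ o.1) (fun o => ν o.1)
    (fun o o' hoo' => H o.1 o'.1 o.2 o'.2 (fun h => hoo' (Subtype.ext h))) with hA | hB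
  · -- common positive part
    have hA' : ∀ ξ : ι, ξ ≠ χ₁ → μ ξ = μ ξ₀ := fun ξ hξ => hA ⟨ξ, hξ⟩ ⟨ξ₀, hξ₀⟩
    refine ⟨1, fun χ => if χ = χ₁ then μ ξ₀ else ν χ, Or.inl rfl, ?_, ?_⟩
    · intro χ χ' hff
      by_contra hne
      by_cases hχ : χ = χ₁
      · by_cases hχ' : χ' = χ₁
        · exact hne (hχ.trans hχ'.symm)
        · simp only [if_pos hχ, if_neg hχ'] at hff
          exact (hμν χ' hχ').1 ((hA' χ' hχ').trans hff)
      · by_cases hχ' : χ' = χ₁
        · simp only [if_neg hχ, if_pos hχ'] at hff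
          exact (hμν χ hχ).1 ((hA' χ hχ).trans hff.symm)
        · simp only [if_neg hχ, if_neg hχ'] at hff
          rcases H χ χ' hχ hχ' hne with h | h
          · exact h.2 hff
          · exact h.2 ((hA' χ hχ).trans (hA' χ' hχ').symm)
    · apply hfin
      intro χ
      by_cases hχ : χ = χ₁
      · rw [hχ, sub_self, sub_self, smul_zero]
      · rw [if_pos rfl, if_neg hχ, (hμν χ hχ).2, hA' χ hχ, one_smul]
  · -- common negative part
    have hB' : ∀ ξ : ι, ξ ≠ χ₁ → ν ξ = ν ξ₀ := fun ξ hξ => hB ⟨ξ, hξ⟩ ⟨ξ₀, hξ₀⟩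
    refine ⟨-1, fun χ => if χ = χ₁ then ν ξ₀ else μ χ, Or.inr rfl, ?_, ?_⟩
    · intro χ χ' hff
      by_contra hne
      by_cases hχ : χ = χ₁
      · by_cases hχ' : χ' = χ₁
        · exact hne (hχ.trans hχ'.symm)
        · simp only [if_pos hχ, if_neg hχ'] at hff
          exact (hμν χ' hχ').1 (hff.symm.trans (hB' χ' hχ').symm)
      · by_cases hχ' : χ' = χ₁
        · simp only [if_neg hχ, if_pos hχ'] at hff
          exact (hμν χ hχ).1 (hff.trans (hB' χ hχ).symm)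
        · simp only [if_neg hχ, if_neg hχ'] at hff
          rcases H χ χ' hχ hχ' hne with h | h
          · exact h.2 ((hB' χ hχ).trans (hB' χ' hχ').symm)
          · exact h.2 hff
    · apply hfin
      intro χ
      by_cases hχ : χ = χ₁
      · rw [hχ, sub_self, sub_self, smul_zero]
      · rw [if_pos rfl, if_neg hχ, (hμν χ hχ).2, hB' χ hχ, neg_one_smul, neg_sub]

end coherent

section frobdeg

variable {H : Type*} [Group H] [Fintype H] (M : Subgroup H) [hM : M.Normal]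

/-- a linear character of `M` fixed by an element acting without fixed points is principal -/
theorem conjFun_ne_of_frob (x : H) (hx : ∀ k ∈ M, k * x = x * k → k = 1)
    {θ : M → ℂ} (hθ : IsIrrCharacter M θ) (hθ1 : θ 1 = 1) (hfix : conjFun M θ x = θ) :
    θ = fun _ => 1 := by
  classical
  obtain ⟨f, hf⟩ := exists_hom_of_linear θ (Helper35.isChar_of_irr hθ) hθ1
  let c : M → M := fun h => ⟨x * (h : H) * x⁻¹, hM.conj_mem (h : H) h.2 x⟩ * h⁻¹
  have hinj : Function.Injective c := by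
    intro h h' hcc
    have h1 : x * (h : H) * x⁻¹ * (h : H)⁻¹ = x * (h' : H) * x⁻¹ * (h' : H)⁻¹ :=
      congrArg Subtype.val hcc
    have h2 : (h'⁻¹ * h : M) = 1 := by
      apply Subtype.ext
      apply hx _ (h'⁻¹ * h : M).2
      show (h' : H)⁻¹ * (h : H) * x = x * ((h' : H)⁻¹ * (h : H))
      have h3 : (h : H) * x⁻¹ * (h : H)⁻¹ = (h' : H) * x⁻¹ * (h' : H)⁻¹ := by
        have h5 := congrArg (fun z => x⁻¹ * z) h1
        simpa [mul_assoc] using h5
      have h4 : (h' : H)⁻¹ * (h : H) * x⁻¹ = x⁻¹ * ((h' : H)⁻¹ * (h : H)) := by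
        calc (h' : H)⁻¹ * (h : H) * x⁻¹
            = (h' : H)⁻¹ * ((h : H) * x⁻¹ * (h : H)⁻¹) * (h : H) := by group
          _ = (h' : H)⁻¹ * ((h' : H) * x⁻¹ * (h' : H)⁻¹) * (h : H) := by rw [h3]
          _ = x⁻¹ * ((h' : H)⁻¹ * (h : H)) := by group
      calc (h' : H)⁻¹ * (h : H) * x = x * (x⁻¹ * ((h' : H)⁻¹ * (h : H))) * x := by group
        _ = x * ((h' : H)⁻¹ * (h : H) * x⁻¹) * x := by rw [h4]
        _ = x * ((h' : H)⁻¹ * (h : H)) := by group
    exact (inv_mul_eq_one.mp h2).symm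
  have hsurj : Function.Surjective c := Finite.injective_iff_surjective.mp hinj
  funext k
  obtain ⟨h, rfl⟩ := hsurj k
  have e1 : θ (c h) = ((f (c h) : ℂˣ) : ℂ) := (hf _).symm
  have e2 : f (c h) = f ⟨x * (h : H) * x⁻¹, hM.conj_mem (h : H) h.2 x⟩ * (f h)⁻¹ := by
    show f (⟨x * (h : H) * x⁻¹, _⟩ * h⁻¹) = _
    rw [map_mul, map_inv]
  have e3 : f ⟨x * (h : H) * x⁻¹, hM.conj_mem (h : H) h.2 x⟩ = f h := by
    apply Units.ext
    rw [hf, hf]
    have h6 := congrFun hfix h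
    rw [conjFun_apply] at h6
    exact h6
  rw [e1, e2, e3, mul_inv_cancel, Units.val_one]

/-- in a Frobenius group with abelian kernel `M`, every irreducible character not trivial on
`M` has degree `|H : M|` -/
theorem frob_degree (hab : ∀ a ∈ M, ∀ b ∈ M, a * b = b * a)
    (hfrob : ∀ y : H, y ∉ M → ∀ k ∈ M, k * y = y * k → k = 1)
    {χ : H → ℂ} (hχ : IsIrrCharacter H χ) (hχM : ¬ ∀ x ∈ M, χ x = χ 1) :
    χ 1 = (M.index : ℂ) := by
  classical
  let _ : Fintype M := Fintype.ofFinite _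
  have hcomm : IsMulCommutative M := ⟨⟨fun a b => Subtype.ext (hab a a.2 b b.2)⟩⟩
  obtain ⟨θ, hθ, hcon⟩ := exists_constituent M hχ
  have hθ1 : θ 1 = 1 := Helper83.irr_comm_degree hθ
  have hθne : θ ≠ fun _ => 1 := by
    intro h
    apply hcon
    rw [h]
    unfold classInner
    have h0 := irr_sum_normal M ⟨χ, hχ⟩ hχM
    simp only [map_one, mul_one]
    rw [h0, mul_zero]
  have hT : inertia M θ = M := by
    apply le_antisymm
    · intro x hx
      by_contra hxM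
      rw [mem_inertia] at hx
      exact hθne (conjFun_ne_of_frob M x (hfrob x hxM) hθ hθ1 hx)
    · exact le_inertia M (Helper4.isClassFunction_irr ⟨θ, hθ⟩)
  have hdeg := clifford_degree M hθ hχ hcon (inertia M θ) (mem_inertia M θ)
  rw [hT, hθ1, mul_one] at hdeg
  obtain ⟨m, hm⟩ := Helper35.classInner_char_nat
    (Helper35.isCharacter_res M (Helper35.isChar_of_irr hχ)) (Helper35.isChar_of_irr hθ)
  have hm' : classInner (fun h : M => χ h) θ = m := hm
  rw [hm'] at hdeg hcon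
  have hito := ito M hab hχ
  obtain ⟨hpos, hd⟩ := Helper83.irr_degree hχ
  rw [hd] at hdeg
  have hnat : charDegree χ = m * M.index := by exact_mod_cast hdeg
  rw [hnat] at hito
  have hidx : 0 < M.index := Nat.pos_of_ne_zero Subgroup.index_ne_zero_of_finite
  have hm1 : m = 1 := by
    have hm0 : m ≠ 0 := by
      rintro rfl
      exact hcon (by simp)
    have hle := Nat.le_of_dvd hidx hito
    nlinarith
  rw [hd, hnat, hm1, one_mul]

end frobdeg

section tifnab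

variable {G : Type*} [Group G] [Fintype G]

/-- exceptional characters for a T.I. subgroup `K` with Frobenius normalizer `N` and abelian
`K` -/
theorem tifn_abelian_coherent (K N : Subgroup G) [Fintype N]
    (hMn : (K.subgroupOf N).Normal)
    (hC : ∀ k ∈ K, k ≠ 1 → Subgroup.centralizer ({k} : Set G) ≤ K)
    (hab : ∀ a ∈ K, ∀ b ∈ K, a * b = b * a)
    (hiso : ∀ (ψ θ : N → ℂ), IsClassFunction N θ → (∀ x : N, (x : G) ∉ K → ψ x = 0) →
      (∀ x : N, (x : G) ∉ K → θ x = 0) → ψ 1 = 0 →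
      classInner (indFun N ψ) (indFun N θ) = classInner ψ θ) :
    ∃ (ε : ℂ) (f : {χ : IrrCharacter N // ∃ k : N, (k : G) ∈ K ∧
        (χ : N → ℂ) k ≠ (χ : N → ℂ) 1} → IrrCharacter G),
      (ε = 1 ∨ ε = -1) ∧ Function.Injective f ∧
      ∀ χ ξ, indFun N ((χ.1 : N → ℂ) - (ξ.1 : N → ℂ)) =
        ε • ((f χ : G → ℂ) - (f ξ : G → ℂ)) := by
  classical
  have := Helper4.irr_finite (G := N)
  let _ : Fintype (IrrCharacter N) := Fintype.ofFinite _
  have hfrob : ∀ y : N, y ∉ K.subgroupOf N → ∀ k ∈ K.subgroupOf N, k * y = y * k → k = 1 := by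
    intro y hy k hk hky
    by_contra hk1
    have hk1' : (k : G) ≠ 1 := fun h => hk1 (Subtype.ext h)
    have h1 := hC (k : G) (Subgroup.mem_subgroupOf.mp hk) hk1'
    apply hy
    rw [Subgroup.mem_subgroupOf]
    apply h1
    rw [Subgroup.mem_centralizer_singleton_iff]
    have h2 : (k : G) * (y : G) = (y : G) * (k : G) := congrArg Subtype.val hky
    exact h2.symm
  have hab' : ∀ a ∈ K.subgroupOf N, ∀ b ∈ K.subgroupOf N, a * b = b * a := by
    intro a ha b hb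
    apply Subtype.ext
    exact hab _ (Subgroup.mem_subgroupOf.mp ha) _ (Subgroup.mem_subgroupOf.mp hb)
  have hnt : ∀ χ : {χ : IrrCharacter N // ∃ k : N, (k : G) ∈ K ∧
      (χ : N → ℂ) k ≠ (χ : N → ℂ) 1},
      ¬ ∀ x ∈ K.subgroupOf N, (χ.1 : N → ℂ) x = (χ.1 : N → ℂ) 1 :=
    fun χ => ((tifn_mem_iff K N (χ.1 : N → ℂ)).mp ⟨χ.1.2, χ.2⟩).2
  have hdeg : ∀ χ : {χ : IrrCharacter N // ∃ k : N, (k : G) ∈ K ∧
      (χ : N → ℂ) k ≠ (χ : N → ℂ) 1},
      (χ.1 : N → ℂ) 1 = ((K.subgroupOf N).index : ℂ) :=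
    fun χ => frob_degree (K.subgroupOf N) hab' hfrob χ.1.2 (hnt χ)
  have hvan : ∀ (χ : {χ : IrrCharacter N // ∃ k : N, (k : G) ∈ K ∧
      (χ : N → ℂ) k ≠ (χ : N → ℂ) 1}) (y : N), (y : G) ∉ K → (χ.1 : N → ℂ) y = 0 :=
    fun χ y hy => irr_vanish_of_centralizer (K.subgroupOf N) y
      (hfrob y (fun h => hy (Subgroup.mem_subgroupOf.mp h))) χ.1 (hnt χ)
  have hcf : ∀ χ : {χ : IrrCharacter N // ∃ k : N, (k : G) ∈ K ∧
      (χ : N → ℂ) k ≠ (χ : N → ℂ) 1}, IsClassFunction N (χ.1 : N → ℂ) :=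
    fun χ => Helper4.isClassFunction_irr χ.1
  have hH1 : ∀ χ ξ : {χ : IrrCharacter N // ∃ k : N, (k : G) ∈ K ∧
      (χ : N → ℂ) k ≠ (χ : N → ℂ) 1}, χ ≠ ξ →
      IsGeneralizedCharacter G (indFun N (χ.1 : N → ℂ) - indFun N (ξ.1 : N → ℂ)) ∧
      (indFun N (χ.1 : N → ℂ) - indFun N (ξ.1 : N → ℂ)) 1 = 0 := by
    intro χ ξ _
    constructor
    · exact Helper35.isGenChar_sub
        (Helper35.isGenChar_of_char (Helper35.isCharacter_indFun _ (Helper35.isChar_of_irr χ.1.2)))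
        (Helper35.isGenChar_of_char (Helper35.isCharacter_indFun _ (Helper35.isChar_of_irr ξ.1.2)))
    · rw [Pi.sub_apply, Helper35.indFun_one_eq, Helper35.indFun_one_eq, hdeg χ, hdeg ξ, sub_self]
  have hH2 : ∀ χ ξ ζ : {χ : IrrCharacter N // ∃ k : N, (k : G) ∈ K ∧
      (χ : N → ℂ) k ≠ (χ : N → ℂ) 1}, χ ≠ ξ → χ ≠ ζ →
      classInner (indFun N (χ.1 : N → ℂ) - indFun N (ξ.1 : N → ℂ))
        (indFun N (χ.1 : N → ℂ) - indFun N (ζ.1 : N → ℂ)) = if ξ = ζ then 2 else 1 := by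
    intro χ ξ ζ hξ hζ
    rw [← Helper35.indFun_sub, ← Helper35.indFun_sub,
      hiso ((χ.1 : N → ℂ) - (ξ.1 : N → ℂ)) ((χ.1 : N → ℂ) - (ζ.1 : N → ℂ))
        (fun g h => by rw [Pi.sub_apply, Pi.sub_apply, hcf χ g h, hcf ζ g h])
        (fun x hx => by rw [Pi.sub_apply, hvan χ x hx, hvan ξ x hx, sub_self])
        (fun x hx => by rw [Pi.sub_apply, hvan χ x hx, hvan ζ x hx, sub_self])
        (by rw [Pi.sub_apply, hdeg χ, hdeg ξ, sub_self]),
      Helper35.classInner_sub_left, Helper35.classInner_sub_right, Helper35.classInner_sub_right,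
      Helper4.classInner_irr, Helper4.classInner_irr, Helper4.classInner_irr,
      Helper4.classInner_irr, if_pos rfl,
      if_neg (fun h : χ.1 = ζ.1 => hζ (Subtype.ext h)),
      if_neg (fun h : ξ.1 = χ.1 => hξ (Subtype.ext h).symm)]
    by_cases h : ξ = ζ
    · rw [if_pos h, if_pos (congrArg Subtype.val h)]
      norm_num
    · rw [if_neg h, if_neg (fun h' : ξ.1 = ζ.1 => h (Subtype.ext h'))]
      norm_num
  obtain ⟨ε, f, hε, hf, hI⟩ := coherent_of_norm_two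
    (fun χ : {χ : IrrCharacter N // ∃ k : N, (k : G) ∈ K ∧
      (χ : N → ℂ) k ≠ (χ : N → ℂ) 1} => indFun N (χ.1 : N → ℂ)) hH1
    (fun χ ξ ζ h h' => by
      rw [hH2 χ ξ ζ h h']
      by_cases e : ξ = ζ
      · rw [if_pos e, if_pos e]
      · rw [if_neg e, if_neg e])
  refine ⟨ε, f, hε, hf, fun χ ξ => ?_⟩
  rw [Helper35.indFun_sub]
  exact hI χ ξ

end tifnab

end Cfsg.Agent.Lib.Helper20
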