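import Mathlib
import Cfsg.Prelude.Def_Characters

set_option autoImplicit false

namespace Cfsg.Agent.Lib.Helper20

open MulAction

theorem extendByZero_mem {G : Type*} [Group G] (H : Subgroup G) (θ : H → ℂ) (x : G) (hx : x ∈ H) :
    Cfsg.extendByZero H θ x = θ ⟨x, hx⟩ := by
  unfold Cfsg.extendByZero
  exact Subtype.val_injective.extend_apply θ 0 ⟨x, hx⟩

theorem extendByZero_not_mem {G : Type*} [Group G] (H : Subgroup G) (θ : H → ℂ) (x : G)
    (hx : x ∉ H) : Cfsg.extendByZero H θ x = 0 := by
  unfold Cfsg.extendByZero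
  rw [Function.extend_apply']
  · rfl
  · rintro ⟨a, rfl⟩
    exact hx a.2

theorem card_subgroup_ne_zero {G : Type*} [Group G] [Finite G] (H : Subgroup G) :
    (Nat.card H : ℂ) ≠ 0 := by
  have : 0 < Nat.card H := Nat.card_pos
  exact_mod_cast this.ne'

/-- The function induced from the constant function `1` on `U`, as a count. -/
theorem indFun_one_apply {G : Type*} [Group G] [Fintype G] (U : Subgroup G) (x : G) :
    Cfsg.indFun U (fun _ => 1) x =
      (Nat.card U : ℂ)⁻¹ * (Nat.card {g : G // g⁻¹ * x * g ∈ U} : ℂ) := by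
  classical
  unfold Cfsg.indFun
  congr 1
  have h : ∀ g : G, Cfsg.extendByZero U (fun _ => (1 : ℂ)) (g⁻¹ * x * g) =
      if g⁻¹ * x * g ∈ U then 1 else 0 := by
    intro g
    by_cases hg : g⁻¹ * x * g ∈ U
    · rw [if_pos hg, extendByZero_mem U _ _ hg]
    · rw [if_neg hg, extendByZero_not_mem U _ _ hg]
  simp only [h]
  rw [Finset.sum_boole, Nat.card_eq_fintype_card, Fintype.card_subtype]

/-- Orbit-stabiliser counting: the elements `g` conjugating `x` into the stabiliser of `ω₀`
correspond to pairs (a point of the orbit of `ω₀` fixed by `x`, an element of the stabiliser). -/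
theorem card_conj_mem_stabilizer {G X : Type*} [Group G] [MulAction G X] (ω₀ : X) (x : G) :
    Nat.card {g : G // g⁻¹ * x * g ∈ stabilizer G ω₀} =
      Nat.card {ω : X // ω ∈ orbit G ω₀ ∧ x • ω = ω} * Nat.card (stabilizer G ω₀) := by
  classical
  rw [← Nat.card_prod]
  have hrep : ∀ ω : {ω : X // ω ∈ orbit G ω₀ ∧ x • ω = ω}, ∃ g : G, g • ω₀ = ω.1 :=
    fun ω => ω.2.1
  choose rep hrep using hrep
  have hfix : ∀ g : G, g⁻¹ * x * g ∈ stabilizer G ω₀ ↔ x • (g • ω₀) = g • ω₀ := by
    intro g
    rw [mem_stabilizer_iff, mul_smul, mul_smul, inv_smul_eq_iff]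
  apply Nat.card_congr
  refine
    { toFun := fun g =>
        (⟨g.1 • ω₀, ⟨mem_orbit _ _, (hfix g.1).mp g.2⟩⟩,
          ⟨(rep ⟨g.1 • ω₀, ⟨mem_orbit _ _, (hfix g.1).mp g.2⟩⟩)⁻¹ * g.1, ?_⟩)
      invFun := fun p => ⟨rep p.1 * p.2.1, ?_⟩
      left_inv := ?_
      right_inv := ?_ }
  · rw [mem_stabilizer_iff, mul_smul, inv_smul_eq_iff, hrep]
  · rw [hfix, mul_smul]
    have h2 : (p.2 : G) • ω₀ = ω₀ := p.2.2
    rw [h2, hrep]
    exact p.1.2.2
  · intro g
    apply Subtype.ext
    simp
  · rintro ⟨ω, u⟩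
    have h2 : (u : G) • ω₀ = ω₀ := u.2
    have h1 : (rep ω * (u : G)) • ω₀ = ω.1 := by
      rw [mul_smul, h2, hrep]
    have h3 : (⟨(rep ω * (u : G)) • ω₀, ⟨mem_orbit _ _, (hfix _).mp (by
        rw [hfix, h1]; exact ω.2.2)⟩⟩ : {ω : X // ω ∈ orbit G ω₀ ∧ x • ω = ω}) = ω :=
      Subtype.ext h1
    apply Prod.ext
    · exact h3
    · apply Subtype.ext
      simp only
      rw [h3]
      simp

/-- The number of points of the orbit of `ω₀` fixed by `x` is the value at `x` of the function
induced from the constant function `1` on the stabiliser of `ω₀`. -/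
theorem card_fixed_in_orbit {G X : Type*} [Group G] [Fintype G] [MulAction G X] (ω₀ : X) (x : G) :
    (Nat.card {ω : X // ω ∈ orbit G ω₀ ∧ x • ω = ω} : ℂ) =
      Cfsg.indFun (stabilizer G ω₀) (fun _ => 1) x := by
  rw [indFun_one_apply, card_conj_mem_stabilizer, Nat.cast_mul, mul_comm, mul_assoc,
    mul_inv_cancel₀ (card_subgroup_ne_zero _), mul_one]

/-- The number of fixed points of `x` on a finite `G`-set is the sum over the orbits of the
functions induced from `1` on the stabilisers of chosen orbit representatives. -/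
theorem card_fixed_eq_sum_orbits {G X : Type*} [Group G] [Fintype G] [MulAction G X] [Finite X]
    [Fintype (orbitRel.Quotient G X)]
    (r : orbitRel.Quotient G X → X) (hr : ∀ o, (Quotient.mk'' (r o) : orbitRel.Quotient G X) = o)
    (x : G) :
    (Nat.card {ω : X // x • ω = ω} : ℂ) =
      ∑ o : orbitRel.Quotient G X, Cfsg.indFun (stabilizer G (r o)) (fun _ => 1) x := by
  classical
  have e : {ω : X // x • ω = ω} ≃
      Σ o : orbitRel.Quotient G X, {ω : X // ω ∈ orbit G (r o) ∧ x • ω = ω} :=
    { toFun := fun ω => ⟨Quotient.mk'' ω.1, ⟨ω.1, by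
        constructor
        · have := hr (Quotient.mk'' ω.1)
          have h2 := Quotient.exact' this.symm
          exact (orbitRel_apply.mp h2)
        · exact ω.2⟩⟩
      invFun := fun p => ⟨p.2.1, p.2.2.2⟩
      left_inv := by intro ω; rfl
      right_inv := by
        rintro ⟨o, ω, hω, hx⟩
        have : (Quotient.mk'' ω : orbitRel.Quotient G X) = o := by
          rw [← hr o]
          exact Quotient.sound' (orbitRel_apply.mpr hω)
        subst this
        rfl }
  rw [Nat.card_congr e, Nat.card_sigma, Nat.cast_sum]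
  apply Finset.sum_congr rfl
  intro o _
  exact card_fixed_in_orbit (r o) x

/-- The permutation character on the cosets of `H`, as a natural number: the number of cosets
fixed by `x`. -/
noncomputable def permChar {G : Type*} [Group G] (H : Subgroup G) (x : G) : ℕ :=
  Nat.card {ω : G ⧸ H // x • ω = ω}

theorem indFun_one_eq_permChar {G : Type*} [Group G] [Fintype G] (H : Subgroup G) (x : G) :
    Cfsg.indFun H (fun _ => 1) x = (permChar H x : ℂ) := by
  have h := card_fixed_in_orbit (X := G ⧸ H) ((1 : G) : G ⧸ H) x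
  rw [stabilizer_quotient] at h
  rw [← h]
  unfold permChar
  congr 1
  apply Nat.card_congr
  refine Equiv.subtypeEquivRight ?_
  intro ω
  constructor
  · intro hω
    exact hω.2
  · intro hω
    exact ⟨MulAction.IsPretransitive.exists_smul_eq _ _, hω⟩

end Cfsg.Agent.Lib.Helper20
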