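import Mathlib
import Cfsg.Prelude.Def_CharExt
import Cfsg.Agent.Lib.Helper4.Eigen
import Cfsg.Agent.Lib.Helper20.LinChar
import Cfsg.Agent.Lib.Helper4.CharCore

set_option autoImplicit false

namespace Cfsg.Agent.Lib.Helper20

open Cfsg Cfsg.Agent.Lib

theorem esymm_eq_of_psum_eq {ι κ : Type*} [Fintype ι] [Fintype κ] (μ : ι → ℂ) (ν : κ → ℂ)
    (h : ∀ k : ℕ, 0 < k → ∑ i, μ i ^ k = ∑ j, ν j ^ k) (k : ℕ) :
    (Finset.univ.val.map μ).esymm k = (Finset.univ.val.map ν).esymm k := by
  induction k using Nat.strong_induction_on with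
  | _ k ih =>
  rcases Nat.eq_zero_or_pos k with rfl | hk
  · simp [Multiset.esymm]
  · have h1 := congrArg (MvPolynomial.aeval μ) (MvPolynomial.mul_esymm_eq_sum ι ℂ k)
    have h2 := congrArg (MvPolynomial.aeval ν) (MvPolynomial.mul_esymm_eq_sum κ ℂ k)
    have hp1 : ∀ b, MvPolynomial.aeval μ (MvPolynomial.psum ι ℂ b) = ∑ i, μ i ^ b := by
      intro b; simp [MvPolynomial.psum]
    have hp2 : ∀ b, MvPolynomial.aeval ν (MvPolynomial.psum κ ℂ b) = ∑ i, ν i ^ b := by
      intro b; simp [MvPolynomial.psum]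
    simp only [map_mul, map_natCast, map_pow, map_neg, map_one, map_sum,
      MvPolynomial.aeval_esymm_eq_multiset_esymm, hp1, hp2] at h1 h2
    have h3 : (k : ℂ) * (Finset.univ.val.map μ).esymm k =
        (k : ℂ) * (Finset.univ.val.map ν).esymm k := by
      rw [h1, h2]
      congr 1
      apply Finset.sum_congr rfl
      intro a ha
      rw [Finset.mem_filter] at ha
      have ha1 : a.1 + a.2 = k := Finset.HasAntidiagonal.mem_antidiagonal.mp ha.1
      rw [ih a.1 ha.2, h a.2 (by omega)]
    exact mul_left_cancel₀ (by exact_mod_cast hk.ne') h3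

theorem prod_eq_of_psum_eq {ι κ : Type*} [Fintype ι] [Fintype κ] (μ : ι → ℂ) (ν : κ → ℂ)
    (hcard : Fintype.card ι = Fintype.card κ)
    (h : ∀ k : ℕ, 0 < k → ∑ i, μ i ^ k = ∑ j, ν j ^ k) : ∏ i, μ i = ∏ j, ν j := by
  have h1 := esymm_eq_of_psum_eq μ ν h (Fintype.card ι)
  rw [Finset.esymm_map_val] at h1
  conv_rhs at h1 => rw [hcard, Finset.esymm_map_val]
  rw [← Finset.card_univ (α := ι), Finset.powersetCard_self, Finset.sum_singleton] at h1
  rw [← Finset.card_univ (α := κ), Finset.powersetCard_self, Finset.sum_singleton] at h1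
  exact h1

theorem det_eq_prod_of_eigenbasis {V : Type*} [AddCommGroup V] [Module ℂ V] {ι : Type*}
    [Fintype ι] [DecidableEq ι] (v : Module.Basis ι ℂ V) (f : V →ₗ[ℂ] V) (μ : ι → ℂ)
    (h : ∀ i, f (v i) = μ i • v i) : LinearMap.det f = ∏ i, μ i := by
  rw [← LinearMap.det_toMatrix v]
  have h1 : LinearMap.toMatrix v v f = Matrix.diagonal μ := by
    ext i j
    rw [LinearMap.toMatrix_apply, h, map_smul, Module.Basis.repr_self, Matrix.diagonal_apply]
    by_cases hij : i = j
    · subst hij; simp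
    · rw [if_neg hij]
      simp [Ne.symm hij]
  rw [h1, Matrix.det_diagonal]

theorem pow_apply_eigen {V : Type*} [AddCommGroup V] [Module ℂ V] (f : Module.End ℂ V) (x : V)
    (c : ℂ) (h : f x = c • x) (k : ℕ) : (f ^ k) x = c ^ k • x := by
  induction k with
  | zero => simp
  | succ k ih =>
    rw [pow_succ, Module.End.mul_apply, h, map_smul, ih, smul_smul, pow_succ, mul_comm]

/-- representations with the same character have the same determinant -/
theorem det_eq_of_char_eq {G : Type*} [Group G] [Finite G] {V₁ V₂ : Type*} [AddCommGroup V₁]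
    [Module ℂ V₁] [FiniteDimensional ℂ V₁] [AddCommGroup V₂] [Module ℂ V₂]
    [FiniteDimensional ℂ V₂] (ρ₁ : Representation ℂ G V₁) (ρ₂ : Representation ℂ G V₂)
    (h : ρ₁.character = ρ₂.character) (g : G) :
    LinearMap.det (ρ₁ g) = LinearMap.det (ρ₂ g) := by
  obtain ⟨ι, hι, hdι, v, μ, hμ, -, -, -⟩ := Helper4.exists_eigenbasis_rep ρ₁ g
  obtain ⟨κ, hκ, hdκ, w, ν, hν, -, -, -⟩ := Helper4.exists_eigenbasis_rep ρ₂ g
  rw [det_eq_prod_of_eigenbasis v (ρ₁ g) μ hμ, det_eq_prod_of_eigenbasis w (ρ₂ g) ν hν]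
  apply prod_eq_of_psum_eq
  · have h1 := congrFun h 1
    rw [Representation.char_one, Representation.char_one, Module.finrank_eq_card_basis v,
      Module.finrank_eq_card_basis w] at h1
    exact_mod_cast h1
  · intro k hk
    have h1 : ∀ i, ρ₁ (g ^ k) (v i) = μ i ^ k • v i := by
      intro i
      rw [map_pow]
      exact pow_apply_eigen (ρ₁ g) (v i) (μ i) (hμ i) k
    have h2 : ∀ i, ρ₂ (g ^ k) (w i) = ν i ^ k • w i := by
      intro i
      rw [map_pow]
      exact pow_apply_eigen (ρ₂ g) (w i) (ν i) (hν i) k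
    have h3 := congrFun h (g ^ k)
    rw [Representation.character, Representation.character,
      Helper4.trace_eq_sum_of_eigenbasis v _ _ h1, Helper4.trace_eq_sum_of_eigenbasis w _ _ h2]
      at h3
    exact h3

section detChar

variable {G : Type*} [Group G] [Finite G]

/-- `detChar` of a character is the determinant of any representation affording it -/
theorem detChar_eq {V : Type*} [AddCommGroup V] [Module ℂ V] [FiniteDimensional ℂ V]
    (ρ : Representation ℂ G V) (g : G) : detChar ρ.character g = LinearMap.det (ρ g) := by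
  have h : IsCharacter G ρ.character := Helper4.isCharacter_of_rep ρ
  have hspec := Classical.choose_spec (Classical.choose_spec h)
  have h1 : detChar ρ.character g =
      LinearMap.det ((Classical.choose (Classical.choose_spec h)) g) := by
    unfold detChar
    rw [dif_pos h]
  rw [h1]
  exact det_eq_of_char_eq _ ρ hspec g

theorem detChar_mul (χ : G → ℂ) (g h : G) : detChar χ (g * h) = detChar χ g * detChar χ h := by
  by_cases hχ : IsCharacter G χ
  · obtain ⟨n, ρ, rfl⟩ := hχ
    rw [detChar_eq, detChar_eq, detChar_eq, map_mul, map_mul]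
  · unfold detChar
    rw [dif_neg hχ, mul_one]

theorem detChar_one (χ : G → ℂ) : detChar χ 1 = 1 := by
  by_cases hχ : IsCharacter G χ
  · obtain ⟨n, ρ, rfl⟩ := hχ
    rw [detChar_eq, map_one, map_one]
  · unfold detChar
    rw [dif_neg hχ]

/-- the determinantal character as a homomorphism -/
theorem exists_detHom (χ : G → ℂ) : ∃ f : G →* ℂˣ, ∀ g, ((f g : ℂˣ) : ℂ) = detChar χ g := by
  let f₀ : G →* ℂ :=
    { toFun := detChar χ, map_one' := detChar_one χ, map_mul' := detChar_mul χ }
  exact ⟨f₀.toHomUnits, fun g => rfl⟩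

theorem detChar_isCharacter (χ : G → ℂ) : IsCharacter G (detChar χ) ∧ detChar χ 1 = 1 := by
  obtain ⟨f, hf⟩ := exists_detHom χ
  have h1 := isCharacter_of_hom f
  have h2 : (fun a => ((f a : ℂˣ) : ℂ)) = detChar χ := funext hf
  rw [h2] at h1
  exact h1

/-- the determinantal character of a character composed with a homomorphism -/
theorem detChar_comp {A : Type*} [Group A] [Finite A] (f : A →* G) {χ : G → ℂ}
    (hχ : IsCharacter G χ) (a : A) : detChar (fun a => χ (f a)) a = detChar χ (f a) := by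
  obtain ⟨n, ρ, rfl⟩ := hχ
  let σ : Representation ℂ A (Fin n → ℂ) := MonoidHom.comp ρ f
  have h1 : (fun a => ρ.character (f a)) = σ.character := rfl
  rw [h1, detChar_eq, detChar_eq]
  rfl

theorem detChar_res (H : Subgroup G) {χ : G → ℂ} (hχ : IsCharacter G χ) (h : H) :
    detChar (fun h : H => χ h) h = detChar χ h :=
  detChar_comp H.subtype hχ h

/-- the determinantal character of a linear character times a character -/
theorem detChar_linear_mul (β : G →* ℂˣ) {χ : G → ℂ} (hχ : IsCharacter G χ) (d : ℕ)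
    (hd : χ 1 = d) (g : G) :
    detChar (fun g => ((β g : ℂˣ) : ℂ) * χ g) g = ((β g : ℂˣ) : ℂ) ^ d * detChar χ g := by
  obtain ⟨n, ρ, rfl⟩ := hχ
  have hn : n = d := by
    rw [Representation.char_one] at hd
    simp only [Module.finrank_fintype_fun_eq_card, Fintype.card_fin] at hd
    exact_mod_cast hd
  subst hn
  let ρ' : Representation ℂ G (Fin n → ℂ) :=
    { toFun := fun g => ((β g : ℂˣ) : ℂ) • ρ g
      map_one' := by simp
      map_mul' := by
        intro a b
        rw [map_mul, map_mul, Units.val_mul, smul_mul_smul_comm] }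
  have h1 : (fun g => ((β g : ℂˣ) : ℂ) * ρ.character g) = ρ'.character := by
    funext g
    show ((β g : ℂˣ) : ℂ) * LinearMap.trace ℂ _ (ρ g) =
      LinearMap.trace ℂ _ (((β g : ℂˣ) : ℂ) • ρ g)
    rw [map_smul, smul_eq_mul]
  rw [h1, detChar_eq, detChar_eq]
  show LinearMap.det (((β g : ℂˣ) : ℂ) • ρ g) = _
  rw [LinearMap.det_smul, Module.finrank_fintype_fun_eq_card, Fintype.card_fin]

end detChar

end Cfsg.Agent.Lib.Helper20
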