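import Mathlib
import Cfsg.Agent.S0862
import Cfsg.Agent.S0863
import Cfsg.Agent.Lib.Helper4.CharEquiv

set_option autoImplicit false
open Cfsg

namespace Cfsg.Agent.Lib.Helper20

universe u

/-- a character whose restriction to a subgroup is irreducible is irreducible -/
theorem irr_of_res_irr {A : Type*} [Group A] [Finite A] (L : Subgroup A) {χ : A → ℂ}
    (hχ : IsCharacter A χ) (hL : IsIrrCharacter L (fun x : L => χ x)) : IsIrrCharacter A χ := by
  classical
  let _ : Fintype A := Fintype.ofFinite A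
  let _ : Fintype L := Fintype.ofFinite L
  obtain ⟨n, ρ, rfl⟩ := hχ
  obtain ⟨m, σ, hσ, hσc⟩ := hL
  let ρL : Representation ℂ L (Fin n → ℂ) := MonoidHom.comp ρ L.subtype
  have h1 : σ.character = ρL.character := hσc
  obtain ⟨φ⟩ := Helper4.equiv_of_char_eq σ ρL h1
  have hρL : ρL.IsIrreducible := Helper4.isIrreducible_of_equiv φ
  have hρ : ρ.IsIrreducible := by
    have hnt : Nontrivial (Subrepresentation ρ) := by
      refine ⟨⊥, ⊤, fun h => ?_⟩
      have h2 : (⊥ : Subrepresentation ρL) = ⊤ := by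
        apply Subrepresentation.toSubmodule_injective
        have h3 := congrArg Subrepresentation.toSubmodule h
        exact h3
      exact bot_ne_top h2
    refine ⟨fun S => ?_⟩
    let S' : Subrepresentation ρL :=
      ⟨S.toSubmodule, fun g v hv => S.apply_mem_toSubmodule (g : A) hv⟩
    rcases hρL.eq_bot_or_eq_top S' with h | h
    · left
      apply Subrepresentation.toSubmodule_injective
      have h3 := congrArg Subrepresentation.toSubmodule h
      exact h3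
    · right
      apply Subrepresentation.toSubmodule_injective
      have h3 := congrArg Subrepresentation.toSubmodule h
      exact h3
  exact ⟨n, ρ, hρ, rfl⟩

section Canon

variable {G : Type u} [Group G] [Finite G] (N : Subgroup G) [hN : N.Normal] (ϑ : N → ℂ)
  (μ : G → ℂ)

/-- the standing hypotheses of the determinant-extension theory -/
structure DetSetup (d : ℕ) : Prop where
  irr : IsIrrCharacter N ϑ
  inv : ∀ (g : G) (n : N), ϑ ⟨g * n * g⁻¹, hN.conj_mem (n : G) n.2 g⟩ = ϑ n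
  deg : ϑ 1 = d
  cop : Nat.Coprime N.index d
  chr : IsCharacter G μ
  one : μ 1 = 1
  det : ∀ n : N, μ n = detChar ϑ n

/-- canonical extension of `ϑ` to an intermediate subgroup: the irreducible extension with
determinant `μ` -/
def IsCanon (H : Subgroup G) (χ : H → ℂ) : Prop :=
  IsIrrCharacter H χ ∧ (∀ (x : H) (hx : (x : G) ∈ N), χ x = ϑ ⟨x, hx⟩) ∧
    detChar χ = fun h : H => μ h

/-- `ϑ` transported to `N.subgroupOf H` -/
def thetaSub (H : Subgroup G) (hNH : N ≤ H) : N.subgroupOf H → ℂ :=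
  fun x => ϑ (Subgroup.subgroupOfEquivOfLe hNH x)

omit [Finite G] hN in
theorem thetaSub_apply (H : Subgroup G) (hNH : N ≤ H) (x : N.subgroupOf H) :
    thetaSub N ϑ H hNH x = ϑ ⟨((x : H) : G), Subgroup.mem_subgroupOf.mp x.2⟩ := by
  unfold thetaSub
  congr 1

variable {N ϑ μ}

theorem DetSetup.sub {d : ℕ} (S : DetSetup N ϑ μ d) (H : Subgroup G) (hNH : N ≤ H) :
    DetSetup (N.subgroupOf H) (thetaSub N ϑ H hNH) (fun h : H => μ h) d := by
  have he : ∀ x : N.subgroupOf H,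
      ((Subgroup.subgroupOfEquivOfLe hNH x : N) : G) = ((x : H) : G) :=
    fun x => Subgroup.subgroupOfEquivOfLe_apply_coe hNH x
  refine ⟨?_, ?_, ?_, ?_, ?_, S.one, ?_⟩
  · exact irr_comp_surjective (Subgroup.subgroupOfEquivOfLe hNH).toMonoidHom
      (Subgroup.subgroupOfEquivOfLe hNH).surjective S.irr
  · intro g x
    show ϑ (Subgroup.subgroupOfEquivOfLe hNH _) = ϑ (Subgroup.subgroupOfEquivOfLe hNH x)
    rw [← S.inv (g : G) (Subgroup.subgroupOfEquivOfLe hNH x)]
    congr 1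
  · show ϑ (Subgroup.subgroupOfEquivOfLe hNH 1) = d
    rw [map_one]; exact S.deg
  · exact Nat.Coprime.coprime_dvd_left (Subgroup.relIndex_dvd_index_of_le hNH) S.cop
  · exact Helper35.isCharacter_res H S.chr
  · intro x
    show μ ((x : H) : G) = _
    have h3 : detChar (fun x => ϑ (Subgroup.subgroupOfEquivOfLe hNH x)) x =
        detChar ϑ (Subgroup.subgroupOfEquivOfLe hNH x) :=
      detChar_comp (Subgroup.subgroupOfEquivOfLe hNH).toMonoidHom
        (Helper35.isChar_of_irr S.irr) x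
    show μ ((x : H) : G) = detChar (fun x => ϑ (Subgroup.subgroupOfEquivOfLe hNH x)) x
    rw [h3, ← he x]
    exact S.det (Subgroup.subgroupOfEquivOfLe hNH x)

omit [Finite G] hN in
theorem isCanon_iff (H : Subgroup G) (hNH : N ≤ H) (χ : H → ℂ) :
    IsCanon N ϑ μ H χ ↔ IsIrrCharacter H χ ∧
      (∀ x : N.subgroupOf H, χ x = thetaSub N ϑ H hNH x) ∧ detChar χ = fun h : H => μ h := by
  constructor
  · rintro ⟨h1, h2, h3⟩
    refine ⟨h1, fun x => ?_, h3⟩
    rw [h2 (x : H) (Subgroup.mem_subgroupOf.mp x.2), thetaSub_apply]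
  · rintro ⟨h1, h2, h3⟩
    refine ⟨h1, fun x hx => ?_, h3⟩
    rw [h2 ⟨x, Subgroup.mem_subgroupOf.mpr hx⟩, thetaSub_apply]

theorem isCanon_unique {d : ℕ} (S : DetSetup N ϑ μ d) {H : Subgroup G} (hNH : N ≤ H)
    {χ₁ χ₂ : H → ℂ} (h₁ : IsCanon N ϑ μ H χ₁) (h₂ : IsCanon N ϑ μ H χ₂) : χ₁ = χ₂ := by
  have S' := S.sub H hNH
  rw [isCanon_iff H hNH] at h₁ h₂
  obtain ⟨χ, -, huniq⟩ := Cfsg.Agent.S0862.result (N.subgroupOf H) (thetaSub N ϑ H hNH) S'.irr
    d S'.deg S'.cop ⟨χ₁, h₁.1, h₁.2.1⟩ (fun h : H => μ h) ⟨S'.chr, S'.one⟩ S'.det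
  rw [huniq χ₁ h₁, huniq χ₂ h₂]

theorem exists_canon {d : ℕ} (S : DetSetup N ϑ μ d) {H : Subgroup G} (hNH : N ≤ H)
    (hsolv : Group.IsSolvable (H ⧸ N.subgroupOf H)) : ∃ χ : H → ℂ, IsCanon N ϑ μ H χ := by
  have S' := S.sub H hNH
  obtain ⟨η₀, hη₀, hη₀N⟩ := Cfsg.Agent.S0863.backward (Nat.card H) H rfl (N.subgroupOf H)
    hsolv _ S'.irr S'.inv d S'.deg S'.cop (fun h : H => μ h) S'.chr S'.one S'.det
  obtain ⟨χ, hχ, -⟩ := Cfsg.Agent.S0862.result (N.subgroupOf H) _ S'.irr d S'.deg S'.cop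
    ⟨η₀, hη₀, hη₀N⟩ (fun h : H => μ h) ⟨S'.chr, S'.one⟩ S'.det
  exact ⟨χ, (isCanon_iff H hNH χ).mpr hχ⟩

theorem isCanon_res {d : ℕ} (S : DetSetup N ϑ μ d) {K H : Subgroup G} (hNK : N ≤ K)
    (hKH : K ≤ H) {χ : H → ℂ} (h : IsCanon N ϑ μ H χ) :
    IsCanon N ϑ μ K (fun k : K => χ (Subgroup.inclusion hKH k)) := by
  have hchar : IsCharacter K (fun k : K => χ (Subgroup.inclusion hKH k)) :=
    isCharacter_comp (Subgroup.inclusion hKH) (Helper35.isChar_of_irr h.1)
  have hNv : ∀ (x : K) (hx : (x : G) ∈ N), χ (Subgroup.inclusion hKH x) = ϑ ⟨x, hx⟩ :=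
    fun x hx => h.2.1 (Subgroup.inclusion hKH x) hx
  refine ⟨?_, hNv, ?_⟩
  · apply irr_of_res_irr (N.subgroupOf K) hchar
    have h1 : (fun x : N.subgroupOf K => χ (Subgroup.inclusion hKH (x : K))) =
        thetaSub N ϑ K hNK := by
      funext x
      rw [hNv (x : K) (Subgroup.mem_subgroupOf.mp x.2), thetaSub_apply]
    rw [h1]
    exact (S.sub K hNK).irr
  · funext k
    rw [detChar_comp (Subgroup.inclusion hKH) (Helper35.isChar_of_irr h.1) k, h.2.2]
    rfl

theorem isCanon_conj {d : ℕ} (S : DetSetup N ϑ μ d) {H H' : Subgroup G} (e : H' ≃* H) (g : G)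
    (he : ∀ x : H', ((e x : H) : G) = g⁻¹ * x * g) {χ : H → ℂ} (h : IsCanon N ϑ μ H χ) :
    IsCanon N ϑ μ H' (fun x => χ (e x)) := by
  refine ⟨irr_comp_surjective e.toMonoidHom e.surjective h.1, fun x hx => ?_, ?_⟩
  · have hmem : ((e x : H) : G) ∈ N := by
      rw [he]
      have := hN.conj_mem _ hx g⁻¹
      rwa [inv_inv] at this
    show χ (e x) = ϑ ⟨↑x, hx⟩
    rw [h.2.1 (e x) hmem, ← S.inv g⁻¹ ⟨x, hx⟩]
    congr 1
    apply Subtype.ext
    simp [he]
  · funext x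
    have h1 : detChar (fun x => χ (e x)) x = detChar χ (e x) :=
      detChar_comp e.toMonoidHom (Helper35.isChar_of_irr h.1) x
    rw [h1, h.2.2]
    show μ ((e x : H) : G) = μ x
    rw [he]
    have h2 := Helper35.isClassFunction_of_isCharacter S.chr (x : G) g⁻¹
    rwa [inv_inv] at h2

variable (N ϑ μ)

/-- the canonical extension to `H`, extended by zero to a function on `G` (zero when there
is none) -/
noncomputable def canonG (H : Subgroup G) : G → ℂ :=
  haveI := Classical.propDecidable (∃ χ : H → ℂ, IsCanon N ϑ μ H χ)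
  if h : ∃ χ : H → ℂ, IsCanon N ϑ μ H χ then
    fun y => haveI := Classical.propDecidable (y ∈ H)
      if hy : y ∈ H then Classical.choose h ⟨y, hy⟩ else 0
  else 0

variable {N ϑ μ}

theorem canonG_spec {d : ℕ} (S : DetSetup N ϑ μ d) {H : Subgroup G} (hNH : N ≤ H)
    {χ : H → ℂ} (h : IsCanon N ϑ μ H χ) (y : H) : canonG N ϑ μ H y = χ y := by
  have hex : ∃ χ : H → ℂ, IsCanon N ϑ μ H χ := ⟨χ, h⟩
  have h1 : Classical.choose hex = χ := isCanon_unique S hNH (Classical.choose_spec hex) h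
  unfold canonG
  rw [dif_pos hex, dif_pos y.2, h1]

theorem canonG_le {d : ℕ} (S : DetSetup N ϑ μ d) {K H : Subgroup G} (hNK : N ≤ K)
    (hKH : K ≤ H) (hex : ∃ χ : H → ℂ, IsCanon N ϑ μ H χ) {y : G} (hy : y ∈ K) :
    canonG N ϑ μ K y = canonG N ϑ μ H y := by
  obtain ⟨χ, hχ⟩ := hex
  have h1 := canonG_spec S hNK (isCanon_res S hNK hKH hχ) ⟨y, hy⟩
  have h2 := canonG_spec S (hNK.trans hKH) hχ ⟨y, hKH hy⟩
  rw [show canonG N ϑ μ K y = _ from h1, show canonG N ϑ μ H y = _ from h2]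
  rfl

end Canon

end Cfsg.Agent.Lib.Helper20
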