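import Mathlib
import Cfsg.Agent.Lib.Helper20.CliffordRel
import Cfsg.Agent.Lib.Helper35.Bessel
import Cfsg.Agent.S0868

set_option autoImplicit false
open scoped ComplexConjugate
open Cfsg

namespace Cfsg.Agent.Lib.Helper20

section

variable {A : Type*} [Group A] [Fintype A]

/-- removing an irreducible constituent from a character leaves a character -/
theorem sub_constituent {β α : A → ℂ} (hβ : IsCharacter A β) (hα : IsIrrCharacter A α)
    (h : classInner β α ≠ 0) : IsCharacter A (β - α) := by
  classical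
  have := Helper4.irr_finite (G := A)
  let _ : Fintype (IrrCharacter A) := Fintype.ofFinite _
  obtain ⟨m, hm⟩ := Helper4.exists_decomp_of_isCharacter β hβ
  have h1 : classInner β α = m ⟨α, hα⟩ := by
    rw [hm]
    exact Helper4.classInner_sum_irr (fun χ => (m χ : ℂ)) ⟨α, hα⟩
  have h2 : m ⟨α, hα⟩ ≠ 0 := by
    intro h0
    rw [h0] at h1
    exact h (by rw [h1]; simp)
  set α' : IrrCharacter A := ⟨α, hα⟩ with hα'
  have h4 : (α' : A → ℂ) = ∑ χ : IrrCharacter A,
      ((if χ = α' then 1 else 0 : ℕ) : ℂ) • (χ : A → ℂ) := by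
    rw [Finset.sum_eq_single α']
    · simp
    · intro b _ hb
      simp [hb]
    · intro hh; exact absurd (Finset.mem_univ _) hh
  have h3 : β - α = ∑ χ : IrrCharacter A,
      ((if χ = α' then m χ - 1 else m χ : ℕ) : ℂ) • (χ : A → ℂ) := by
    rw [hm, sub_eq_iff_eq_add]
    show _ = _ + (α' : A → ℂ)
    conv_rhs => rw [h4]
    rw [← Finset.sum_add_distrib]
    refine Finset.sum_congr rfl (fun χ _ => ?_)
    rw [← add_smul]
    congr 1
    by_cases hχ : χ = α'
    · rw [if_pos hχ, if_pos hχ, hχ]
      have : 1 ≤ m α' := Nat.one_le_iff_ne_zero.mpr h2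
      push_cast [Nat.cast_sub this]
      ring
    · rw [if_neg hχ, if_neg hχ]
      simp
  rw [h3]
  apply Helper35.isCharacter_sum
  intro χ _
  exact Helper35.isCharacter_natCast_smul _ (Helper35.isChar_of_irr χ.2)

/-- an irreducible character is not the sum of two nonzero characters -/
theorem irr_add_char {γ γ' : A → ℂ} (hγ : IsCharacter A γ) (hγ' : IsCharacter A γ')
    (h : IsIrrCharacter A (γ + γ')) : γ = 0 ∨ γ' = 0 := by
  have h1 := Helper35.classInner_irr' h h
  rw [if_pos rfl] at h1
  have hc := Helper35.isChar_of_irr h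
  obtain ⟨a, ha⟩ := Helper35.classInner_char_nat hγ hc
  obtain ⟨b, hb⟩ := Helper35.classInner_char_nat hγ' hc
  have h2 : classInner (γ + γ') (γ + γ') = classInner γ (γ + γ') + classInner γ' (γ + γ') :=
    Helper35.classInner_add_left _ _ _
  rw [h1, ha, hb] at h2
  have h3 : a + b = 1 := by exact_mod_cast h2.symm
  obtain ⟨n1, hn1⟩ := Helper35.classInner_char_nat hγ hγ
  obtain ⟨n2, hn2⟩ := Helper35.classInner_char_nat hγ hγ'
  obtain ⟨n3, hn3⟩ := Helper35.classInner_char_nat hγ' hγ
  obtain ⟨n4, hn4⟩ := Helper35.classInner_char_nat hγ' hγ'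
  have h4 : classInner γ (γ + γ') = classInner γ γ + classInner γ γ' :=
    Helper35.classInner_add_right _ _ _
  have h5 : classInner γ' (γ + γ') = classInner γ' γ + classInner γ' γ' :=
    Helper35.classInner_add_right _ _ _
  rw [ha, hn1, hn2] at h4
  rw [hb, hn3, hn4] at h5
  have h4' : a = n1 + n2 := by exact_mod_cast h4
  have h5' : b = n3 + n4 := by exact_mod_cast h5
  rcases Nat.eq_zero_or_pos a with h0 | hpos
  · left
    have : n1 = 0 := by omega
    rw [this] at hn1
    exact Helper35.classInner_self_eq_zero' (by rw [hn1]; simp)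
  · right
    have : n4 = 0 := by omega
    rw [this] at hn4
    exact Helper35.classInner_self_eq_zero' (by rw [hn4]; simp)

/-- a character whose induction is irreducible is irreducible -/
theorem irr_of_ind_irr (A₀ : Subgroup A) [Fintype A₀] {α : A₀ → ℂ} (hα : IsCharacter A₀ α)
    (h : IsIrrCharacter A (indFun A₀ α)) : IsIrrCharacter A₀ α := by
  have hidx : (A₀.index : ℂ) ≠ 0 := by
    have : A₀.index ≠ 0 := Subgroup.index_ne_zero_of_finite
    exact_mod_cast this
  have hα1 : α 1 ≠ 0 := by
    intro h0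
    have h1 := Helper83.irr_one_ne_zero h
    rw [Helper35.indFun_one_eq, h0, mul_zero] at h1
    exact h1 rfl
  obtain ⟨α₁, hα₁, hcon⟩ := exists_constituent_of_char hα hα1
  have hβ := sub_constituent hα hα₁ hcon
  have hsum : indFun A₀ α = indFun A₀ α₁ + indFun A₀ (α - α₁) := by
    rw [← Helper35.indFun_add]
    congr 1
    funext x
    simp
  rw [hsum] at h
  rcases irr_add_char (Helper35.isCharacter_indFun A₀ (Helper35.isChar_of_irr hα₁))
    (Helper35.isCharacter_indFun A₀ hβ) h with h0 | h0
  · exfalso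
    have h1 := congrFun h0 1
    rw [Helper35.indFun_one_eq] at h1
    rcases mul_eq_zero.mp h1 with h2 | h2
    · exact hidx h2
    · exact Helper83.irr_one_ne_zero hα₁ h2
  · have h1 := congrFun h0 1
    rw [Helper35.indFun_one_eq] at h1
    have h2 : (α - α₁) 1 = 0 := (mul_eq_zero.mp h1).resolve_left hidx
    have h3 := Helper35.isChar_eq_zero_of_one hβ h2
    have h4 : α = α₁ := sub_eq_zero.mp h3
    rw [h4]
    exact hα₁

end

end Cfsg.Agent.Lib.Helper20
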