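import Mathlib
import Cfsg.Agent.Lib.Helper20.Canon
import Cfsg.Agent.S0868
import Cfsg.Agent.S0164
import Cfsg.Agent.Lib.Helper36.CharBasic

set_option autoImplicit false
open scoped ComplexConjugate
open Cfsg

namespace Cfsg.Agent.Lib.Helper20

universe u

theorem solvable_sup_quot {G : Type*} [Group G] (N E : Subgroup G) [N.Normal]
    (hE : Group.IsSolvable E) :
    Group.IsSolvable ((N ⊔ E : Subgroup G) ⧸ N.subgroupOf (N ⊔ E)) := by
  let f : E →* (N ⊔ E : Subgroup G) ⧸ N.subgroupOf (N ⊔ E) :=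
    (QuotientGroup.mk' _).comp (Subgroup.inclusion le_sup_right)
  have hf : Function.Surjective f := by
    intro q
    obtain ⟨x, rfl⟩ := QuotientGroup.mk_surjective q
    obtain ⟨n, hn, e, he, hx⟩ : ∃ n ∈ N, ∃ e ∈ E, n * e = (x : G) := by
      have h1 : (x : G) ∈ ((N ⊔ E : Subgroup G) : Set G) := x.2
      rw [Subgroup.normal_mul] at h1
      exact Set.mem_mul.mp h1
    refine ⟨⟨e, he⟩, ?_⟩
    show QuotientGroup.mk _ = QuotientGroup.mk x
    rw [QuotientGroup.eq, Subgroup.mem_subgroupOf]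
    show e⁻¹ * (x : G) ∈ N
    rw [← hx]
    have h2 : e⁻¹ * (n * e) = e⁻¹ * n * e⁻¹⁻¹ := by group
    rw [h2]
    exact Subgroup.Normal.conj_mem inferInstance n hn e⁻¹
  exact Group.isSolvable_of_surjective hf

theorem solvable_zpowers {G : Type*} [Group G] (g : G) :
    Group.IsSolvable (Subgroup.zpowers g) := by
  apply Group.isSolvable_of_comm
  intro a b
  obtain ⟨a, ha⟩ := a
  obtain ⟨b, hb⟩ := b
  obtain ⟨i, rfl⟩ := Subgroup.mem_zpowers_iff.mp ha
  obtain ⟨j, rfl⟩ := Subgroup.mem_zpowers_iff.mp hb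
  apply Subtype.ext
  show g ^ i * g ^ j = g ^ j * g ^ i
  rw [← zpow_add, ← zpow_add, add_comm]

theorem solvable_of_elementary {E : Type*} [Group E] [Finite E] {p : ℕ} (hp : p.Prime)
    (hE : IsElementary p E) : Group.IsSolvable E := by
  obtain ⟨x, hx, -, k, hk⟩ := hE
  have hnorm : (Subgroup.zpowers x).Normal := by
    refine ⟨fun n hn g => ?_⟩
    obtain ⟨i, rfl⟩ := Subgroup.mem_zpowers_iff.mp hn
    have h1 : g * x ^ i * g⁻¹ = x ^ i := by
      have h2 : x ^ i ∈ Subgroup.center E := Subgroup.zpow_mem _ hx i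
      rw [Subgroup.mem_center_iff] at h2
      rw [h2 g, mul_inv_cancel_right]
    rw [h1]
    exact hn
  have := Fact.mk hp
  have hp' : IsPGroup p (E ⧸ Subgroup.zpowers x) :=
    IsPGroup.of_card (n := k) (by rw [← Subgroup.index_eq_card]; exact hk)
  have hnil : Group.IsNilpotent (E ⧸ Subgroup.zpowers x) := hp'.isNilpotent
  have hs2 : Group.IsSolvable (E ⧸ Subgroup.zpowers x) := inferInstance
  have hs1 : Group.IsSolvable (Subgroup.zpowers x) := solvable_zpowers x
  exact Group.isSolvable_of_ker_le_range (Subgroup.zpowers x).subtype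
    (QuotientGroup.mk' (Subgroup.zpowers x)) (by simp)

section Glue

variable {G : Type u} [Group G] [Finite G] (N : Subgroup G) [hN : N.Normal] (ϑ : N → ℂ)
  (μ : G → ℂ)

/-- the glued function: at `g` the value of the canonical extension to `N ⊔ ⟨g⟩` -/
noncomputable def glue : G → ℂ := fun g => canonG N ϑ μ (N ⊔ Subgroup.zpowers g) g

variable {N ϑ μ}

theorem glue_eq {d : ℕ} (S : DetSetup N ϑ μ d) {H : Subgroup G} (hNH : N ≤ H)
    (hex : ∃ χ : H → ℂ, IsCanon N ϑ μ H χ) {g : G} (hg : g ∈ H) :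
    glue N ϑ μ g = canonG N ϑ μ H g :=
  canonG_le S le_sup_left (sup_le hNH (Subgroup.zpowers_le.mpr hg)) hex
    (Subgroup.mem_sup_right (Subgroup.mem_zpowers g))

theorem glue_eq_canon {d : ℕ} (S : DetSetup N ϑ μ d) {H : Subgroup G} (hNH : N ≤ H)
    {χ : H → ℂ} (hχ : IsCanon N ϑ μ H χ) (y : H) : glue N ϑ μ y = χ y := by
  rw [glue_eq S hNH ⟨χ, hχ⟩ y.2]
  exact canonG_spec S hNH hχ y

theorem exists_canon_zpowers {d : ℕ} (S : DetSetup N ϑ μ d) (g : G) :
    ∃ χ : (N ⊔ Subgroup.zpowers g : Subgroup G) → ℂ, IsCanon N ϑ μ (N ⊔ Subgroup.zpowers g) χ :=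
  exists_canon S le_sup_left (solvable_sup_quot N _ (solvable_zpowers g))

theorem glue_res {d : ℕ} (S : DetSetup N ϑ μ d) (n : N) : glue N ϑ μ n = ϑ n := by
  obtain ⟨χ, hχ⟩ := exists_canon_zpowers S (n : G)
  have h1 := glue_eq_canon S le_sup_left hχ ⟨(n : G), Subgroup.mem_sup_left n.2⟩
  rw [show glue N ϑ μ (n : G) = _ from h1]
  exact hχ.2.1 _ n.2

theorem glue_res_char {d : ℕ} (S : DetSetup N ϑ μ d) (E : Subgroup G)
    (hE : Group.IsSolvable E) : IsCharacter E (fun e : E => glue N ϑ μ e) := by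
  obtain ⟨χ, hχ⟩ := exists_canon S (le_sup_left : N ≤ N ⊔ E) (solvable_sup_quot N E hE)
  have h1 : (fun e : E => glue N ϑ μ e) =
      fun e : E => χ (Subgroup.inclusion le_sup_right e) := by
    funext e
    exact glue_eq_canon S le_sup_left hχ (Subgroup.inclusion le_sup_right e)
  rw [h1]
  exact isCharacter_comp (Subgroup.inclusion le_sup_right) (Helper35.isChar_of_irr hχ.1)

theorem glue_classFunction {d : ℕ} (S : DetSetup N ϑ μ d) : IsClassFunction G (glue N ϑ μ) := by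
  intro a g
  obtain ⟨χ, hχ⟩ := exists_canon_zpowers S a
  set H : Subgroup G := N ⊔ Subgroup.zpowers a with hH
  let c : G ≃* G := MulAut.conj g
  let e : H.map c.toMonoidHom ≃* H := (c.subgroupMap H).symm
  have he : ∀ x : H.map c.toMonoidHom, ((e x : H) : G) = g⁻¹ * x * g := by
    intro x
    have h1 : ((c.subgroupMap H (e x) : H.map c.toMonoidHom) : G) = c ((e x : H) : G) :=
      MulEquiv.coe_subgroupMap_apply c H (e x)
    have h2 : c.subgroupMap H (e x) = x := (c.subgroupMap H).apply_symm_apply x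
    rw [h2] at h1
    rw [h1]
    show _ = g⁻¹ * (g * ((e x : H) : G) * g⁻¹) * g
    group
  have hχ' := isCanon_conj S e g he hχ
  have hNH' : N ≤ H.map c.toMonoidHom := by
    intro n hn
    refine ⟨g⁻¹ * n * g, Subgroup.mem_sup_left ?_, ?_⟩
    · have := hN.conj_mem n hn g⁻¹
      rwa [inv_inv] at this
    · show g * (g⁻¹ * n * g) * g⁻¹ = n
      group
  have hmem : g * a * g⁻¹ ∈ H.map c.toMonoidHom :=
    ⟨a, Subgroup.mem_sup_right (Subgroup.mem_zpowers a), rfl⟩
  have h1 := glue_eq_canon S hNH' hχ' ⟨g * a * g⁻¹, hmem⟩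
  have h2 := glue_eq_canon S le_sup_left hχ
    ⟨a, Subgroup.mem_sup_right (Subgroup.mem_zpowers a)⟩
  rw [show glue N ϑ μ (g * a * g⁻¹) = _ from h1, show glue N ϑ μ a = _ from h2]
  congr 1
  apply Subtype.ext
  rw [he]
  show g⁻¹ * (g * a * g⁻¹) * g = a
  group

theorem canon_coset_sum {d : ℕ} (S : DetSetup N ϑ μ d) [Fintype N] {H : Subgroup G}
    (hNH : N ≤ H) {χ : H → ℂ} (hχ : IsCanon N ϑ μ H χ) (g : G) (hg : g ∈ H) :
    ∑ n : N, glue N ϑ μ ((n : G) * g) * conj (glue N ϑ μ ((n : G) * g)) = (Nat.card N : ℂ) := by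
  classical
  let _ : Fintype H := Fintype.ofFinite _
  let _ : Fintype (N.subgroupOf H) := Fintype.ofFinite _
  have hχN : IsIrrCharacter (N.subgroupOf H) (fun n : N.subgroupOf H => χ n) := by
    have h1 : (fun n : N.subgroupOf H => χ n) = thetaSub N ϑ H hNH :=
      funext ((isCanon_iff H hNH χ).mp hχ).2.1
    rw [h1]
    exact (S.sub H hNH).irr
  have h2 := congrFun (Cfsg.Agent.S0868.eta_self (N.subgroupOf H) hχ.1 hχN) ⟨g, hg⟩
  unfold Cfsg.Agent.S0868.eta at h2
  have hcard : Nat.card (N.subgroupOf H) = Nat.card N :=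
    Nat.card_congr (Subgroup.subgroupOfEquivOfLe hNH).toEquiv
  rw [hcard] at h2
  have hN0 : (Nat.card N : ℂ) ≠ 0 := by exact_mod_cast (Nat.card_pos (α := N)).ne'
  have h3 : ∑ n : N.subgroupOf H, χ ((n : H) * ⟨g, hg⟩) * conj (χ ((n : H) * ⟨g, hg⟩)) =
      (Nat.card N : ℂ) := by
    field_simp at h2
    exact h2
  rw [← h3, ← Equiv.sum_comp (Subgroup.subgroupOfEquivOfLe hNH).toEquiv]
  apply Finset.sum_congr rfl
  intro n _
  have h4 := glue_eq_canon S hNH hχ ((n : H) * ⟨g, hg⟩)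
  have h5 : (((Subgroup.subgroupOfEquivOfLe hNH).toEquiv n : N) : G) * g =
      (((n : H) * ⟨g, hg⟩ : H) : G) := by
    show ((Subgroup.subgroupOfEquivOfLe hNH n : N) : G) * g = ((n : H) : G) * g
    rw [Subgroup.subgroupOfEquivOfLe_apply_coe]
  rw [h5, h4]

theorem glue_coset_sum {d : ℕ} (S : DetSetup N ϑ μ d) [Fintype N] (g : G) :
    ∑ n : N, glue N ϑ μ ((n : G) * g) * conj (glue N ϑ μ ((n : G) * g)) = (Nat.card N : ℂ) := by
  obtain ⟨χ, hχ⟩ := exists_canon_zpowers S g
  exact canon_coset_sum S le_sup_left hχ g (Subgroup.mem_sup_right (Subgroup.mem_zpowers g))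

theorem glue_norm {d : ℕ} (S : DetSetup N ϑ μ d) [Fintype G] :
    classInner (glue N ϑ μ) (glue N ϑ μ) = 1 := by
  classical
  let _ : Fintype N := Fintype.ofFinite _
  unfold classInner
  rw [Cfsg.Agent.S0868.sum_eq_avg N, Finset.sum_comm]
  rw [Finset.sum_congr rfl (fun g _ => glue_coset_sum S g)]
  rw [Finset.sum_const, Finset.card_univ, nsmul_eq_mul, Nat.card_eq_fintype_card,
    Nat.card_eq_fintype_card]
  have hG0 : (Fintype.card G : ℂ) ≠ 0 := by exact_mod_cast (Fintype.card_pos (α := G)).ne'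
  have hN0 : (Fintype.card N : ℂ) ≠ 0 := by exact_mod_cast (Fintype.card_pos (α := N)).ne'
  field_simp

/-- the glued function is an irreducible character extending `ϑ` -/
theorem glue_irr {d : ℕ} (S : DetSetup N ϑ μ d) :
    IsIrrCharacter G (glue N ϑ μ) ∧ ∀ n : N, glue N ϑ μ n = ϑ n := by
  classical
  let _ : Fintype G := Fintype.ofFinite G
  refine ⟨?_, glue_res S⟩
  have hgen : IsGeneralizedCharacter G (glue N ϑ μ) :=
    Cfsg.Agent.S0164.result (glue N ϑ μ) (glue_classFunction S) (fun E p hp hE =>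
      Helper35.isGenChar_of_char (glue_res_char S E (solvable_of_elementary hp hE)))
  obtain ⟨ψ, hψ, h | h⟩ := Helper36.gen_norm_one hgen (glue_norm S)
  · rw [h]; exact hψ
  · exfalso
    have h1 : glue N ϑ μ 1 = d := by
      have := glue_res S (1 : N)
      rw [show ((1 : N) : G) = 1 from rfl] at this
      rw [this, S.deg]
    obtain ⟨hpos, h2⟩ := Helper83.irr_degree hψ
    rw [h] at h1
    have h3 : (-ψ) 1 = -((charDegree ψ : ℕ) : ℂ) := by
      show -(ψ 1) = _
      rw [h2]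
    rw [h3] at h1
    have h4 : ((charDegree ψ + d : ℕ) : ℂ) = 0 := by
      push_cast
      rw [← h1]; ring
    have h5 : charDegree ψ + d = 0 := by exact_mod_cast h4
    omega

end Glue

end Cfsg.Agent.Lib.Helper20
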