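import Mathlib

set_option autoImplicit false

namespace Cfsg.Agent.Lib.Helper20

section

variable {G : Type*} [Group G]

theorem a5_K1 {x y : G} (hy : y * y = 1) (hr : (y * x) ^ 3 = 1) :
    y * x * y = x⁻¹ * y * x⁻¹ := by
  have h3 : y * x * (y * x) * (y * x) = 1 := by rw [← hr, pow_three']
  have hyi : y⁻¹ = y := inv_eq_of_mul_eq_one_left hy
  calc y * x * y = (y * x * (y * x) * (y * x)) * (x⁻¹ * y⁻¹ * x⁻¹) := by group
    _ = x⁻¹ * y * x⁻¹ := by rw [h3, one_mul, hyi]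

theorem a5_K2 {x y : G} (hy : y * y = 1) (hr : (y * x) ^ 3 = 1) :
    y * x⁻¹ * y = x * y * x := by
  have K1 := a5_K1 hy hr
  have h1 : (y * x * y) * (y * x⁻¹ * y) = 1 := by
    calc (y * x * y) * (y * x⁻¹ * y) = y * x * (y * y) * x⁻¹ * y := by group
      _ = y * x * 1 * x⁻¹ * y := by rw [hy]
      _ = y * y := by group
      _ = 1 := hy
  have h2 : (x⁻¹ * y * x⁻¹) * (x * y * x) = 1 := by
    calc (x⁻¹ * y * x⁻¹) * (x * y * x) = x⁻¹ * (y * y) * x := by group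
      _ = 1 := by rw [hy]; group
  rw [K1] at h1
  exact mul_left_cancel (h1.trans h2.symm)

theorem a5_h5 {x : G} (hx : x ^ 5 = 1) : x * x * x * x * x = 1 := by
  rw [← hx]; simp [pow_succ]

theorem a5_E2 {x : G} (hx : x ^ 5 = 1) : x⁻¹ * x⁻¹ * x⁻¹ = x * x := by
  calc x⁻¹ * x⁻¹ * x⁻¹ = x⁻¹ * x⁻¹ * x⁻¹ * (x * x * x * x * x) := by rw [a5_h5 hx, mul_one]
    _ = x * x := by simp [mul_assoc]

theorem a5_E1 {x : G} (hx : x ^ 5 = 1) : x * x * x = x⁻¹ * x⁻¹ := by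
  calc x * x * x = (x * x * x * x * x) * (x⁻¹ * x⁻¹) := by simp [mul_assoc]
    _ = x⁻¹ * x⁻¹ := by rw [a5_h5 hx, one_mul]

theorem a5_E4 {x : G} (hx : x ^ 5 = 1) : x⁻¹ = x ^ 4 := by
  calc x⁻¹ = x⁻¹ * (x * x * x * x * x) := by rw [a5_h5 hx, mul_one]
    _ = x * x * x * x := by simp [mul_assoc]
    _ = x ^ 4 := by simp [pow_succ]

theorem a5_I4 {x y : G} (hy : y * y = 1) (hr : (y * x) ^ 3 = 1) :
    y * x⁻¹ * x⁻¹ * y = x * (y * x * x * y * x) := by
  have K2 := a5_K2 hy hr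
  calc y * x⁻¹ * x⁻¹ * y = y * x⁻¹ * (y * y) * x⁻¹ * y := by rw [hy]; group
    _ = (y * x⁻¹ * y) * (y * x⁻¹ * y) := by group
    _ = (x * y * x) * (x * y * x) := by rw [K2]
    _ = x * (y * x * x * y * x) := by group

theorem a5_J {x y : G} (hy : y * y = 1) (hr : (y * x) ^ 3 = 1) :
    y * x * x * y = x⁻¹ * y * x⁻¹ * x⁻¹ * y * x⁻¹ := by
  have K1 := a5_K1 hy hr
  calc y * x * x * y = y * x * (y * y) * x * y := by rw [hy]; group
    _ = (y * x * y) * (y * x * y) := by group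
    _ = (x⁻¹ * y * x⁻¹) * (x⁻¹ * y * x⁻¹) := by rw [K1]
    _ = x⁻¹ * y * x⁻¹ * x⁻¹ * y * x⁻¹ := by group

theorem a5_I8 {x y : G} (hy : y * y = 1) (hx : x ^ 5 = 1) (hr : (y * x) ^ 3 = 1) :
    y * x * x * y * x * x * y = x⁻¹ * (y * x * x * y * x⁻¹) := by
  have K1 := a5_K1 hy hr
  calc y * x * x * y * x * x * y = (y * x * x * y) * (x * x * y) := by group
    _ = (x⁻¹ * y * x⁻¹ * x⁻¹ * y * x⁻¹) * (x * x * y) := by rw [a5_J hy hr]
    _ = x⁻¹ * y * x⁻¹ * x⁻¹ * (y * x * y) := by group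
    _ = x⁻¹ * y * x⁻¹ * x⁻¹ * (x⁻¹ * y * x⁻¹) := by rw [K1]
    _ = x⁻¹ * y * (x⁻¹ * x⁻¹ * x⁻¹) * y * x⁻¹ := by group
    _ = x⁻¹ * y * (x * x) * y * x⁻¹ := by rw [a5_E2 hx]
    _ = x⁻¹ * (y * x * x * y * x⁻¹) := by group

/-- coset representatives of `⟨x⟩` in `⟨x, y⟩` -/
def a5Reps (x y : G) : List G :=
  [1, y, y * x, y * x * x, y * x⁻¹ * x⁻¹, y * x⁻¹, y * x * x * y, y * x * x * y * x,
   y * x * x * y * x * x, y * x * x * y * x⁻¹ * x⁻¹, y * x * x * y * x⁻¹,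
   y * x * x * y * x⁻¹ * x⁻¹ * y]

theorem a5_step_x {x y : G} (hy : y * y = 1) (hx : x ^ 5 = 1) (hr : (y * x) ^ 3 = 1) (r : G)
    (hr' : r ∈ a5Reps x y) : ∃ c : ℕ, ∃ r' ∈ a5Reps x y, r * x = x ^ c * r' := by
  have K1 := a5_K1 hy hr
  have E1 := a5_E1 hx
  have E2 := a5_E2 hx
  have E4 := a5_E4 hx
  have I8 := a5_I8 hy hx hr
  simp only [a5Reps, List.mem_cons, List.not_mem_nil, or_false] at hr'
  rcases hr' with h | h | h | h | h | h | h | h | h | h | h | h <;> rw [h]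
  · exact ⟨1, 1, by simp [a5Reps], by group⟩
  · exact ⟨0, y * x, by simp [a5Reps], by group⟩
  · exact ⟨0, y * x * x, by simp [a5Reps], by group⟩
  · refine ⟨0, y * x⁻¹ * x⁻¹, by simp [a5Reps], ?_⟩
    calc y * x * x * x = y * (x * x * x) := by group
      _ = y * (x⁻¹ * x⁻¹) := by rw [E1]
      _ = x ^ 0 * (y * x⁻¹ * x⁻¹) := by group
  · exact ⟨0, y * x⁻¹, by simp [a5Reps], by group⟩
  · exact ⟨0, y, by simp [a5Reps], by group⟩
  · exact ⟨0, y * x * x * y * x, by simp [a5Reps], by group⟩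
  · exact ⟨0, y * x * x * y * x * x, by simp [a5Reps], by group⟩
  · refine ⟨0, y * x * x * y * x⁻¹ * x⁻¹, by simp [a5Reps], ?_⟩
    calc y * x * x * y * x * x * x = y * x * x * y * (x * x * x) := by group
      _ = y * x * x * y * (x⁻¹ * x⁻¹) := by rw [E1]
      _ = x ^ 0 * (y * x * x * y * x⁻¹ * x⁻¹) := by group
  · exact ⟨0, y * x * x * y * x⁻¹, by simp [a5Reps], by group⟩
  · exact ⟨0, y * x * x * y, by simp [a5Reps], by group⟩
  · refine ⟨4, y * x * x * y * x⁻¹ * x⁻¹ * y, by simp [a5Reps], ?_⟩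
    calc y * x * x * y * x⁻¹ * x⁻¹ * y * x
        = y * x * x * y * x⁻¹ * x⁻¹ * (y * x * (y * y)) := by rw [hy]; group
      _ = y * x * x * y * x⁻¹ * x⁻¹ * (y * x * y) * y := by group
      _ = y * x * x * y * x⁻¹ * x⁻¹ * (x⁻¹ * y * x⁻¹) * y := by rw [K1]
      _ = y * x * x * y * (x⁻¹ * x⁻¹ * x⁻¹) * y * x⁻¹ * y := by group
      _ = y * x * x * y * (x * x) * y * x⁻¹ * y := by rw [E2]
      _ = (y * x * x * y * x * x * y) * (x⁻¹ * y) := by group
      _ = (x⁻¹ * (y * x * x * y * x⁻¹)) * (x⁻¹ * y) := by rw [I8]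
      _ = x⁻¹ * (y * x * x * y * x⁻¹ * x⁻¹ * y) := by group
      _ = x ^ 4 * (y * x * x * y * x⁻¹ * x⁻¹ * y) := by rw [← E4]

theorem a5_step_y {x y : G} (hy : y * y = 1) (hx : x ^ 5 = 1) (hr : (y * x) ^ 3 = 1) (r : G)
    (hr' : r ∈ a5Reps x y) : ∃ c : ℕ, ∃ r' ∈ a5Reps x y, r * y = x ^ c * r' := by
  have K1 := a5_K1 hy hr
  have K2 := a5_K2 hy hr
  have E1 := a5_E1 hx
  have E4 := a5_E4 hx
  have I4 := a5_I4 hy hr
  have I8 := a5_I8 hy hx hr
  simp only [a5Reps, List.mem_cons, List.not_mem_nil, or_false] at hr'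
  rcases hr' with h | h | h | h | h | h | h | h | h | h | h | h <;> rw [h]
  · exact ⟨0, y, by simp [a5Reps], by group⟩
  · exact ⟨0, 1, by simp [a5Reps], by rw [hy]; group⟩
  · refine ⟨4, y * x⁻¹, by simp [a5Reps], ?_⟩
    calc y * x * y = x⁻¹ * y * x⁻¹ := K1
      _ = x⁻¹ * (y * x⁻¹) := by group
      _ = x ^ 4 * (y * x⁻¹) := by rw [← E4]
  · exact ⟨0, y * x * x * y, by simp [a5Reps], by group⟩
  · refine ⟨1, y * x * x * y * x, by simp [a5Reps], ?_⟩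
    rw [I4, pow_one]
  · refine ⟨1, y * x, by simp [a5Reps], ?_⟩
    rw [K2, pow_one]; group
  · refine ⟨0, y * x * x, by simp [a5Reps], ?_⟩
    calc y * x * x * y * y = y * x * x * (y * y) := by group
      _ = x ^ 0 * (y * x * x) := by rw [hy]; group
  · refine ⟨4, y * x⁻¹ * x⁻¹, by simp [a5Reps], ?_⟩
    calc y * x * x * y * x * y = y * x * x * (y * x * y) := by group
      _ = y * x * x * (x⁻¹ * y * x⁻¹) := by rw [K1]
      _ = (y * x * y) * x⁻¹ := by group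
      _ = (x⁻¹ * y * x⁻¹) * x⁻¹ := by rw [K1]
      _ = x⁻¹ * (y * x⁻¹ * x⁻¹) := by group
      _ = x ^ 4 * (y * x⁻¹ * x⁻¹) := by rw [← E4]
  · refine ⟨4, y * x * x * y * x⁻¹, by simp [a5Reps], ?_⟩
    calc y * x * x * y * x * x * y = x⁻¹ * (y * x * x * y * x⁻¹) := I8
      _ = x ^ 4 * (y * x * x * y * x⁻¹) := by rw [← E4]
  · exact ⟨0, y * x * x * y * x⁻¹ * x⁻¹ * y, by simp [a5Reps], by group⟩
  · refine ⟨1, y * x * x * y * x * x, by simp [a5Reps], ?_⟩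
    calc y * x * x * y * x⁻¹ * y = y * x * x * (y * x⁻¹ * y) := by group
      _ = y * x * x * (x * y * x) := by rw [K2]
      _ = y * (x * x * x) * y * x := by group
      _ = y * (x⁻¹ * x⁻¹) * y * x := by rw [E1]
      _ = (y * x⁻¹ * x⁻¹ * y) * x := by group
      _ = (x * (y * x * x * y * x)) * x := by rw [I4]
      _ = x ^ 1 * (y * x * x * y * x * x) := by group
  · refine ⟨0, y * x * x * y * x⁻¹ * x⁻¹, by simp [a5Reps], ?_⟩
    calc y * x * x * y * x⁻¹ * x⁻¹ * y * y = y * x * x * y * x⁻¹ * x⁻¹ * (y * y) := by group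
      _ = x ^ 0 * (y * x * x * y * x⁻¹ * x⁻¹) := by rw [hy]; group

theorem a5_closure_subset {x y : G} (hy : y * y = 1) (hx : x ^ 5 = 1) (hr : (y * x) ^ 3 = 1)
    (g : G) (hg : g ∈ Subgroup.closure ({x, y} : Set G)) :
    ∃ k : ℕ, ∃ r ∈ a5Reps x y, g = x ^ k * r := by
  have stepx : ∀ g : G, (∃ k : ℕ, ∃ r ∈ a5Reps x y, g = x ^ k * r) →
      (∃ k : ℕ, ∃ r ∈ a5Reps x y, g * x = x ^ k * r) := by
    rintro g ⟨k, r, hr', rfl⟩
    obtain ⟨c, r', hr'', h⟩ := a5_step_x hy hx hr r hr'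
    exact ⟨k + c, r', hr'', by rw [mul_assoc, h, ← mul_assoc, pow_add]⟩
  have stepy : ∀ g : G, (∃ k : ℕ, ∃ r ∈ a5Reps x y, g = x ^ k * r) →
      (∃ k : ℕ, ∃ r ∈ a5Reps x y, g * y = x ^ k * r) := by
    rintro g ⟨k, r, hr', rfl⟩
    obtain ⟨c, r', hr'', h⟩ := a5_step_y hy hx hr r hr'
    exact ⟨k + c, r', hr'', by rw [mul_assoc, h, ← mul_assoc, pow_add]⟩
  induction hg using Subgroup.closure_induction_right with
  | one => exact ⟨0, 1, by simp [a5Reps], by simp⟩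
  | mul_right g hg s hs ih =>
    simp only [Set.mem_insert_iff, Set.mem_singleton_iff] at hs
    rcases hs with hs | hs
    · rw [hs]; exact stepx g ih
    · rw [hs]; exact stepy g ih
  | mul_inv_cancel g hg s hs ih =>
    simp only [Set.mem_insert_iff, Set.mem_singleton_iff] at hs
    rcases hs with hs | hs
    · have h4 : g * s⁻¹ = g * x * x * x * x := by
        rw [hs, a5_E4 hx]; simp [pow_succ, mul_assoc]
      rw [h4]
      exact stepx _ (stepx _ (stepx _ (stepx _ ih)))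
    · have hyi : y⁻¹ = y := inv_eq_of_mul_eq_one_left hy
      rw [hs, hyi]; exact stepy g ih

/-- a group generated by `x`, `y` with `y² = x⁵ = (yx)³ = 1` has at most `60` elements -/
theorem a5_card_le {x y : G} (hy : y * y = 1) (hx : x ^ 5 = 1) (hr : (y * x) ^ 3 = 1) :
    Nat.card (Subgroup.closure ({x, y} : Set G)) ≤ 60 := by
  classical
  obtain ⟨S, hS⟩ : ∃ S : Finset G, S =
      (Finset.range 5 ×ˢ (a5Reps x y).toFinset).image (fun p => x ^ p.1 * p.2) := ⟨_, rfl⟩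
  have hsub : ((Subgroup.closure ({x, y} : Set G) : Subgroup G) : Set G) ⊆ ↑S := by
    intro g hg
    obtain ⟨k, r, hr', rfl⟩ := a5_closure_subset hy hx hr g hg
    rw [Finset.mem_coe, hS, Finset.mem_image]
    refine ⟨(k % 5, r), ?_, ?_⟩
    · rw [Finset.mem_product]
      exact ⟨Finset.mem_range.mpr (Nat.mod_lt _ (by norm_num)), List.mem_toFinset.mpr hr'⟩
    · simp only
      rw [← pow_eq_pow_mod k hx]
  have h1 : Nat.card (Subgroup.closure ({x, y} : Set G)) ≤ S.card := by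
    have h3 : Nat.card (Subgroup.closure ({x, y} : Set G)) =
        ((Subgroup.closure ({x, y} : Set G) : Subgroup G) : Set G).ncard :=
      (Nat.card_coe_set_eq _)
    rw [h3, ← Set.ncard_coe_finset S]
    exact Set.ncard_le_ncard hsub (Finset.finite_toSet S)
  have h2 : S.card ≤ 60 := by
    rw [hS]
    calc ((Finset.range 5 ×ˢ (a5Reps x y).toFinset).image (fun p => x ^ p.1 * p.2)).card
        ≤ (Finset.range 5 ×ˢ (a5Reps x y).toFinset).card := Finset.card_image_le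
      _ = 5 * (a5Reps x y).toFinset.card := by rw [Finset.card_product, Finset.card_range]
      _ ≤ 5 * (a5Reps x y).length := Nat.mul_le_mul_left 5 (List.toFinset_card_le _)
      _ = 60 := by simp [a5Reps]
  exact h1.trans h2

end

end Cfsg.Agent.Lib.Helper20
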