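import Mathlib

set_option autoImplicit false
open DihedralGroup

namespace Cfsg.Agent.Lib.Helper20.D8

theorem center_eq : ∀ z : DihedralGroup 4, z ≠ 1 → (∀ x, x * z = z * x) → z = r 2 := by decide

theorem invol_of : ∀ q : DihedralGroup 4, q ≠ 1 → ¬(q = r 1 ∨ q = r 3) → q * q = 1 := by decide

theorem r1_sq : (r 1 : DihedralGroup 4) * r 1 = r 2 := by decide
theorem r3_sq : (r 3 : DihedralGroup 4) * r 3 = r 2 := by decide
theorem r2_ne : (r 2 : DihedralGroup 4) ≠ 1 := by decide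
theorem r2_sq : (r 2 : DihedralGroup 4) * r 2 = 1 := by decide
theorem conj_r1 : (sr 0 : DihedralGroup 4) * r 1 * (sr 0)⁻¹ = r 3 := by decide
theorem r1_inv : (r 1 : DihedralGroup 4)⁻¹ = r 3 := by decide
theorem r0_eq : (r 0 : DihedralGroup 4) = 1 := by decide

theorem sq_of : ∀ q : DihedralGroup 4, (q = r 1 ∨ q = r 3) → q * q = r 2 := by decide

theorem card_pairs : Fintype.card {q : DihedralGroup 4 × DihedralGroup 4 //
    q.1 ≠ 1 ∧ q.1 * q.1 = 1 ∧ q.2 ≠ 1 ∧ q.2 * q.2 = 1 ∧ q.1 * q.2 = r 1} = 4 := by decide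

theorem univ_eq : (Finset.univ : Finset (DihedralGroup 4)) =
    {r 0, r 1, r 2, r 3, sr 0, sr 1, sr 2, sr 3} := by decide

theorem sum_d8 {M : Type*} [AddCommMonoid M] (F : DihedralGroup 4 → M) :
    ∑ q, F q = F (r 0) + F (r 1) + F (r 2) + F (r 3) + F (sr 0) + F (sr 1) + F (sr 2) +
      F (sr 3) := by
  rw [univ_eq]
  rw [Finset.sum_insert (by decide), Finset.sum_insert (by decide), Finset.sum_insert (by decide),
    Finset.sum_insert (by decide), Finset.sum_insert (by decide), Finset.sum_insert (by decide),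
    Finset.sum_insert (by decide), Finset.sum_singleton]
  simp only [add_assoc]

/-- the linear character with kernel the rotations -/
def l2f : DihedralGroup 4 → ℤˣ
  | r _ => 1
  | sr _ => -1

/-- a linear character with a Klein four kernel -/
def l3f : DihedralGroup 4 → ℤˣ
  | r i => if i = 0 ∨ i = 2 then 1 else -1
  | sr i => if i = 0 ∨ i = 2 then 1 else -1

theorem l2f_mul : ∀ a b : DihedralGroup 4, l2f (a * b) = l2f a * l2f b := by decide
theorem l3f_mul : ∀ a b : DihedralGroup 4, l3f (a * b) = l3f a * l3f b := by decide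

/-- the linear character with kernel the rotations, as a homomorphism -/
def l2 : DihedralGroup 4 →* ℤˣ := MonoidHom.mk' l2f l2f_mul
/-- a linear character with a Klein four kernel, as a homomorphism -/
def l3 : DihedralGroup 4 →* ℤˣ := MonoidHom.mk' l3f l3f_mul

theorem theta_eq : ∀ q : DihedralGroup 4, (if q = r 1 ∨ q = r 3 then (4 : ℤ) else 0) =
    1 + ((l2 q : ℤˣ) : ℤ) - ((l3 q : ℤˣ) : ℤ) - ((l2 q * l3 q : ℤˣ) : ℤ) := by decide

theorem theta_conj : ∀ a b : DihedralGroup 4, (b * a * b⁻¹ = r 1 ∨ b * a * b⁻¹ = r 3) ↔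
    (a = r 1 ∨ a = r 3) := by decide

theorem l3_vals : ((l3 (r 0) : ℤˣ) : ℤ) = 1 ∧ ((l3 (r 1) : ℤˣ) : ℤ) = -1 ∧
    ((l3 (r 2) : ℤˣ) : ℤ) = 1 ∧ ((l3 (r 3) : ℤˣ) : ℤ) = -1 ∧ ((l3 (sr 0) : ℤˣ) : ℤ) = 1 ∧
    ((l3 (sr 1) : ℤˣ) : ℤ) = -1 ∧ ((l3 (sr 2) : ℤˣ) : ℤ) = 1 ∧ ((l3 (sr 3) : ℤˣ) : ℤ) = -1 := by
  decide

end Cfsg.Agent.Lib.Helper20.D8
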