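import Mathlib
import Cfsg.Agent.S0107
import Cfsg.Agent.Lib.Helper56.PRes
import Cfsg.Agent.Lib.Helper20.D8

set_option autoImplicit false
open DihedralGroup
open Cfsg

namespace Cfsg.Agent.Lib.Helper20

section

variable {G : Type*} [Group G]

theorem d8_t_mem (t : G) : t ∈ Subgroup.centralizer ({t} : Set G) := by
  rw [Subgroup.mem_centralizer_iff]
  intro h hh
  rw [Set.mem_singleton_iff] at hh
  rw [hh]

theorem d8_mem_iff (t g : G) : g ∈ Subgroup.centralizer ({t} : Set G) ↔ t * g = g * t := by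
  rw [Subgroup.mem_centralizer_iff]
  constructor
  · intro h
    exact h t rfl
  · intro h x hx
    rw [Set.mem_singleton_iff] at hx
    rw [hx]
    exact h

theorem d8_t_sq (t : G) (ht : orderOf t = 2) : t * t = 1 := by
  have := pow_orderOf_eq_one t
  rw [ht, pow_two] at this
  exact this

theorem d8_t_ne (t : G) (ht : orderOf t = 2) : t ≠ 1 := by
  intro h
  rw [h, orderOf_one] at ht
  omega

theorem d8_orderOf {x : G} (h1 : x ≠ 1) (h2 : x * x = 1) : orderOf x = 2 := by
  have : Fact (Nat.Prime 2) := ⟨Nat.prime_two⟩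
  exact orderOf_eq_prime (by rw [pow_two]; exact h2) h1

theorem d8_e_t (t : G) (ht : orderOf t = 2)
    (e : Subgroup.centralizer ({t} : Set G) ≃* DihedralGroup 4) :
    e ⟨t, d8_t_mem t⟩ = r 2 := by
  apply D8.center_eq
  · intro h
    have h1 : (⟨t, d8_t_mem t⟩ : Subgroup.centralizer ({t} : Set G)) = 1 := by
      apply e.injective
      rw [h, map_one]
    exact d8_t_ne t ht (congrArg Subtype.val h1)
  · intro x
    obtain ⟨y, rfl⟩ := e.surjective x
    rw [← map_mul, ← map_mul]
    congr 1
    apply Subtype.ext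
    exact ((d8_mem_iff t y).mp y.2).symm

theorem d8_symm_r2 (t : G) (ht : orderOf t = 2)
    (e : Subgroup.centralizer ({t} : Set G) ≃* DihedralGroup 4) :
    e.symm (r 2) = ⟨t, d8_t_mem t⟩ := by
  rw [MulEquiv.symm_apply_eq, d8_e_t t ht e]

/-- an element of order four of the centralizer squares to `t` -/
theorem d8_sq_eq (t : G) (ht : orderOf t = 2)
    (e : Subgroup.centralizer ({t} : Set G) ≃* DihedralGroup 4)
    (y : Subgroup.centralizer ({t} : Set G)) (hy : e y = r 1 ∨ e y = r 3) :
    (y : G) * (y : G) = t := by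
  have h1 : e (y * y) = e ⟨t, d8_t_mem t⟩ := by
    rw [map_mul, D8.sq_of _ hy, d8_e_t t ht e]
  have h2 := e.injective h1
  exact congrArg Subtype.val h2

/-- the elements of order four of the centralizer form a T.I. set -/
theorem d8_ti (t : G) (ht : orderOf t = 2)
    (e : Subgroup.centralizer ({t} : Set G) ≃* DihedralGroup 4)
    (y z : Subgroup.centralizer ({t} : Set G)) (hy : e y = r 1 ∨ e y = r 3)
    (hz : e z = r 1 ∨ e z = r 3) (g : G) (hg : g⁻¹ * (y : G) * g = (z : G)) :
    g ∈ Subgroup.centralizer ({t} : Set G) := by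
  rw [d8_mem_iff]
  have h1 := d8_sq_eq t ht e y hy
  have h2 := d8_sq_eq t ht e z hz
  rw [← hg] at h2
  have h3 : g⁻¹ * t * g = t := by
    calc g⁻¹ * t * g = g⁻¹ * ((y : G) * (y : G)) * g := by rw [h1]
      _ = g⁻¹ * (y : G) * g * (g⁻¹ * (y : G) * g) := by group
      _ = t := h2
  calc t * g = g * (g⁻¹ * t * g) := by group
    _ = g * t := by rw [h3]

/-- the elements of the centralizer that square to one are not of order four -/
theorem d8_not_four (t : G)
    (e : Subgroup.centralizer ({t} : Set G) ≃* DihedralGroup 4)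
    (y : Subgroup.centralizer ({t} : Set G)) (hy : (y : G) * (y : G) = 1) :
    ¬ (e y = r 1 ∨ e y = r 3) := by
  intro h
  have h1 : e (y * y) = r 2 := by rw [map_mul, D8.sq_of _ h]
  have h2 : y * y = 1 := Subtype.ext hy
  rw [h2, map_one] at h1
  exact D8.r2_ne h1.symm

theorem d8_card (t : G) (e : Subgroup.centralizer ({t} : Set G) ≃* DihedralGroup 4) :
    Nat.card (Subgroup.centralizer ({t} : Set G)) = 8 := by
  rw [Nat.card_congr e.toEquiv, DihedralGroup.nat_card]

theorem d8_sylow [Finite G] (t : G) (ht : orderOf t = 2)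
    (e : Subgroup.centralizer ({t} : Set G) ≃* DihedralGroup 4) :
    ∃ T : Sylow 2 G, (T : Subgroup G) = Subgroup.centralizer ({t} : Set G) := by
  have : Fact (Nat.Prime 2) := ⟨Nat.prime_two⟩
  have hp : IsPGroup 2 (Subgroup.centralizer ({t} : Set G)) :=
    IsPGroup.of_card (n := 3) (by rw [d8_card t e]; norm_num)
  obtain ⟨P, hP⟩ := hp.exists_le_sylow
  refine ⟨P, le_antisymm ?_ hP⟩
  have htP : t ∈ (P : Subgroup G) := hP (d8_t_mem t)
  have hnt : Nontrivial (P : Subgroup G) :=
    ⟨⟨⟨t, htP⟩, 1, fun h => d8_t_ne t ht (congrArg Subtype.val h)⟩⟩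
  have hc : Nontrivial (Subgroup.center (P : Subgroup G)) := IsPGroup.center_nontrivial P.isPGroup'
  obtain ⟨z, hz⟩ := exists_ne (1 : Subgroup.center (P : Subgroup G))
  have hzc : ∀ x : (P : Subgroup G), x * (z : (P : Subgroup G)) = (z : (P : Subgroup G)) * x :=
    fun x => Subgroup.mem_center_iff.mp z.2 x
  have hzc' : ∀ x : G, x ∈ (P : Subgroup G) →
      x * ((z : (P : Subgroup G)) : G) = ((z : (P : Subgroup G)) : G) * x := by
    intro x hx
    exact congrArg Subtype.val (hzc ⟨x, hx⟩)
  have hzD : ((z : (P : Subgroup G)) : G) ∈ Subgroup.centralizer ({t} : Set G) := by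
    rw [d8_mem_iff]
    exact hzc' t htP
  have hz1 : ((z : (P : Subgroup G)) : G) ≠ 1 := by
    intro h
    apply hz
    apply Subtype.ext
    apply Subtype.ext
    exact h
  have hez : e ⟨((z : (P : Subgroup G)) : G), hzD⟩ = r 2 := by
    apply D8.center_eq
    · intro h
      have h1 : (⟨((z : (P : Subgroup G)) : G), hzD⟩ : Subgroup.centralizer ({t} : Set G)) = 1 := by
        apply e.injective
        rw [h, map_one]
      exact hz1 (congrArg Subtype.val h1)
    · intro x
      obtain ⟨y, rfl⟩ := e.surjective x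
      rw [← map_mul, ← map_mul]
      congr 1
      apply Subtype.ext
      exact hzc' y (hP y.2)
  have hzt : ((z : (P : Subgroup G)) : G) = t := by
    have h1 : (⟨((z : (P : Subgroup G)) : G), hzD⟩ : Subgroup.centralizer ({t} : Set G)) =
        ⟨t, d8_t_mem t⟩ := by
      apply e.injective
      rw [hez, d8_e_t t ht e]
    exact congrArg Subtype.val h1
  intro x hx
  rw [d8_mem_iff]
  have := hzc' x hx
  rw [hzt] at this
  exact this.symm

theorem d8_pres [Finite G] (hperf : commutator G = ⊤) : Cfsg.pResidual 2 G = ⊤ := by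
  have : Fact (Nat.Prime 2) := ⟨Nat.prime_two⟩
  have hN := Helper56.pResidual_normal 2 G
  have hq : IsPGroup 2 (G ⧸ Cfsg.pResidual 2 G) := by
    intro x
    obtain ⟨g, rfl⟩ := QuotientGroup.mk_surjective x
    obtain ⟨k, hk⟩ := Helper56.exists_pow_mem_pResidual 2 g
    refine ⟨k, ?_⟩
    rw [← QuotientGroup.mk_pow]
    exact (QuotientGroup.eq_one_iff _).mpr hk
  have hnil : Group.IsNilpotent (G ⧸ Cfsg.pResidual 2 G) := hq.isNilpotent
  have hsol : Group.IsSolvable (G ⧸ Cfsg.pResidual 2 G) := inferInstance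
  have hcq : commutator (G ⧸ Cfsg.pResidual 2 G) = ⊤ := by
    have h1 := Subgroup.map_commutator (⊤ : Subgroup G) ⊤ (QuotientGroup.mk' (Cfsg.pResidual 2 G))
    rw [Subgroup.map_top_of_surjective _ (QuotientGroup.mk'_surjective _), ← commutator_def,
      ← commutator_def, hperf, Subgroup.map_top_of_surjective _ (QuotientGroup.mk'_surjective _)]
      at h1
    exact h1.symm
  by_contra hne
  have hnt : Nontrivial (G ⧸ Cfsg.pResidual 2 G) := QuotientGroup.nontrivial_iff.mpr hne
  exact (Group.IsSolvable.commutator_lt_top_of_nontrivial (G ⧸ Cfsg.pResidual 2 G)).ne hcq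

theorem d8_invol_conj [Finite G] (hperf : commutator G = ⊤) (t : G) (ht : orderOf t = 2)
    (e : Subgroup.centralizer ({t} : Set G) ≃* DihedralGroup 4) (x : G) (hx : orderOf x = 2) :
    IsConj t x := by
  obtain ⟨T, hT⟩ := d8_sylow t ht e
  obtain ⟨g, hg⟩ := Cfsg.Agent.S0107.result T 2 le_rfl
    ⟨(MulEquiv.subgroupCongr hT).trans e⟩ (d8_pres hperf) t x ht hx
  exact isConj_iff.mpr ⟨g, hg⟩

theorem d8_conj_sq {t : G} (ht2 : t * t = 1) {x : G} (hx : IsConj t x) : x * x = 1 := by
  obtain ⟨c, hc⟩ := isConj_iff.mp hx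
  rw [← hc]
  calc c * t * c⁻¹ * (c * t * c⁻¹) = c * (t * t) * c⁻¹ := by group
    _ = 1 := by rw [ht2]; group

theorem d8_conj_ne {t : G} (ht1 : t ≠ 1) {x : G} (hx : IsConj t x) : x ≠ 1 := by
  obtain ⟨c, hc⟩ := isConj_iff.mp hx
  intro h
  rw [h] at hc
  apply ht1
  calc t = c⁻¹ * (c * t * c⁻¹) * c := by group
    _ = 1 := by rw [hc]; group

theorem d8_invol_symm [Finite G] (hperf : commutator G = ⊤) (t : G) (ht : orderOf t = 2)
    (e : Subgroup.centralizer ({t} : Set G) ≃* DihedralGroup 4) (q : DihedralGroup 4)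
    (hq1 : q ≠ 1) (hq2 : q * q = 1) :
    IsConj t ((e.symm q : Subgroup.centralizer ({t} : Set G)) : G) := by
  apply d8_invol_conj hperf t ht e
  apply d8_orderOf
  · intro h
    apply hq1
    have h1 : e.symm q = 1 := Subtype.ext h
    rw [MulEquiv.symm_apply_eq, map_one] at h1
    exact h1
  · have h1 : e.symm q * e.symm q = 1 := by rw [← map_mul, hq2, map_one]
    exact congrArg Subtype.val h1

/-- exactly four pairs of involutions have product a given element of order four -/
theorem d8_count [Finite G] (hperf : commutator G = ⊤) (t : G) (ht : orderOf t = 2)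
    (e : Subgroup.centralizer ({t} : Set G) ≃* DihedralGroup 4) :
    Nat.card {p : G × G // IsConj t p.1 ∧ IsConj t p.2 ∧
      p.1 * p.2 = ((e.symm (r 1) : Subgroup.centralizer ({t} : Set G)) : G)} = 4 := by
  classical
  have ht2 := d8_t_sq t ht
  have ht1 := d8_t_ne t ht
  let f : {q : DihedralGroup 4 × DihedralGroup 4 //
      q.1 ≠ 1 ∧ q.1 * q.1 = 1 ∧ q.2 ≠ 1 ∧ q.2 * q.2 = 1 ∧ q.1 * q.2 = r 1} →
      {p : G × G // IsConj t p.1 ∧ IsConj t p.2 ∧
        p.1 * p.2 = ((e.symm (r 1) : Subgroup.centralizer ({t} : Set G)) : G)} :=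
    fun q => ⟨(((e.symm q.1.1 : Subgroup.centralizer ({t} : Set G)) : G),
        ((e.symm q.1.2 : Subgroup.centralizer ({t} : Set G)) : G)),
      d8_invol_symm hperf t ht e q.1.1 q.2.1 q.2.2.1,
      d8_invol_symm hperf t ht e q.1.2 q.2.2.2.1 q.2.2.2.2.1, by
        show ((e.symm q.1.1 : Subgroup.centralizer ({t} : Set G)) : G) *
          ((e.symm q.1.2 : Subgroup.centralizer ({t} : Set G)) : G) = _
        rw [← Subgroup.coe_mul, ← map_mul, q.2.2.2.2.2]⟩
  have hf : Function.Bijective f := by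
    constructor
    · intro q q' h
      have h1 := congrArg Subtype.val h
      have h2 : ((e.symm q.1.1 : Subgroup.centralizer ({t} : Set G)) : G) =
          ((e.symm q'.1.1 : Subgroup.centralizer ({t} : Set G)) : G) := congrArg Prod.fst h1
      have h3 : ((e.symm q.1.2 : Subgroup.centralizer ({t} : Set G)) : G) =
          ((e.symm q'.1.2 : Subgroup.centralizer ({t} : Set G)) : G) := congrArg Prod.snd h1
      apply Subtype.ext
      apply Prod.ext
      · exact e.symm.injective (Subtype.ext h2)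
      · exact e.symm.injective (Subtype.ext h3)
    · rintro ⟨⟨x, y⟩, hx, hy, hxy⟩
      simp only at hx hy hxy
      have hx2 : x * x = 1 := d8_conj_sq ht2 hx
      have hx1 : x ≠ 1 := d8_conj_ne ht1 hx
      have hy2 : y * y = 1 := d8_conj_sq ht2 hy
      have hy1 : y ≠ 1 := d8_conj_ne ht1 hy
      have hσ : x * y * (x * y) = t := by
        rw [hxy]
        exact d8_sq_eq t ht e (e.symm (r 1)) (Or.inl (by simp))
      have hσ' : y * x * (y * x) = t := by
        have hxi : x⁻¹ = x := inv_eq_of_mul_eq_one_left hx2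
        have hyi : y⁻¹ = y := inv_eq_of_mul_eq_one_left hy2
        have h1 : (x * y * (x * y))⁻¹ = y * x * (y * x) := by
          simp only [mul_inv_rev, hxi, hyi]
        rw [← h1, hσ]
        exact inv_eq_of_mul_eq_one_left ht2
      have hxD : x ∈ Subgroup.centralizer ({t} : Set G) := by
        rw [d8_mem_iff]
        calc t * x = y * x * (y * x) * x := by rw [hσ']
          _ = y * x * y * (x * x) := by simp only [mul_assoc]
          _ = y * x * y := by rw [hx2, mul_one]
          _ = (x * x) * y * x * y := by rw [hx2, one_mul]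
          _ = x * (x * y * (x * y)) := by simp only [mul_assoc]
          _ = x * t := by rw [hσ]
      have hyD : y ∈ Subgroup.centralizer ({t} : Set G) := by
        rw [d8_mem_iff]
        calc t * y = x * y * (x * y) * y := by rw [hσ]
          _ = x * y * x * (y * y) := by simp only [mul_assoc]
          _ = x * y * x := by rw [hy2, mul_one]
          _ = (y * y) * x * y * x := by rw [hy2, one_mul]
          _ = y * (y * x * (y * x)) := by simp only [mul_assoc]
          _ = y * t := by rw [hσ']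
      have hex : e ⟨x, hxD⟩ ≠ 1 := by
        intro h
        have h1 : (⟨x, hxD⟩ : Subgroup.centralizer ({t} : Set G)) = 1 :=
          e.injective (by rw [h, map_one])
        exact hx1 (congrArg Subtype.val h1)
      have hey : e ⟨y, hyD⟩ ≠ 1 := by
        intro h
        have h1 : (⟨y, hyD⟩ : Subgroup.centralizer ({t} : Set G)) = 1 :=
          e.injective (by rw [h, map_one])
        exact hy1 (congrArg Subtype.val h1)
      have hex2 : e ⟨x, hxD⟩ * e ⟨x, hxD⟩ = 1 := by
        rw [← map_mul]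
        have h1 : (⟨x, hxD⟩ * ⟨x, hxD⟩ : Subgroup.centralizer ({t} : Set G)) = 1 :=
          Subtype.ext hx2
        rw [h1, map_one]
      have hey2 : e ⟨y, hyD⟩ * e ⟨y, hyD⟩ = 1 := by
        rw [← map_mul]
        have h1 : (⟨y, hyD⟩ * ⟨y, hyD⟩ : Subgroup.centralizer ({t} : Set G)) = 1 :=
          Subtype.ext hy2
        rw [h1, map_one]
      have hexy : e ⟨x, hxD⟩ * e ⟨y, hyD⟩ = r 1 := by
        rw [← map_mul]
        have h1 : (⟨x, hxD⟩ * ⟨y, hyD⟩ : Subgroup.centralizer ({t} : Set G)) = e.symm (r 1) :=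
          Subtype.ext hxy
        rw [h1, MulEquiv.apply_symm_apply]
      refine ⟨⟨(e ⟨x, hxD⟩, e ⟨y, hyD⟩), hex, hex2, hey, hey2, hexy⟩, ?_⟩
      apply Subtype.ext
      show (((e.symm (e ⟨x, hxD⟩) : Subgroup.centralizer ({t} : Set G)) : G),
        ((e.symm (e ⟨y, hyD⟩) : Subgroup.centralizer ({t} : Set G)) : G)) = (x, y)
      rw [MulEquiv.symm_apply_apply, MulEquiv.symm_apply_apply]
  rw [← Nat.card_congr (Equiv.ofBijective f hf), Nat.card_eq_fintype_card]
  exact D8.card_pairs

end

end Cfsg.Agent.Lib.Helper20
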