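import Mathlib
import Cfsg.Agent.S0071
import Cfsg.Agent.Lib.Helper20.D8Grp

set_option autoImplicit false
open DihedralGroup
open Cfsg
open scoped Pointwise

namespace Cfsg.Agent.Lib.Helper20

/-- the automorphism of `D8` interchanging the two classes of noncentral involutions -/
def d8SwapFun : DihedralGroup 4 → DihedralGroup 4
  | r i => r (-i)
  | sr i => sr (1 - i)

theorem d8SwapFun_mul :
    ∀ a b : DihedralGroup 4, d8SwapFun (a * b) = d8SwapFun a * d8SwapFun b := by decide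

theorem d8SwapFun_invol : ∀ a : DihedralGroup 4, d8SwapFun (d8SwapFun a) = a := by decide

/-- the automorphism of `D8` interchanging `sr 0` and `sr 1` -/
def d8Swap : DihedralGroup 4 ≃* DihedralGroup 4 where
  toFun := d8SwapFun
  invFun := d8SwapFun
  left_inv := d8SwapFun_invol
  right_inv := d8SwapFun_invol
  map_mul' := d8SwapFun_mul

theorem d8Swap_symm_sr0 : d8Swap.symm (sr 0) = sr 1 := by decide
theorem d8Swap_symm_sr1 : d8Swap.symm (sr 1) = sr 0 := by decide

theorem d8_invol_cases : ∀ q : DihedralGroup 4, q ≠ 1 → q * q = 1 →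
    q = r 2 ∨ q = sr 0 ∨ q = sr 1 ∨ q = sr 2 ∨ q = sr 3 := by decide

theorem d8_sr2_eq : (sr 2 : DihedralGroup 4) = r 1 * sr 0 * (r 1)⁻¹ := by decide
theorem d8_sr3_eq : (sr 3 : DihedralGroup 4) = r 1 * sr 1 * (r 1)⁻¹ := by decide

theorem d8_prod_invol : ∀ q : DihedralGroup 4, ∃ a b : DihedralGroup 4,
    a * a = 1 ∧ b * b = 1 ∧ q = a * b := by decide

theorem d8_comm_eq : (sr 0 : DihedralGroup 4) * sr 1 * (sr 0)⁻¹ * (sr 1)⁻¹ = r 2 := by decide

theorem d8_sq_cases : ∀ q : DihedralGroup 4, q * q = 1 ∨ q * q = r 2 := by decide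

theorem d8_two_invol : ∀ q q' : DihedralGroup 4, q ≠ 1 → q' ≠ 1 → q * q = 1 → q' * q' = 1 →
    q ≠ r 2 → q' ≠ r 2 → q ≠ q' → (q * q' = r 2 ∨ (q * q') * (q * q') = r 2) := by decide

theorem d8_sr2_prod : (r 2 : DihedralGroup 4) * sr 0 = sr 2 := by decide

section

variable {G : Type*} [Group G]

/-- an element of the centralizer mapping to `r 2` is `t` -/
theorem d8_eq_of (t : G) (ht : orderOf t = 2)
    (e : Subgroup.centralizer ({t} : Set G) ≃* DihedralGroup 4)
    (y : Subgroup.centralizer ({t} : Set G)) (h : e y = r 2) : (y : G) = t := by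
  have h1 : y = e.symm (r 2) := by rw [← h, MulEquiv.symm_apply_apply]
  rw [h1, d8_symm_r2 t ht e]

/-- the image of an involution of `D8` is an involution -/
theorem d8_symm_orderOf (t : G)
    (e : Subgroup.centralizer ({t} : Set G) ≃* DihedralGroup 4) (q : DihedralGroup 4)
    (hq1 : q ≠ 1) (hq2 : q * q = 1) :
    orderOf ((e.symm q : Subgroup.centralizer ({t} : Set G)) : G) = 2 := by
  apply d8_orderOf
  · intro h
    apply hq1
    have h1 : e.symm q = 1 := Subtype.ext h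
    rw [MulEquiv.symm_apply_eq, map_one] at h1
    exact h1
  · have h1 : e.symm q * e.symm q = 1 := by rw [← map_mul, hq2, map_one]
    have h2 := congrArg (Subtype.val) h1
    simpa using h2

/-- fusion is invariant under conjugation inside `D8` -/
theorem d8_fus_conj (t : G)
    (e : Subgroup.centralizer ({t} : Set G) ≃* DihedralGroup 4) (q d : DihedralGroup 4)
    (h : ∃ g : G, g * t * g⁻¹ = ((e.symm q : Subgroup.centralizer ({t} : Set G)) : G)) :
    ∃ g : G, g * t * g⁻¹ =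
      ((e.symm (d * q * d⁻¹) : Subgroup.centralizer ({t} : Set G)) : G) := by
  obtain ⟨g, hg⟩ := h
  refine ⟨((e.symm d : Subgroup.centralizer ({t} : Set G)) : G) * g, ?_⟩
  rw [map_mul, map_mul, map_inv, Subgroup.coe_mul, Subgroup.coe_mul, Subgroup.coe_inv, ← hg]
  group

/-- every involution is conjugate into the centralizer -/
theorem d8_conj_into [Finite G] (t : G) (ht : orderOf t = 2)
    (e : Subgroup.centralizer ({t} : Set G) ≃* DihedralGroup 4) (x : G) (hx : orderOf x = 2) :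
    ∃ g : G, g * x * g⁻¹ ∈ Subgroup.centralizer ({t} : Set G) := by
  have : Fact (Nat.Prime 2) := ⟨Nat.prime_two⟩
  obtain ⟨T, hT⟩ := d8_sylow t ht e
  have hp : IsPGroup 2 (Subgroup.zpowers x) := by
    apply IsPGroup.of_card (n := 1)
    rw [Nat.card_zpowers, hx, pow_one]
  obtain ⟨Q, hQ⟩ := hp.exists_le_sylow
  obtain ⟨g, hg⟩ := MulAction.exists_smul_eq G Q T
  refine ⟨g, ?_⟩
  rw [← hT, ← hg, Sylow.coe_subgroup_smul]
  have h1 : x ∈ (Q : Subgroup G) := hQ (Subgroup.mem_zpowers x)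
  have h2 : MulAut.conj g • x ∈ MulAut.conj g • (Q : Subgroup G) :=
    Subgroup.smul_mem_pointwise_smul _ _ _ h1
  rwa [MulAut.smul_def, MulAut.conj_apply] at h2

/-- all involutions are conjugate when both noncentral classes fuse to `t` -/
theorem d8_fus_all (t : G) (ht : orderOf t = 2)
    (e : Subgroup.centralizer ({t} : Set G) ≃* DihedralGroup 4)
    (h1 : ∃ g : G, g * t * g⁻¹ = ((e.symm (sr 0) : Subgroup.centralizer ({t} : Set G)) : G))
    (h2 : ∃ g : G, g * t * g⁻¹ = ((e.symm (sr 1) : Subgroup.centralizer ({t} : Set G)) : G))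
    (q : DihedralGroup 4) (hq1 : q ≠ 1) (hq2 : q * q = 1) :
    ∃ g : G, g * t * g⁻¹ = ((e.symm q : Subgroup.centralizer ({t} : Set G)) : G) := by
  rcases d8_invol_cases q hq1 hq2 with h | h | h | h | h
  · refine ⟨1, ?_⟩
    rw [h, d8_symm_r2 t ht e]
    simp
  · rw [h]; exact h1
  · rw [h]; exact h2
  · rw [h, d8_sr2_eq]; exact d8_fus_conj t e _ _ h1
  · rw [h, d8_sr3_eq]; exact d8_fus_conj t e _ _ h2

/-- an involution of the centralizer is `t` or fuses as one of the two noncentral classes -/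
theorem d8_fus_cases (t : G) (ht : orderOf t = 2)
    (e : Subgroup.centralizer ({t} : Set G) ≃* DihedralGroup 4) (x : G)
    (hx : x ∈ Subgroup.centralizer ({t} : Set G)) (hx1 : x ≠ 1) (hx2 : x * x = 1) :
    x = t ∨ (∃ d : DihedralGroup 4,
      x = ((e.symm (d * sr 0 * d⁻¹) : Subgroup.centralizer ({t} : Set G)) : G)) ∨
      (∃ d : DihedralGroup 4,
      x = ((e.symm (d * sr 1 * d⁻¹) : Subgroup.centralizer ({t} : Set G)) : G)) := by
  obtain ⟨q, hq⟩ : ∃ q, q = e ⟨x, hx⟩ := ⟨_, rfl⟩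
  have hq1 : q ≠ 1 := by
    intro h
    rw [hq] at h
    have h3 : (⟨x, hx⟩ : Subgroup.centralizer ({t} : Set G)) = 1 := by
      rw [← e.map_eq_one_iff]; exact h
    exact hx1 (congrArg Subtype.val h3)
  have hq2 : q * q = 1 := by
    rw [hq, ← map_mul]
    have h3 : (⟨x, hx⟩ : Subgroup.centralizer ({t} : Set G)) * ⟨x, hx⟩ = 1 := Subtype.ext hx2
    rw [h3, map_one]
  have hxq : x = ((e.symm q : Subgroup.centralizer ({t} : Set G)) : G) := by
    rw [hq, MulEquiv.symm_apply_apply]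
  rcases d8_invol_cases q hq1 hq2 with h | h | h | h | h
  · left
    exact d8_eq_of t ht e ⟨x, hx⟩ (hq ▸ h)
  · right; left
    refine ⟨1, ?_⟩
    rw [hxq, h]; simp
  · right; right
    refine ⟨1, ?_⟩
    rw [hxq, h]; simp
  · right; left
    exact ⟨r 1, by rw [hxq, h, d8_sr2_eq]⟩
  · right; right
    exact ⟨r 1, by rw [hxq, h, d8_sr3_eq]⟩

/-- with full fusion there is one class of involutions -/
theorem d8_one_class [Finite G] (t : G) (ht : orderOf t = 2)
    (e : Subgroup.centralizer ({t} : Set G) ≃* DihedralGroup 4)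
    (h1 : ∃ g : G, g * t * g⁻¹ = ((e.symm (sr 0) : Subgroup.centralizer ({t} : Set G)) : G))
    (h2 : ∃ g : G, g * t * g⁻¹ = ((e.symm (sr 1) : Subgroup.centralizer ({t} : Set G)) : G))
    (x : G) (hx : orderOf x = 2) : IsConj t x := by
  obtain ⟨g, hg⟩ := d8_conj_into t ht e x hx
  have hx2 := d8_t_sq x hx
  have hx1 := d8_t_ne x hx
  have hy1 : g * x * g⁻¹ ≠ 1 := by
    intro h
    apply hx1
    have : x = g⁻¹ * (g * x * g⁻¹) * g := by group
    rw [this, h]; group
  have hy2 : g * x * g⁻¹ * (g * x * g⁻¹) = 1 := by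
    calc g * x * g⁻¹ * (g * x * g⁻¹) = g * (x * x) * g⁻¹ := by group
      _ = 1 := by rw [hx2]; group
  rw [isConj_iff]
  rcases d8_fus_cases t ht e _ hg hy1 hy2 with h | ⟨d, h⟩ | ⟨d, h⟩
  · refine ⟨g⁻¹, ?_⟩
    rw [← h]; group
  · obtain ⟨c, hc⟩ := d8_fus_conj t e _ d h1
    refine ⟨g⁻¹ * c, ?_⟩
    have : g⁻¹ * c * t * (g⁻¹ * c)⁻¹ = g⁻¹ * (c * t * c⁻¹) * g := by group
    rw [this, hc, ← h]; group
  · obtain ⟨c, hc⟩ := d8_fus_conj t e _ d h2
    refine ⟨g⁻¹ * c, ?_⟩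
    have : g⁻¹ * c * t * (g⁻¹ * c)⁻¹ = g⁻¹ * (c * t * c⁻¹) * g := by group
    rw [this, hc, ← h]; group

/-- without fusion, `t` is isolated in its centralizer -/
theorem d8_isolated (t : G) (ht : orderOf t = 2)
    (e : Subgroup.centralizer ({t} : Set G) ≃* DihedralGroup 4)
    (h1 : ¬ ∃ g : G, g * t * g⁻¹ = ((e.symm (sr 0) : Subgroup.centralizer ({t} : Set G)) : G))
    (h2 : ¬ ∃ g : G, g * t * g⁻¹ = ((e.symm (sr 1) : Subgroup.centralizer ({t} : Set G)) : G))
    (g : G) (hg : g * t * g⁻¹ ∈ Subgroup.centralizer ({t} : Set G)) : g * t * g⁻¹ = t := by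
  have ht2 := d8_t_sq t ht
  have ht1 := d8_t_ne t ht
  have hy1 : g * t * g⁻¹ ≠ 1 := by
    intro h
    apply ht1
    have : t = g⁻¹ * (g * t * g⁻¹) * g := by group
    rw [this, h]; group
  have hy2 : g * t * g⁻¹ * (g * t * g⁻¹) = 1 := by
    calc g * t * g⁻¹ * (g * t * g⁻¹) = g * (t * t) * g⁻¹ := by group
      _ = 1 := by rw [ht2]; group
  rcases d8_fus_cases t ht e _ hg hy1 hy2 with h | ⟨d, h⟩ | ⟨d, h⟩
  · exact h
  · exfalso
    apply h1
    have h3 := d8_fus_conj t e _ d⁻¹ ⟨g, h⟩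
    have h4 : d⁻¹ * (d * sr 0 * d⁻¹) * d⁻¹⁻¹ = sr 0 := by group
    rwa [h4] at h3
  · exfalso
    apply h2
    have h3 := d8_fus_conj t e _ d⁻¹ ⟨g, h⟩
    have h4 : d⁻¹ * (d * sr 1 * d⁻¹) * d⁻¹⁻¹ = sr 1 := by group
    rwa [h4] at h3

end

end Cfsg.Agent.Lib.Helper20
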