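import Mathlib
import Cfsg.Agent.S0071
import Cfsg.Agent.Lib.Helper20.D8Fus

set_option autoImplicit false
open DihedralGroup
open Cfsg
open scoped Pointwise
open scoped commutatorElement

namespace Cfsg.Agent.Lib.Helper20

section

variable {G : Type*} [Group G]

/-- elements of the centralizer have order dividing 8 -/
theorem d8_order_dvd (t : G) (e : Subgroup.centralizer ({t} : Set G) ≃* DihedralGroup 4) (c : G)
    (hc : c ∈ Subgroup.centralizer ({t} : Set G)) : orderOf c ∣ 8 := by
  have h := orderOf_dvd_natCard (⟨c, hc⟩ : Subgroup.centralizer ({t} : Set G))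
  rw [d8_card t e, Subgroup.orderOf_mk] at h
  exact h

/-- conjugation back: if `g x g⁻¹ = 1` then `x = 1` -/
theorem d8_conj_ne_one {g x : G} (hx : x ≠ 1) : g * x * g⁻¹ ≠ 1 := by
  intro h
  apply hx
  have : x = g⁻¹ * (g * x * g⁻¹) * g := by group
  rw [this, h]; group

theorem d8_comm_of_conj {g x : G} (h : g * x * g⁻¹ = x) : x * g = g * x := by
  calc x * g = (g * x * g⁻¹) * g := by rw [h]
    _ = g * x := by group

/-- case (i): no fusion gives a normal 2-complement -/
theorem d8_case_i [Finite G] (z : G) (hz : orderOf z = 2)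
    (e : Subgroup.centralizer ({z} : Set G) ≃* DihedralGroup 4)
    (h1 : ¬ ∃ g : G, g * z * g⁻¹ = ((e.symm (sr 0) : Subgroup.centralizer ({z} : Set G)) : G))
    (h2 : ¬ ∃ g : G, g * z * g⁻¹ = ((e.symm (sr 1) : Subgroup.centralizer ({z} : Set G)) : G)) :
    Subgroup.centralizer ({z} : Set G) ⊔ Cfsg.oddCore G = ⊤ := by
  have : Fact (Nat.Prime 2) := ⟨Nat.prime_two⟩
  obtain ⟨T, hT⟩ := d8_sylow z hz e
  have hiso := d8_isolated z hz e h1 h2
  have hfrob : ∀ Q : Subgroup G, Q ≤ (T : Subgroup G) →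
      ∀ g ∈ Subgroup.normalizer (Q : Set G), Nat.Coprime (orderOf g) 2 →
      g ∈ Subgroup.centralizer (Q : Set G) := by
    intro Q hQ g hg hcop
    by_cases hzQ : z ∈ Q
    · have h3 : g * z * g⁻¹ ∈ Q := (Subgroup.mem_normalizer_iff.mp hg z).mp hzQ
      have h4 : g * z * g⁻¹ ∈ Subgroup.centralizer ({z} : Set G) := by
        rw [← hT]; exact hQ h3
      have h5 := hiso g h4
      have h6 : g ∈ Subgroup.centralizer ({z} : Set G) := by
        rw [d8_mem_iff]
        exact d8_comm_of_conj h5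
      have h7 := d8_order_dvd z e g h6
      have h8 : orderOf g = 1 := by
        have h9 : Nat.Coprime (orderOf g) 8 := by
          have : (8 : ℕ) = 2 ^ 3 := by norm_num
          rw [this]; exact Nat.Coprime.pow_right 3 hcop
        exact Nat.Coprime.eq_one_of_dvd h9 h7
      rw [orderOf_eq_one_iff] at h8
      rw [h8]; exact Subgroup.one_mem _
    · have key : ∀ (y : G) (_ : y ∈ Q) (hyD : y ∈ Subgroup.centralizer ({z} : Set G)),
          e ⟨y, hyD⟩ ≠ r 2 := by
        intro y hy hyD h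
        apply hzQ
        have h3 := d8_eq_of z hz e ⟨y, hyD⟩ h
        rw [← h3]; exact hy
      have hsq : ∀ (y : G) (_ : y ∈ Q) (hyD : y ∈ Subgroup.centralizer ({z} : Set G)),
          e ⟨y, hyD⟩ * e ⟨y, hyD⟩ = 1 := by
        intro y hy hyD
        rcases d8_sq_cases (e ⟨y, hyD⟩) with h | h
        · exact h
        · exfalso
          rw [← map_mul] at h
          exact key (y * y) (Q.mul_mem hy hy) (Subgroup.mul_mem _ hyD hyD) h
      have hne1 : ∀ (y : G) (hyD : y ∈ Subgroup.centralizer ({z} : Set G)), y ≠ 1 →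
          e ⟨y, hyD⟩ ≠ 1 := by
        intro y hyD hy1 h
        apply hy1
        have h3 : (⟨y, hyD⟩ : Subgroup.centralizer ({z} : Set G)) = 1 := by
          rw [← e.map_eq_one_iff]; exact h
        exact congrArg Subtype.val h3
      have huniq : ∀ x ∈ Q, ∀ x' ∈ Q, x ≠ 1 → x' ≠ 1 → x = x' := by
        intro x hx x' hx' hx1 hx'1
        have hxD : x ∈ Subgroup.centralizer ({z} : Set G) := by rw [← hT]; exact hQ hx
        have hx'D : x' ∈ Subgroup.centralizer ({z} : Set G) := by rw [← hT]; exact hQ hx'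
        by_contra hne
        have hqq : e ⟨x, hxD⟩ ≠ e ⟨x', hx'D⟩ := by
          intro h
          apply hne
          exact congrArg Subtype.val (e.injective h)
        rcases d8_two_invol _ _ (hne1 x hxD hx1) (hne1 x' hx'D hx'1) (hsq x hx hxD)
          (hsq x' hx' hx'D) (key x hx hxD) (key x' hx' hx'D) hqq with h | h
        · rw [← map_mul] at h
          exact key (x * x') (Q.mul_mem hx hx') (Subgroup.mul_mem _ hxD hx'D) h
        · rw [← map_mul, ← map_mul] at h
          exact key ((x * x') * (x * x')) (Q.mul_mem (Q.mul_mem hx hx') (Q.mul_mem hx hx'))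
            (Subgroup.mul_mem _ (Subgroup.mul_mem _ hxD hx'D) (Subgroup.mul_mem _ hxD hx'D)) h
      rw [Subgroup.mem_centralizer_iff]
      intro x hx
      by_cases hx1 : x = 1
      · rw [hx1]; simp
      · have h3 : g * x * g⁻¹ ∈ Q := (Subgroup.mem_normalizer_iff.mp hg x).mp hx
        have h5 := huniq _ h3 _ hx (d8_conj_ne_one hx1) hx1
        exact d8_comm_of_conj h5
  obtain ⟨N, hN, hcompl⟩ := (Cfsg.Agent.S0071.result T).mpr hfrob
  have hcard : Nat.card (T : Subgroup G) = 8 := by rw [hT]; exact d8_card z e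
  have hcop : (Nat.card N).Coprime 2 := by
    have h3 := T.card_coprime_index
    rw [hcompl.index_eq_card, hcard] at h3
    exact (Nat.Coprime.coprime_dvd_left (by norm_num : 2 ∣ 8) h3).symm
  have hle : N ≤ Cfsg.oddCore G := le_sSup ⟨hN, hcop⟩
  rw [eq_top_iff, ← hcompl.sup_eq_top, sup_comm, hT]
  exact sup_le_sup le_rfl hle

/-- the centralizer is self-normalizing -/
theorem d8_normalizer (t : G) (ht : orderOf t = 2)
    (e : Subgroup.centralizer ({t} : Set G) ≃* DihedralGroup 4) :
    Subgroup.normalizer ((Subgroup.centralizer ({t} : Set G) : Subgroup G) : Set G) ≤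
      Subgroup.centralizer ({t} : Set G) := by
  intro g hg
  have h1 : g * t * g⁻¹ ∈ Subgroup.centralizer ({t} : Set G) :=
    (Subgroup.mem_normalizer_iff.mp hg t).mp (d8_t_mem t)
  have h2 : ∀ d : Subgroup.centralizer ({t} : Set G),
      d * ⟨g * t * g⁻¹, h1⟩ = ⟨g * t * g⁻¹, h1⟩ * d := by
    intro d
    apply Subtype.ext
    simp only [Subgroup.coe_mul]
    have h3 : g⁻¹ * (d : G) * g ∈ Subgroup.centralizer ({t} : Set G) := by
      refine (Subgroup.mem_normalizer_iff.mp hg (g⁻¹ * d * g)).mpr ?_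
      have : g * (g⁻¹ * (d : G) * g) * g⁻¹ = d := by group
      rw [this]; exact d.2
    have h4 := (d8_mem_iff t _).mp h3
    calc (d : G) * (g * t * g⁻¹) = g * ((g⁻¹ * d * g) * t) * g⁻¹ := by group
      _ = g * (t * (g⁻¹ * d * g)) * g⁻¹ := by rw [h4]
      _ = g * t * g⁻¹ * d := by group
  have h5 : e ⟨g * t * g⁻¹, h1⟩ = r 2 := by
    apply D8.center_eq
    · intro h
      have h6 : (⟨g * t * g⁻¹, h1⟩ : Subgroup.centralizer ({t} : Set G)) = 1 := by
        rw [← e.map_eq_one_iff]; exact h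
      exact d8_conj_ne_one (d8_t_ne t ht) (congrArg Subtype.val h6)
    · intro x
      have h8 := congrArg e (h2 (e.symm x))
      rw [map_mul, map_mul, MulEquiv.apply_symm_apply] at h8
      exact h8
  have h6 := d8_eq_of t ht e _ h5
  rw [d8_mem_iff]
  exact d8_comm_of_conj h6

/-- with one class of involutions, a normal subgroup of even order is everything -/
theorem d8_even_normal [Finite G] (t : G) (ht : orderOf t = 2)
    (e : Subgroup.centralizer ({t} : Set G) ≃* DihedralGroup 4)
    (hconj : ∀ x : G, orderOf x = 2 → IsConj t x) (N : Subgroup G) [hN : N.Normal]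
    (h2 : 2 ∣ Nat.card N) : N = ⊤ := by
  have : Fact (Nat.Prime 2) := ⟨Nat.prime_two⟩
  obtain ⟨x, hx⟩ := exists_prime_orderOf_dvd_card' 2 h2
  have hx' : orderOf (x : G) = 2 := by rw [Subgroup.orderOf_coe]; exact hx
  have hinv : ∀ y : G, orderOf y = 2 → y ∈ N := by
    intro y hy
    have h3 : IsConj (x : G) y := (hconj x hx').symm.trans (hconj y hy)
    obtain ⟨c, hc⟩ := isConj_iff.mp h3
    rw [← hc]; exact hN.conj_mem _ x.2 c
  have hD : Subgroup.centralizer ({t} : Set G) ≤ N := by
    intro d hd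
    obtain ⟨a, b, ha, hb, hab⟩ := d8_prod_invol (e ⟨d, hd⟩)
    have h3 : ∀ q : DihedralGroup 4, q * q = 1 →
        ((e.symm q : Subgroup.centralizer ({t} : Set G)) : G) ∈ N := by
      intro q hq
      by_cases hq1 : q = 1
      · rw [hq1, map_one]; exact N.one_mem
      · exact hinv _ (d8_symm_orderOf t e q hq1 hq)
    have h4 : d = ((e.symm a : Subgroup.centralizer ({t} : Set G)) : G) *
        ((e.symm b : Subgroup.centralizer ({t} : Set G)) : G) := by
      rw [← Subgroup.coe_mul, ← map_mul, ← hab, MulEquiv.symm_apply_apply]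
    rw [h4]; exact N.mul_mem (h3 a ha) (h3 b hb)
  obtain ⟨T, hT⟩ := d8_sylow t ht e
  have hTN : (T : Subgroup G) ≤ N := hT ▸ hD
  have h5 := Sylow.normalizer_sup_eq_top' T hTN
  have h6 : Subgroup.normalizer ((Subgroup.centralizer ({t} : Set G) : Subgroup G) : Set G) ⊔ N
      = ⊤ := by
    rw [← hT]; exact h5
  rw [eq_top_iff, ← h6]
  exact sup_le ((d8_normalizer t ht e).trans hD) le_rfl

/-- with one class of involutions the group is perfect -/
theorem d8_perfect [Finite G] (t : G) (ht : orderOf t = 2)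
    (e : Subgroup.centralizer ({t} : Set G) ≃* DihedralGroup 4)
    (hconj : ∀ x : G, orderOf x = 2 → IsConj t x) : commutator G = ⊤ := by
  apply d8_even_normal t ht e hconj
  have h1 : t ∈ commutator G := by
    have h3 : t = ⁅((e.symm (sr 0) : Subgroup.centralizer ({t} : Set G)) : G),
        ((e.symm (sr 1) : Subgroup.centralizer ({t} : Set G)) : G)⁆ := by
      rw [commutatorElement_def, ← Subgroup.coe_inv, ← Subgroup.coe_inv, ← Subgroup.coe_mul,
        ← Subgroup.coe_mul, ← Subgroup.coe_mul, ← map_inv, ← map_inv, ← map_mul, ← map_mul,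
        ← map_mul, d8_comm_eq, d8_symm_r2 t ht e]
    rw [h3, commutator_def]
    exact Subgroup.commutator_mem_commutator (Subgroup.mem_top _) (Subgroup.mem_top _)
  have h2 := orderOf_dvd_natCard (⟨t, h1⟩ : commutator G)
  rwa [Subgroup.orderOf_mk, ht] at h2

/-- an involution whose centralizer consists of `2`-elements inverts every normal subgroup of
odd order -/
theorem d8_invert [Finite G] (t : G) (ht2 : t * t = 1)
    (hC : ∀ c : G, c * t = t * c → orderOf c ∣ 8) (N : Subgroup G) [hN : N.Normal]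
    (hodd : ¬ 2 ∣ Nat.card N) (n : G) (hn : n ∈ N) : t * n * t⁻¹ = n⁻¹ := by
  have hti : t⁻¹ = t := inv_eq_of_mul_eq_one_left ht2
  obtain ⟨φ, hφ⟩ : ∃ φ : N → N, ∀ m : N, ((φ m : N) : G) = (m : G)⁻¹ * (t * m * t⁻¹) :=
    ⟨fun m => ⟨(m : G)⁻¹ * (t * m * t⁻¹), N.mul_mem (N.inv_mem m.2) (hN.conj_mem _ m.2 t)⟩,
      fun m => rfl⟩
  have hinj : Function.Injective φ := by
    intro m m' h
    have h3 : (m : G)⁻¹ * (t * m * t⁻¹) = (m' : G)⁻¹ * (t * m' * t⁻¹) := by
      rw [← hφ, ← hφ, h]
    have h4 : ((m' : G) * (m : G)⁻¹) * t = t * ((m' : G) * (m : G)⁻¹) := by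
      have h5 : (m' : G) * ((m : G)⁻¹ * (t * m * t⁻¹)) * (t * (m : G)⁻¹) = m' * (m : G)⁻¹ * t := by
        group
      have h6 : (m' : G) * ((m' : G)⁻¹ * (t * m' * t⁻¹)) * (t * (m : G)⁻¹) =
          t * ((m' : G) * (m : G)⁻¹) := by group
      rw [← h5, h3, h6]
    have h5 := hC _ h4
    have h6 : orderOf ((m' : G) * (m : G)⁻¹) ∣ Nat.card N := by
      have := orderOf_dvd_natCard (m' * m⁻¹ : N)
      rwa [← Subgroup.orderOf_coe, Subgroup.coe_mul, Subgroup.coe_inv] at this
    have h7 : orderOf ((m' : G) * (m : G)⁻¹) = 1 := by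
      have h8 : Nat.Coprime (Nat.card N) 8 := by
        have : (8 : ℕ) = 2 ^ 3 := by norm_num
        rw [this]
        apply Nat.Coprime.pow_right
        rw [Nat.coprime_comm]
        exact (Nat.Prime.coprime_iff_not_dvd Nat.prime_two).mpr hodd
      exact Nat.eq_one_of_dvd_coprimes h8 h6 h5
    rw [orderOf_eq_one_iff, mul_inv_eq_one] at h7
    exact (Subtype.ext h7).symm
  have hsurj : Function.Surjective φ := Finite.injective_iff_surjective.mp hinj
  obtain ⟨m, hm⟩ := hsurj ⟨n, hn⟩
  have h3 : n = (m : G)⁻¹ * (t * m * t⁻¹) := by rw [← hφ, hm]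
  have e1 : t * (m : G) * t⁻¹ = t⁻¹ * m * t := by rw [hti]
  rw [h3]
  nth_rewrite 1 [e1]
  group

/-- conjugation transports the centralizer order bound -/
theorem d8_cent_order (t : G) (e : Subgroup.centralizer ({t} : Set G) ≃* DihedralGroup 4)
    (x : G) (hx : IsConj t x) (c : G) (hc : c * x = x * c) : orderOf c ∣ 8 := by
  obtain ⟨g, hg⟩ := isConj_iff.mp hx
  have h1 : g⁻¹ * c * g ∈ Subgroup.centralizer ({t} : Set G) := by
    rw [d8_mem_iff]
    rw [← hg] at hc
    calc t * (g⁻¹ * c * g) = g⁻¹ * ((g * t * g⁻¹) * c) * g := by group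
      _ = g⁻¹ * (c * (g * t * g⁻¹)) * g := by rw [hc]
      _ = g⁻¹ * c * g * t := by group
  have h2 := d8_order_dvd t e _ h1
  have h3 : orderOf (g⁻¹ * c * g) = orderOf c := by
    have h : SemiconjBy g⁻¹ c (g⁻¹ * c * g) := by
      unfold SemiconjBy
      group
    exact h.orderOf_eq.symm
  rwa [h3] at h2

/-- with one class of involutions the group is simple -/
theorem d8_simple [Finite G] (t : G) (ht : orderOf t = 2)
    (e : Subgroup.centralizer ({t} : Set G) ≃* DihedralGroup 4)
    (hconj : ∀ x : G, orderOf x = 2 → IsConj t x) : IsSimpleGroup G := by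
  have hnt : Nontrivial G := ⟨⟨t, 1, d8_t_ne t ht⟩⟩
  refine IsSimpleGroup.mk ?_
  intro N hN
  by_cases h2 : 2 ∣ Nat.card N
  · right; exact d8_even_normal t ht e hconj N h2
  · left
    rw [Subgroup.eq_bot_iff_forall]
    intro n hn
    have ht2 := d8_t_sq t ht
    obtain ⟨b, hb⟩ : ∃ b : G, b = ((e.symm (sr 0) : Subgroup.centralizer ({t} : Set G)) : G) :=
      ⟨_, rfl⟩
    have hbo : orderOf b = 2 := by
      rw [hb]; exact d8_symm_orderOf t e _ (by decide) (by decide)
    have hzb : t * b = ((e.symm (sr 2) : Subgroup.centralizer ({t} : Set G)) : G) := by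
      rw [← d8_sr2_prod, map_mul, d8_symm_r2 t ht e, hb]
      rfl
    have hzbo : orderOf (t * b) = 2 := by
      rw [hzb]; exact d8_symm_orderOf t e _ (by decide) (by decide)
    have i1 := d8_invert t ht2 (fun c hc => d8_cent_order t e t (IsConj.refl t) c hc) N h2
    have i2 := d8_invert b (d8_t_sq b hbo)
      (fun c hc => d8_cent_order t e b (hconj b hbo) c hc) N h2
    have i3 := d8_invert (t * b) (d8_t_sq _ hzbo)
      (fun c hc => d8_cent_order t e _ (hconj _ hzbo) c hc) N h2
    have h3 : n = n⁻¹ := by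
      have h4 := i3 n hn
      have h5 := i2 n hn
      have h6 := i1 n⁻¹ (N.inv_mem hn)
      rw [inv_inv] at h6
      calc n = t * n⁻¹ * t⁻¹ := h6.symm
        _ = t * (b * n * b⁻¹) * t⁻¹ := by rw [h5]
        _ = t * b * n * (t * b)⁻¹ := by group
        _ = n⁻¹ := h4
    have h4 : n * n = 1 := by
      nth_rewrite 1 [h3]; group
    have h5 : orderOf n ∣ 2 := by
      apply orderOf_dvd_of_pow_eq_one; rw [pow_two]; exact h4
    have h6 : orderOf n ∣ Nat.card N := by
      have := orderOf_dvd_natCard (⟨n, hn⟩ : N)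
      rwa [Subgroup.orderOf_mk] at this
    have h7 : orderOf n = 1 := by
      have h8 : Nat.Coprime (Nat.card N) 2 := by
        rw [Nat.coprime_comm]
        exact (Nat.Prime.coprime_iff_not_dvd Nat.prime_two).mpr h2
      exact Nat.eq_one_of_dvd_coprimes h8 h6 h5
    exact orderOf_eq_one_iff.mp h7

end

end Cfsg.Agent.Lib.Helper20
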