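import Mathlib
import Cfsg.Agent.Lib.Helper20.D8Str
import Cfsg.Agent.Lib.Helper23.Syl
import Cfsg.Agent.Lib.Helper23.Count
import Cfsg.Agent.Lib.Helper23.Embed
import Cfsg.Agent.Lib.Helper6.Ord60

set_option autoImplicit false
open DihedralGroup
open Cfsg

namespace Cfsg.Agent.Lib.Helper20

theorem d8_pow_four : ∀ q : DihedralGroup 4, q ^ 4 = 1 := by decide

theorem d8_sqrt_r2 : ∀ q : DihedralGroup 4, q * q = r 2 → q = r 1 ∨ q = r 3 := by decide

theorem d8_noncentral : ∀ q : DihedralGroup 4, q ≠ 1 → q * q = 1 → q ≠ r 2 →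
    q = sr 0 ∨ q = sr 1 ∨ q = sr 2 ∨ q = sr 3 := by decide

theorem d8_cent_card : ∀ q' : DihedralGroup 4, q' ≠ 1 → q' * q' = 1 → q' ≠ r 2 →
    (Finset.univ.filter (fun q : DihedralGroup 4 => q * q' = q' * q)).card ≤ 4 := by decide

section

variable {G : Type*} [Group G]

/-- conjugation as an isomorphism of centralizers -/
def centConjEquiv (g t : G) :
    Subgroup.centralizer ({g * t * g⁻¹} : Set G) ≃* Subgroup.centralizer ({t} : Set G) where
  toFun c := ⟨g⁻¹ * c * g, by
    rw [d8_mem_iff]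
    have h := (d8_mem_iff (g * t * g⁻¹) c).mp c.2
    calc t * (g⁻¹ * c * g) = g⁻¹ * ((g * t * g⁻¹) * c) * g := by group
      _ = g⁻¹ * (c * (g * t * g⁻¹)) * g := by rw [h]
      _ = g⁻¹ * c * g * t := by group⟩
  invFun c := ⟨g * c * g⁻¹, by
    rw [d8_mem_iff]
    have h := (d8_mem_iff t c).mp c.2
    calc g * t * g⁻¹ * (g * c * g⁻¹) = g * (t * c) * g⁻¹ := by group
      _ = g * (c * t) * g⁻¹ := by rw [h]
      _ = g * c * g⁻¹ * (g * t * g⁻¹) := by group⟩
  left_inv c := by
    apply Subtype.ext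
    show g * (g⁻¹ * (c : G) * g) * g⁻¹ = c
    group
  right_inv c := by
    apply Subtype.ext
    show g⁻¹ * (g * (c : G) * g⁻¹) * g = c
    group
  map_mul' a b := by
    apply Subtype.ext
    show g⁻¹ * ((a : G) * (b : G)) * g = g⁻¹ * a * g * (g⁻¹ * b * g)
    group

theorem d8_transport (t : G) (e : Subgroup.centralizer ({t} : Set G) ≃* DihedralGroup 4)
    (x : G) (hx : IsConj t x) :
    Nonempty (Subgroup.centralizer ({x} : Set G) ≃* DihedralGroup 4) := by
  obtain ⟨g, rfl⟩ := isConj_iff.mp hx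
  exact ⟨(centConjEquiv g t).trans e⟩

/-- an element commuting with an involution has order dividing `4` -/
theorem d8_cent_dvd4
    (hD : ∀ y : G, orderOf y = 2 → Nonempty (Subgroup.centralizer ({y} : Set G) ≃* DihedralGroup 4))
    (y : G) (hy : orderOf y = 2) (c : G) (hc : c * y = y * c) : orderOf c ∣ 4 := by
  obtain ⟨e⟩ := hD y hy
  have hcm : c ∈ Subgroup.centralizer ({y} : Set G) := (d8_mem_iff y c).mpr hc.symm
  have h1 : (⟨c, hcm⟩ : Subgroup.centralizer ({y} : Set G)) ^ 4 = 1 := by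
    apply e.injective
    rw [map_pow, map_one]
    exact d8_pow_four _
  have h2 : c ^ 4 = 1 := by
    have := congrArg Subtype.val h1
    simpa using this
  exact orderOf_dvd_of_pow_eq_one h2

/-- an element of even order has order dividing `4` -/
theorem d8_even_order [Finite G]
    (hD : ∀ y : G, orderOf y = 2 → Nonempty (Subgroup.centralizer ({y} : Set G) ≃* DihedralGroup 4))
    (g : G) (h2 : 2 ∣ orderOf g) : orderOf g ∣ 4 := by
  obtain ⟨j, hj⟩ := Helper23.exists_pow_orderOf_eq_prime g h2 (orderOf_pos g).ne'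
  apply d8_cent_dvd4 hD (g ^ j) hj g
  exact (Commute.pow_right (Commute.refl g) j).eq

/-- an element of odd prime order commutes with no involution -/
theorem d8_no_comm
    (hD : ∀ y : G, orderOf y = 2 → Nonempty (Subgroup.centralizer ({y} : Set G) ≃* DihedralGroup 4))
    (y : G) (hy : orderOf y = 2) (c : G) (hc : c * y = y * c) (n : ℕ) (hn : orderOf c = n)
    (h4 : ¬ n ∣ 4) : False := by
  apply h4
  rw [← hn]
  exact d8_cent_dvd4 hD y hy c hc

/-- an involution has at most two square roots -/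
theorem d8_sqrt_le [Fintype G] [DecidableEq G]
    (hD : ∀ y : G, orderOf y = 2 → Nonempty (Subgroup.centralizer ({y} : Set G) ≃* DihedralGroup 4))
    (a : G) (ha : orderOf a = 2) :
    (Finset.univ.filter (fun u : G => u * u = a)).card ≤ 2 := by
  obtain ⟨e⟩ := hD a ha
  have hsub : Finset.univ.filter (fun u : G => u * u = a) ⊆
      {((e.symm (r 1) : Subgroup.centralizer ({a} : Set G)) : G),
        ((e.symm (r 3) : Subgroup.centralizer ({a} : Set G)) : G)} := by
    intro u hu
    rw [Finset.mem_filter] at hu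
    have hu2 := hu.2
    have hum : u ∈ Subgroup.centralizer ({a} : Set G) := by
      rw [d8_mem_iff, ← hu2, mul_assoc]
    have h1 : e ⟨u, hum⟩ * e ⟨u, hum⟩ = r 2 := by
      rw [← map_mul, ← d8_e_t a ha e]
      congr 1
      exact Subtype.ext hu2
    have h2 : u = ((e.symm (e ⟨u, hum⟩) : Subgroup.centralizer ({a} : Set G)) : G) := by
      rw [MulEquiv.symm_apply_apply]
    rw [Finset.mem_insert, Finset.mem_singleton]
    rcases d8_sqrt_r2 _ h1 with h | h
    · left; rw [h2, h]
    · right; rw [h2, h]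
  exact (Finset.card_le_card hsub).trans Finset.card_le_two

/-- the centralizer of an involution contains at most four other involutions -/
theorem d8_J_le [Fintype G] [DecidableEq G]
    (hD : ∀ y : G, orderOf y = 2 → Nonempty (Subgroup.centralizer ({y} : Set G) ≃* DihedralGroup 4))
    (y : G) (hy : orderOf y = 2) :
    (Finset.univ.filter (fun ε : G => ε ≠ 1 ∧ ε * ε = 1 ∧ ε * y = y * ε ∧ ε ≠ y)).card ≤ 4 := by
  obtain ⟨e⟩ := hD y hy
  have hsub : Finset.univ.filter (fun ε : G => ε ≠ 1 ∧ ε * ε = 1 ∧ ε * y = y * ε ∧ ε ≠ y) ⊆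
      ({sr 0, sr 1, sr 2, sr 3} : Finset (DihedralGroup 4)).image
        (fun q => ((e.symm q : Subgroup.centralizer ({y} : Set G)) : G)) := by
    intro ε hε
    rw [Finset.mem_filter] at hε
    obtain ⟨-, h1, h2, h3, h4⟩ := hε
    have hm : ε ∈ Subgroup.centralizer ({y} : Set G) := (d8_mem_iff y ε).mpr h3.symm
    have hq1 : e ⟨ε, hm⟩ ≠ 1 := by
      intro h
      have h5 : (⟨ε, hm⟩ : Subgroup.centralizer ({y} : Set G)) = 1 := by
        rw [← e.map_eq_one_iff]; exact h
      exact h1 (congrArg Subtype.val h5)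
    have hq2 : e ⟨ε, hm⟩ * e ⟨ε, hm⟩ = 1 := by
      rw [← map_mul]
      have h5 : (⟨ε, hm⟩ : Subgroup.centralizer ({y} : Set G)) * ⟨ε, hm⟩ = 1 := Subtype.ext h2
      rw [h5, map_one]
    have hq3 : e ⟨ε, hm⟩ ≠ r 2 := by
      intro h
      exact h4 (d8_eq_of y hy e ⟨ε, hm⟩ h)
    rw [Finset.mem_image]
    refine ⟨e ⟨ε, hm⟩, ?_, by rw [MulEquiv.symm_apply_apply]⟩
    have := d8_noncentral _ hq1 hq2 hq3
    simpa using this
  exact (Finset.card_le_card hsub).trans (Finset.card_image_le.trans Finset.card_le_four)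

/-- two distinct commuting involutions have a common centralizer of order at most four -/
theorem d8_K_le [Fintype G] [DecidableEq G]
    (hD : ∀ y : G, orderOf y = 2 → Nonempty (Subgroup.centralizer ({y} : Set G) ≃* DihedralGroup 4))
    (y : G) (hy : orderOf y = 2) (y' : G) (h1 : y' ≠ 1) (h2 : y' * y' = 1)
    (h3 : y' * y = y * y') (h4 : y' ≠ y) :
    (Finset.univ.filter (fun c : G => c * y = y * c ∧ c * y' = y' * c)).card ≤ 4 := by
  obtain ⟨e⟩ := hD y hy
  have hm : y' ∈ Subgroup.centralizer ({y} : Set G) := (d8_mem_iff y y').mpr h3.symm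
  have hq1 : e ⟨y', hm⟩ ≠ 1 := by
    intro h
    have h5 : (⟨y', hm⟩ : Subgroup.centralizer ({y} : Set G)) = 1 := by
      rw [← e.map_eq_one_iff]; exact h
    exact h1 (congrArg Subtype.val h5)
  have hq2 : e ⟨y', hm⟩ * e ⟨y', hm⟩ = 1 := by
    rw [← map_mul]
    have h5 : (⟨y', hm⟩ : Subgroup.centralizer ({y} : Set G)) * ⟨y', hm⟩ = 1 := Subtype.ext h2
    rw [h5, map_one]
  have hq3 : e ⟨y', hm⟩ ≠ r 2 := by
    intro h
    exact h4 (d8_eq_of y hy e ⟨y', hm⟩ h)
  have hsub : Finset.univ.filter (fun c : G => c * y = y * c ∧ c * y' = y' * c) ⊆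
      (Finset.univ.filter (fun q : DihedralGroup 4 => q * e ⟨y', hm⟩ = e ⟨y', hm⟩ * q)).image
        (fun q => ((e.symm q : Subgroup.centralizer ({y} : Set G)) : G)) := by
    intro c hc
    rw [Finset.mem_filter] at hc
    obtain ⟨-, h5, h6⟩ := hc
    have hcm : c ∈ Subgroup.centralizer ({y} : Set G) := (d8_mem_iff y c).mpr h5.symm
    rw [Finset.mem_image]
    refine ⟨e ⟨c, hcm⟩, ?_, by rw [MulEquiv.symm_apply_apply]⟩
    rw [Finset.mem_filter]
    refine ⟨Finset.mem_univ _, ?_⟩
    rw [← map_mul, ← map_mul]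
    congr 1
    exact Subtype.ext h6
  exact (Finset.card_le_card hsub).trans
    (Finset.card_image_le.trans (d8_cent_card _ hq1 hq2 hq3))

end

end Cfsg.Agent.Lib.Helper20
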