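import Mathlib
import Cfsg.Agent.Lib.Helper20.A6a

set_option autoImplicit false
open DihedralGroup
open Cfsg

namespace Cfsg.Agent.Lib.Helper20

section

variable {G : Type*} [Group G]

theorem a6_not_comm [Finite G] [IsSimpleGroup G] (hcard : Nat.card G = 360) :
    ¬ IsMulCommutative G :=
  Helper23.not_comm_of_simple_of_not_prime (by rw [hcard]; norm_num)

/-- a simple group of order `360` with a subgroup of index `6` is `A₆` -/
theorem a6_of_index_six [Finite G] [IsSimpleGroup G] (hcard : Nat.card G = 360)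
    (H : Subgroup G) (hH : H.index = 6) : Nonempty (G ≃* alternatingGroup (Fin 6)) := by
  have hG := a6_not_comm hcard
  have hne : H ≠ ⊤ := by
    intro h
    rw [h, Subgroup.index_top] at hH
    omega
  have key : ∀ n, H.index = n →
      ∃ f : G →* alternatingGroup (Fin n), Function.Injective f := by
    rintro n rfl
    exact Helper23.simple_embeds_alt_fin hG H hne
  obtain ⟨f, hf⟩ := key 6 hH
  exact Helper6.equiv_alt_of_injective 6 (Fintype.card_fin 6)
    ((alternatingGroup (Fin 6)).subtype.comp f)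
    ((alternatingGroup (Fin 6)).subtype_injective.comp hf) (by rw [hcard]; rfl)

theorem a6_n5 [Finite G] [IsSimpleGroup G] (hcard : Nat.card G = 360) :
    Nat.card (Sylow 5 G) = 6 ∨ Nat.card (Sylow 5 G) = 36 := by
  have : Fact (Nat.Prime 5) := ⟨by norm_num⟩
  have h1 : Nat.card G = 5 ^ 1 * 72 := hcard.trans (by norm_num)
  have hm : ¬ 5 ∣ 72 := by norm_num
  have hmem := Helper23.card_sylow_mem_filter h1 hm
  have hne := Helper23.simple_sylow_card_ne_one h1 hm (by norm_num) (by norm_num)
  rw [show (Nat.divisors 72).filter (fun d => d % 5 = 1) = {1, 6, 36} from by decide +kernel]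
    at hmem
  simp only [Finset.mem_insert, Finset.mem_singleton] at hmem
  rcases hmem with h2 | h2 | h2
  · exact absurd h2 hne
  · exact Or.inl h2
  · exact Or.inr h2

/-- with `36` Sylow `5`-subgroups, elements of order `5` are self-centralizing -/
theorem a6_cent5 [Finite G] [IsSimpleGroup G] (hcard : Nat.card G = 360)
    (hD : ∀ y : G, orderOf y = 2 → Nonempty (Subgroup.centralizer ({y} : Set G) ≃* DihedralGroup 4))
    (h36 : Nat.card (Sylow 5 G) = 36) (x : G) (hx : orderOf x = 5) (c : G)
    (hc : c * x = x * c) : orderOf c ∣ 5 := by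
  have : Fact (Nat.Prime 5) := ⟨by norm_num⟩
  have h1 : Nat.card G = 5 * 72 := hcard.trans (by norm_num)
  have hm : ¬ 5 ∣ 72 := by norm_num
  obtain ⟨P, hP⟩ := Helper23.exists_sylow_eq_zpowers h1 hm x hx
  have hcC : c ∈ Subgroup.centralizer ((P : Subgroup G) : Set G) := by
    rw [Subgroup.mem_centralizer_iff]
    intro h hh
    have hh' : h ∈ (P : Subgroup G) := hh
    rw [hP, Subgroup.mem_zpowers_iff] at hh'
    obtain ⟨k, rfl⟩ := hh'
    have hcx : Commute c x := hc
    exact (hcx.zpow_right k).eq.symm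
  have hcN : c ∈ Subgroup.normalizer ((P : Subgroup G) : Set G) :=
    Subgroup.centralizer_le_normalizer _ hcC
  have hN : Nat.card (Subgroup.normalizer ((P : Subgroup G) : Set G)) = 10 := by
    have h3 := Helper23.card_normalizer_sylow_mul P
    rw [h36, hcard] at h3
    omega
  have h10 : orderOf c ∣ 10 := by
    have h3 := orderOf_dvd_natCard (⟨c, hcN⟩ : Subgroup.normalizer ((P : Subgroup G) : Set G))
    rwa [Subgroup.orderOf_mk, hN] at h3
  have hodd : ¬ 2 ∣ orderOf c := by
    intro h2
    obtain ⟨j, hj⟩ := Helper23.exists_pow_orderOf_eq_prime c h2 (orderOf_pos c).ne'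
    have hcx : Commute x c := hc.symm
    exact d8_no_comm hD (c ^ j) hj x (hcx.pow_right j).eq 5 hx (by norm_num)
  have hcop : Nat.Coprime (orderOf c) 2 := by
    rw [Nat.coprime_comm]
    exact (Nat.Prime.coprime_iff_not_dvd Nat.prime_two).mpr hodd
  exact hcop.dvd_of_dvd_mul_left (by simpa using h10)

/-- with `36` Sylow `5`-subgroups there are no elements of order `9` -/
theorem a6_no_nine [Finite G] [IsSimpleGroup G] (hcard : Nat.card G = 360)
    (hD : ∀ y : G, orderOf y = 2 → Nonempty (Subgroup.centralizer ({y} : Set G) ≃* DihedralGroup 4))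
    (h36 : Nat.card (Sylow 5 G) = 36) (g : G) (hg : orderOf g = 9) : False := by
  have : Fact (Nat.Prime 3) := ⟨by norm_num⟩
  have hG := a6_not_comm hcard
  have h1 : Nat.card G = 3 ^ 2 * 40 := hcard.trans (by norm_num)
  have hm : ¬ 3 ∣ 40 := by norm_num
  have hz : Nat.card (Subgroup.zpowers g) = 3 ^ 2 := by rw [Nat.card_zpowers, hg]; norm_num
  obtain ⟨P, hP⟩ := (IsPGroup.of_card hz).exists_le_sylow
  have hPc : Nat.card (P : Subgroup G) = 9 := by
    rw [Helper23.sylow_card_of_eq h1 hm P]; norm_num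
  have hPz : Subgroup.zpowers g = (P : Subgroup G) :=
    Subgroup.eq_of_le_of_card_ge hP (by rw [hPc, hz]; norm_num)
  -- elements centralizing `g` have order dividing `9`
  have hC9 : ∀ c : G, c * g = g * c → orderOf c ∣ 9 := by
    intro c hc
    have hd : orderOf c ∣ 360 := hcard ▸ orderOf_dvd_natCard c
    have hodd : ¬ 2 ∣ orderOf c := by
      intro h2
      obtain ⟨j, hj⟩ := Helper23.exists_pow_orderOf_eq_prime c h2 (orderOf_pos c).ne'
      have hcx : Commute g c := hc.symm
      exact d8_no_comm hD (c ^ j) hj g (hcx.pow_right j).eq 9 hg (by norm_num)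
    have h5 : ¬ 5 ∣ orderOf c := by
      intro h5
      obtain ⟨j, hj⟩ := Helper23.exists_pow_orderOf_eq_prime c h5 (orderOf_pos c).ne'
      have hcx : Commute g c := hc.symm
      have h6 := a6_cent5 hcard hD h36 (c ^ j) hj g (hcx.pow_right j).eq
      rw [hg] at h6
      norm_num at h6
    have hc2 : Nat.Coprime (orderOf c) 8 := by
      have : (8 : ℕ) = 2 ^ 3 := by norm_num
      rw [this]
      apply Nat.Coprime.pow_right
      rw [Nat.coprime_comm]
      exact (Nat.Prime.coprime_iff_not_dvd Nat.prime_two).mpr hodd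
    have hc5 : Nat.Coprime (orderOf c) 5 := by
      rw [Nat.coprime_comm]
      exact (Nat.Prime.coprime_iff_not_dvd (by norm_num)).mpr h5
    have h7 : orderOf c ∣ 45 := hc2.dvd_of_dvd_mul_left (by simpa using hd)
    exact hc5.dvd_of_dvd_mul_left (by simpa using h7)
  have hmemC : ∀ c : G, c ∈ Subgroup.centralizer ((P : Subgroup G) : Set G) → c * g = g * c := by
    intro c hc
    rw [Subgroup.mem_centralizer_iff] at hc
    have hgP : g ∈ (P : Subgroup G) := hPz ▸ Subgroup.mem_zpowers g
    exact (hc g hgP).symm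
  have hPC : (P : Subgroup G) ≤ Subgroup.centralizer ((P : Subgroup G) : Set G) := by
    intro a ha
    rw [Subgroup.mem_centralizer_iff]
    intro h hh
    have hh' : h ∈ (P : Subgroup G) := hh
    rw [← hPz, Subgroup.mem_zpowers_iff] at hh' ha
    obtain ⟨k, rfl⟩ := hh'
    obtain ⟨l, rfl⟩ := ha
    exact ((Commute.refl g).zpow_zpow k l).eq
  have hCp : IsPGroup 3 (Subgroup.centralizer ((P : Subgroup G) : Set G)) := by
    intro c
    refine ⟨2, ?_⟩
    apply Subtype.ext
    rw [Subgroup.coe_pow, Subgroup.coe_one]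
    have h9 := hC9 c (hmemC c c.2)
    exact orderOf_dvd_iff_pow_eq_one.mp (by simpa using h9)
  have hCc : Nat.card (Subgroup.centralizer ((P : Subgroup G) : Set G)) = 9 := by
    obtain ⟨Q, hQ⟩ := hCp.exists_le_sylow
    have hQc : Nat.card (Q : Subgroup G) = 9 := by
      rw [Helper23.sylow_card_of_eq h1 hm Q]; norm_num
    have h3 := Subgroup.card_le_of_le hQ
    have h4 := Subgroup.card_le_of_le hPC
    omega
  have hcyc : IsCyclic (P : Subgroup G) := by
    have hgP : g ∈ (P : Subgroup G) := hPz ▸ Subgroup.mem_zpowers g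
    apply isCyclic_of_orderOf_eq_card (⟨g, hgP⟩ : (P : Subgroup G))
    rw [Subgroup.orderOf_mk, hg, hPc]
  have hrel := Helper23.relIndex_centralizer_normalizer_dvd_card_mulAut (P : Subgroup G)
  rw [IsCyclic.card_mulAut, hPc, show Nat.totient 9 = 6 from by decide] at hrel
  have hCN : Subgroup.centralizer ((P : Subgroup G) : Set G) ≤
      Subgroup.normalizer ((P : Subgroup G) : Set G) := Subgroup.centralizer_le_normalizer _
  have hmul := Subgroup.relIndex_mul_relIndex ⊥ _ _ bot_le hCN
  rw [Subgroup.relIndex_bot_left, Subgroup.relIndex_bot_left, hCc] at hmul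
  have hN := Helper23.card_normalizer_sylow_mul P
  rw [hcard] at hN
  have hmod := Helper23.card_sylow_mod (G := G) 3
  obtain ⟨r, hr⟩ : ∃ r, r = (Subgroup.centralizer ((P : Subgroup G) : Set G)).relIndex
      (Subgroup.normalizer ((P : Subgroup G) : Set G)) := ⟨_, rfl⟩
  rw [← hr] at hmul hrel
  obtain ⟨n3, hn3⟩ : ∃ n3, n3 = Nat.card (Sylow 3 G) := ⟨_, rfl⟩
  rw [← hn3] at hN hmod
  rw [← hmul] at hN
  have hr6 : r ≤ 6 := Nat.le_of_dvd (by norm_num) hrel
  have hr1 : r = 1 := by
    interval_cases r <;> omega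
  rw [hr1, mul_one] at hmul
  have hNC : Subgroup.normalizer ((P : Subgroup G) : Set G) ≤
      Subgroup.centralizer ((P : Subgroup G) : Set G) := by
    have h5 := Subgroup.eq_of_le_of_card_ge hCN (by rw [← hmul, hCc])
    rw [h5]
  have hPb : (P : Subgroup G) ≠ ⊥ := by
    intro h
    rw [h, Subgroup.card_bot] at hPc
    omega
  exact Helper23.simple_not_normalizer_le_centralizer hG P hPb hNC

/-- with `36` Sylow `5`-subgroups all element orders are at most `5` -/
theorem a6_orders [Finite G] [IsSimpleGroup G] (hcard : Nat.card G = 360)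
    (hD : ∀ y : G, orderOf y = 2 → Nonempty (Subgroup.centralizer ({y} : Set G) ≃* DihedralGroup 4))
    (h36 : Nat.card (Sylow 5 G) = 36) (g : G) :
    orderOf g = 1 ∨ orderOf g = 2 ∨ orderOf g = 3 ∨ orderOf g = 4 ∨ orderOf g = 5 := by
  have hd : orderOf g ∣ 360 := hcard ▸ orderOf_dvd_natCard g
  by_cases h2 : 2 ∣ orderOf g
  · have h4 := d8_even_order hD g h2
    have h5 : orderOf g ≤ 4 := Nat.le_of_dvd (by norm_num) h4
    have h6 := orderOf_pos g
    interval_cases h : orderOf g <;> simp_all
  · have hc2 : Nat.Coprime (orderOf g) 8 := by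
      have : (8 : ℕ) = 2 ^ 3 := by norm_num
      rw [this]
      apply Nat.Coprime.pow_right
      rw [Nat.coprime_comm]
      exact (Nat.Prime.coprime_iff_not_dvd Nat.prime_two).mpr h2
    have h7 : orderOf g ∣ 45 := hc2.dvd_of_dvd_mul_left (by simpa using hd)
    have h8 : orderOf g ∈ Nat.divisors 45 := Nat.mem_divisors.mpr ⟨h7, by norm_num⟩
    rw [show Nat.divisors 45 = {1, 3, 5, 9, 15, 45} from by decide +kernel] at h8
    simp only [Finset.mem_insert, Finset.mem_singleton] at h8
    have h15 : ¬ (5 ∣ orderOf g ∧ orderOf g ≠ 5) := by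
      rintro ⟨h5, hne⟩
      have : Fact (Nat.Prime 5) := ⟨by norm_num⟩
      obtain ⟨j, hj⟩ := Helper23.exists_pow_orderOf_eq_prime g h5 (orderOf_pos g).ne'
      have h6 := a6_cent5 hcard hD h36 (g ^ j) hj g ((Commute.refl g).pow_right j).eq
      have h9 := Nat.le_of_dvd (by norm_num) h6
      have h10 := Nat.le_of_dvd (orderOf_pos g) h5
      omega
    rcases h8 with h | h | h | h | h | h
    · exact Or.inl h
    · exact Or.inr (Or.inr (Or.inl h))
    · exact Or.inr (Or.inr (Or.inr (Or.inr h)))
    · exact (a6_no_nine hcard hD h36 g h).elim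
    · exact (h15 ⟨by rw [h]; norm_num, by rw [h]; norm_num⟩).elim
    · exact (h15 ⟨by rw [h]; norm_num, by rw [h]; norm_num⟩).elim

end

end Cfsg.Agent.Lib.Helper20
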