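import Mathlib
import Cfsg.Agent.Lib.Helper20.A6b

set_option autoImplicit false
open DihedralGroup
open Cfsg

namespace Cfsg.Agent.Lib.Helper20

section

variable {G : Type*} [Group G]

theorem a6_card_E4 [Fintype G] [DecidableEq G]
    (hD : ∀ y : G, orderOf y = 2 → Nonempty (Subgroup.centralizer ({y} : Set G) ≃* DihedralGroup 4))
    (hI : (Finset.univ.filter (fun y : G => orderOf y = 2)).card = 45) :
    (Finset.univ.filter (fun u : G => orderOf u = 4)).card ≤ 90 := by
  have h := Finset.card_le_mul_card_image_of_maps_to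
    (s := Finset.univ.filter (fun u : G => orderOf u = 4))
    (t := Finset.univ.filter (fun y : G => orderOf y = 2)) (f := fun u => u * u) ?_ 2 ?_
  · rw [hI] at h; exact h
  · intro u hu
    rw [Finset.mem_filter] at hu ⊢
    refine ⟨Finset.mem_univ _, ?_⟩
    rw [← pow_two, orderOf_pow, hu.2]
    norm_num
  · intro b hb
    rw [Finset.mem_filter] at hb
    refine (Finset.card_le_card ?_).trans (d8_sqrt_le hD b hb.2)
    intro u hu
    rw [Finset.mem_filter] at hu ⊢
    exact ⟨Finset.mem_univ _, hu.2⟩

theorem a6_card_E5 [Fintype G] [DecidableEq G] [IsSimpleGroup G] (hcard : Nat.card G = 360)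
    (h36 : Nat.card (Sylow 5 G) = 36) :
    (Finset.univ.filter (fun u : G => orderOf u = 5)).card = 144 := by
  have : Fact (Nat.Prime 5) := ⟨by norm_num⟩
  have h := Helper23.card_orderOf_eq_prime (G := G) (p := 5) (m := 72)
    (hcard.trans (by norm_num)) (by norm_num)
  rw [h36, Nat.card_eq_fintype_card, Fintype.card_subtype] at h
  exact h

theorem a6_card_E3 [Fintype G] [DecidableEq G] [IsSimpleGroup G] (hcard : Nat.card G = 360)
    (hD : ∀ y : G, orderOf y = 2 → Nonempty (Subgroup.centralizer ({y} : Set G) ≃* DihedralGroup 4))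
    (h36 : Nat.card (Sylow 5 G) = 36)
    (hI : (Finset.univ.filter (fun y : G => orderOf y = 2)).card = 45) :
    80 ≤ (Finset.univ.filter (fun w : G => orderOf w = 3)).card := by
  have h4 := a6_card_E4 hD hI
  have h5 := a6_card_E5 hcard h36
  have hcov : (Finset.univ : Finset G) ⊆
      {1} ∪ Finset.univ.filter (fun y : G => orderOf y = 2) ∪
        Finset.univ.filter (fun w : G => orderOf w = 3) ∪
        Finset.univ.filter (fun u : G => orderOf u = 4) ∪
        Finset.univ.filter (fun u : G => orderOf u = 5) := by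
    intro g _
    simp only [Finset.mem_union, Finset.mem_singleton, Finset.mem_filter, Finset.mem_univ,
      true_and]
    rcases a6_orders hcard hD h36 g with h | h | h | h | h
    · left; left; left; left; exact orderOf_eq_one_iff.mp h
    · left; left; left; right; exact h
    · left; left; right; exact h
    · left; right; exact h
    · right; exact h
  have hc := Finset.card_le_card hcov
  rw [Finset.card_univ, ← Nat.card_eq_fintype_card, hcard] at hc
  have u1 := Finset.card_union_le
    ({1} ∪ Finset.univ.filter (fun y : G => orderOf y = 2) ∪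
        Finset.univ.filter (fun w : G => orderOf w = 3) ∪
        Finset.univ.filter (fun u : G => orderOf u = 4))
    (Finset.univ.filter (fun u : G => orderOf u = 5))
  have u2 := Finset.card_union_le
    ({1} ∪ Finset.univ.filter (fun y : G => orderOf y = 2) ∪
        Finset.univ.filter (fun w : G => orderOf w = 3))
    (Finset.univ.filter (fun u : G => orderOf u = 4))
  have u3 := Finset.card_union_le
    ({1} ∪ Finset.univ.filter (fun y : G => orderOf y = 2))
    (Finset.univ.filter (fun w : G => orderOf w = 3))
  have u4 := Finset.card_union_le ({1} : Finset G)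
    (Finset.univ.filter (fun y : G => orderOf y = 2))
  rw [Finset.card_singleton] at u4
  omega

/-- with `36` Sylow `5`-subgroups, the centralizer of an element whose order divides neither `4`
nor `5` is a `3`-group -/
theorem a6_cent_odd [Finite G] [IsSimpleGroup G] (hcard : Nat.card G = 360)
    (hD : ∀ y : G, orderOf y = 2 → Nonempty (Subgroup.centralizer ({y} : Set G) ≃* DihedralGroup 4))
    (h36 : Nat.card (Sylow 5 G) = 36) (w : G) (n : ℕ) (hw : orderOf w = n) (h4 : ¬ n ∣ 4)
    (h5 : ¬ n ∣ 5) (c : G) (hc : c * w = w * c) : orderOf c ∣ 9 := by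
  have hd : orderOf c ∣ 360 := hcard ▸ orderOf_dvd_natCard c
  have hodd : ¬ 2 ∣ orderOf c := by
    intro h2
    obtain ⟨j, hj⟩ := Helper23.exists_pow_orderOf_eq_prime c h2 (orderOf_pos c).ne'
    have hcx : Commute w c := hc.symm
    exact d8_no_comm hD (c ^ j) hj w (hcx.pow_right j).eq n hw h4
  have h5' : ¬ 5 ∣ orderOf c := by
    intro h5'
    obtain ⟨j, hj⟩ := Helper23.exists_pow_orderOf_eq_prime c h5' (orderOf_pos c).ne'
    have hcx : Commute w c := hc.symm
    have h6 := a6_cent5 hcard hD h36 (c ^ j) hj w (hcx.pow_right j).eq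
    rw [hw] at h6
    exact h5 h6
  have hc2 : Nat.Coprime (orderOf c) 8 := by
    have : (8 : ℕ) = 2 ^ 3 := by norm_num
    rw [this]
    apply Nat.Coprime.pow_right
    rw [Nat.coprime_comm]
    exact (Nat.Prime.coprime_iff_not_dvd Nat.prime_two).mpr hodd
  have hc5 : Nat.Coprime (orderOf c) 5 := by
    rw [Nat.coprime_comm]
    exact (Nat.Prime.coprime_iff_not_dvd (by norm_num)).mpr h5'
  have h7 : orderOf c ∣ 45 := hc2.dvd_of_dvd_mul_left (by simpa using hd)
  exact hc5.dvd_of_dvd_mul_left (by simpa using h7)

/-- with `36` Sylow `5`-subgroups, an element of order `3` has centralizer of order at most `9` -/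
theorem a6_cent3 [Fintype G] [DecidableEq G] [IsSimpleGroup G] (hcard : Nat.card G = 360)
    (hD : ∀ y : G, orderOf y = 2 → Nonempty (Subgroup.centralizer ({y} : Set G) ≃* DihedralGroup 4))
    (h36 : Nat.card (Sylow 5 G) = 36) (w : G) (hw : orderOf w = 3) :
    (Finset.univ.filter (fun c : G => c * w = w * c)).card ≤ 9 := by
  have : Fact (Nat.Prime 3) := ⟨by norm_num⟩
  have h1 : Nat.card G = 3 ^ 2 * 40 := hcard.trans (by norm_num)
  have hm : ¬ 3 ∣ 40 := by norm_num
  have hCp : IsPGroup 3 (Subgroup.centralizer ({w} : Set G)) := by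
    intro c
    refine ⟨2, ?_⟩
    apply Subtype.ext
    rw [Subgroup.coe_pow, Subgroup.coe_one]
    have h9 := a6_cent_odd hcard hD h36 w 3 hw (by norm_num) (by norm_num) c
      ((d8_mem_iff w c).mp c.2).symm
    exact orderOf_dvd_iff_pow_eq_one.mp (by simpa using h9)
  obtain ⟨Q, hQ⟩ := hCp.exists_le_sylow
  have hQc : Nat.card (Q : Subgroup G) = 9 := by
    rw [Helper23.sylow_card_of_eq h1 hm Q]; norm_num
  have h3 := Subgroup.card_le_of_le hQ
  have h4 : (Finset.univ.filter (fun c : G => c * w = w * c)).card =
      Nat.card (Subgroup.centralizer ({w} : Set G)) := by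
    rw [← Fintype.card_subtype, ← Nat.card_eq_fintype_card]
    apply Nat.card_congr
    exact Equiv.subtypeEquivRight (fun c => by rw [d8_mem_iff]; exact eq_comm)
  omega

/-- the centralizer of an involution has eight elements -/
theorem a6_cent2 [Fintype G] [DecidableEq G]
    (hD : ∀ y : G, orderOf y = 2 → Nonempty (Subgroup.centralizer ({y} : Set G) ≃* DihedralGroup 4))
    (y : G) (hy : orderOf y = 2) :
    (Finset.univ.filter (fun c : G => c * y = y * c)).card = 8 := by
  obtain ⟨e⟩ := hD y hy
  rw [← d8_card y e, ← Fintype.card_subtype, ← Nat.card_eq_fintype_card]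
  apply Nat.card_congr
  exact Equiv.subtypeEquivRight (fun c => by rw [d8_mem_iff]; exact eq_comm)

end

end Cfsg.Agent.Lib.Helper20
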