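import Mathlib
import Cfsg.Agent.Lib.Helper20.A6c

set_option autoImplicit false
open DihedralGroup
open Cfsg

namespace Cfsg.Agent.Lib.Helper20

section

variable {G : Type*} [Group G]

theorem s3_comm {y w : G} (hy : y * y = 1) (hw : w * w * w = 1)
    (hr : y * w * (y * w) * (y * w) = 1) : (w * y * w⁻¹) * y = y * (w * y * w⁻¹) := by
  have hyi : y⁻¹ = y := inv_eq_of_mul_eq_one_left hy
  have hwi : w⁻¹ = w * w := by
    calc w⁻¹ = w⁻¹ * (w * w * w) := by rw [hw, mul_one]
      _ = w * w := by group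
  have h1 : y * (w * y * w⁻¹) * (y * (w * y * w⁻¹)) = 1 := by
    calc y * (w * y * w⁻¹) * (y * (w * y * w⁻¹))
        = y * (w * y * (w * w)) * (y * (w * y * (w * w))) := by rw [hwi]
      _ = (y * w * y * w) * y⁻¹ * (y * w * (y * w) * (y * w)) * w := by group
      _ = (y * w * y * w) * y⁻¹ * 1 * w := by rw [hr]
      _ = y * w * (y * w) * (y * w) := by rw [hyi]; group
      _ = 1 := hr
  have h2 : (w * y * w⁻¹) * (w * y * w⁻¹) = 1 := by
    calc (w * y * w⁻¹) * (w * y * w⁻¹) = w * (y * y) * w⁻¹ := by group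
      _ = 1 := by rw [hy]; group
  obtain ⟨y', hy'⟩ : ∃ y', y' = w * y * w⁻¹ := ⟨_, rfl⟩
  rw [← hy'] at h1 h2 ⊢
  calc y' * y = (y * y) * (y' * y) * (y' * y') := by rw [hy, h2]; group
    _ = y * (y * y' * (y * y')) * y' := by group
    _ = y * y' := by rw [h1]; group

theorem s4_comm {y p : G} (hy : y * y = 1) (hp : p * p * p * p = 1)
    (hw : y * p * (y * p) * (y * p) = 1) :
    (p * p) * (y * (p * p) * y) = (y * (p * p) * y) * (p * p) := by
  have hyi : y⁻¹ = y := inv_eq_of_mul_eq_one_left hy
  have hpp : p * p = p⁻¹ * p⁻¹ := by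
    calc p * p = (p * p * p * p) * (p⁻¹ * p⁻¹) := by simp [mul_assoc]
      _ = p⁻¹ * p⁻¹ := by rw [hp, one_mul]
  have T1 : p * y * p = y * p⁻¹ * y := by
    calc p * y * p = y⁻¹ * (y * p * (y * p) * (y * p)) * (p⁻¹ * y⁻¹) := by group
      _ = y * p⁻¹ * y := by rw [hw, hyi]; group
  have T2 : y * (p * p) * y = p * (y * (p * p) * y) * p := by
    calc y * (p * p) * y = y * (p⁻¹ * p⁻¹) * y := by rw [← hpp]
      _ = y * p⁻¹ * (y * y) * p⁻¹ * y := by rw [hy]; group
      _ = (y * p⁻¹ * y) * (y * p⁻¹ * y) := by group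
      _ = (p * y * p) * (p * y * p) := by rw [T1]
      _ = p * (y * (p * p) * y) * p := by group
  obtain ⟨a', ha'⟩ : ∃ a', a' = y * (p * p) * y := ⟨_, rfl⟩
  rw [← ha'] at T2 ⊢
  have T3 : a' * p = p⁻¹ * a' := by
    calc a' * p = p⁻¹ * (p * a' * p) := by group
      _ = p⁻¹ * a' := by rw [← T2]
  symm
  calc a' * (p * p) = (a' * p) * p := by group
    _ = (p⁻¹ * a') * p := by rw [T3]
    _ = p⁻¹ * (a' * p) := by group
    _ = p⁻¹ * (p⁻¹ * a') := by rw [T3]
    _ = (p⁻¹ * p⁻¹) * a' := by group
    _ = (p * p) * a' := by rw [← hpp]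

theorem inv_rel {y w : G} (hy : y * y = 1) (h : y * w * (y * w) = 1) :
    y * w = w⁻¹ * y ∧ y * w⁻¹ = w * y := by
  have hyi : y⁻¹ = y := inv_eq_of_mul_eq_one_left hy
  have h1 : y * w = w⁻¹ * y := by
    calc y * w = (y * w * (y * w)) * (w⁻¹ * y⁻¹) := by group
      _ = w⁻¹ * y := by rw [h, hyi, one_mul]
  refine ⟨h1, ?_⟩
  calc y * w⁻¹ = w * (w⁻¹ * y) * w⁻¹ := by group
    _ = w * (y * w) * w⁻¹ := by rw [← h1]
    _ = w * y := by group

/-- an element of order `3` is inverted by at most nine involutions -/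
theorem a6_boundA [Fintype G] [DecidableEq G] [IsSimpleGroup G] (hcard : Nat.card G = 360)
    (hD : ∀ y : G, orderOf y = 2 → Nonempty (Subgroup.centralizer ({y} : Set G) ≃* DihedralGroup 4))
    (h36 : Nat.card (Sylow 5 G) = 36) (w : G) (hw : orderOf w = 3) :
    (Finset.univ.filter (fun y : G => orderOf y = 2 ∧ (y * w) * (y * w) = 1)).card ≤ 9 := by
  by_cases hne : (Finset.univ.filter
      (fun y : G => orderOf y = 2 ∧ (y * w) * (y * w) = 1)).Nonempty
  · obtain ⟨y0, hy0⟩ := hne
    rw [Finset.mem_filter] at hy0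
    obtain ⟨-, hy0o, hy0w⟩ := hy0
    have e0 := (inv_rel (d8_t_sq y0 hy0o) hy0w).2
    refine (Finset.card_le_card_of_injOn (fun y => y0 * y) ?_ ?_).trans
      (a6_cent3 hcard hD h36 w hw)
    · intro y hy
      rw [Finset.mem_coe, Finset.mem_filter] at hy
      rw [Finset.mem_coe, Finset.mem_filter]
      refine ⟨Finset.mem_univ _, ?_⟩
      have e1 := (inv_rel (d8_t_sq y hy.2.1) hy.2.2).1
      calc y0 * y * w = y0 * (y * w) := by group
        _ = y0 * (w⁻¹ * y) := by rw [e1]
        _ = (y0 * w⁻¹) * y := by group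
        _ = (w * y0) * y := by rw [e0]
        _ = w * (y0 * y) := by group
    · intro a _ b _ h
      exact mul_left_cancel h
  · rw [Finset.not_nonempty_iff_eq_empty] at hne
    rw [hne]; simp

/-- for an involution `y` there are at most `32` elements `w` of order `3` with `yw` of
order `3` -/
theorem a6_boundB [Fintype G] [DecidableEq G]
    (hD : ∀ y : G, orderOf y = 2 → Nonempty (Subgroup.centralizer ({y} : Set G) ≃* DihedralGroup 4))
    (y : G) (hy : orderOf y = 2) :
    (Finset.univ.filter (fun w : G => orderOf w = 3 ∧ orderOf (y * w) = 3)).card ≤ 32 := by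
  have hy2 := d8_t_sq y hy
  have h := Finset.card_le_mul_card_image_of_maps_to
    (s := Finset.univ.filter (fun w : G => orderOf w = 3 ∧ orderOf (y * w) = 3))
    (t := Finset.univ.filter (fun ε : G => ε ≠ 1 ∧ ε * ε = 1 ∧ ε * y = y * ε ∧ ε ≠ y))
    (f := fun w => w * y * w⁻¹) ?_ 8 ?_
  · exact h.trans ((Nat.mul_le_mul_left 8 (d8_J_le hD y hy)).trans (by norm_num))
  · intro w hw
    rw [Finset.mem_filter] at hw ⊢
    obtain ⟨-, hw3, hp3⟩ := hw
    have hw' : w * w * w = 1 := by
      rw [← pow_three', ← hw3]; exact pow_orderOf_eq_one w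
    have hr : y * w * (y * w) * (y * w) = 1 := by
      rw [← pow_three', ← hp3]; exact pow_orderOf_eq_one _
    refine ⟨Finset.mem_univ _, d8_conj_ne_one (d8_t_ne y hy), ?_, s3_comm hy2 hw' hr, ?_⟩
    · calc w * y * w⁻¹ * (w * y * w⁻¹) = w * (y * y) * w⁻¹ := by group
        _ = 1 := by rw [hy2]; group
    · intro h
      exact d8_no_comm hD y hy w (d8_comm_of_conj h).symm 3 hw3 (by norm_num)
  · intro y' _
    by_cases hne : ((Finset.univ.filter (fun w : G => orderOf w = 3 ∧ orderOf (y * w) = 3)).filter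
        (fun w => w * y * w⁻¹ = y')).Nonempty
    · obtain ⟨w2, hw2⟩ := hne
      rw [Finset.mem_filter] at hw2
      refine (Finset.card_le_card_of_injOn (fun w => w2⁻¹ * w) ?_ ?_).trans
        (a6_cent2 hD y hy).le
      · intro w hw
        rw [Finset.mem_coe, Finset.mem_filter] at hw
        rw [Finset.mem_coe, Finset.mem_filter]
        refine ⟨Finset.mem_univ _, ?_⟩
        calc w2⁻¹ * w * y = w2⁻¹ * (w * y * w⁻¹) * w := by group
          _ = w2⁻¹ * (w2 * y * w2⁻¹) * w := by rw [hw.2, hw2.2]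
          _ = y * (w2⁻¹ * w) := by group
      · intro a _ b _ h
        exact mul_left_cancel h
    · rw [Finset.not_nonempty_iff_eq_empty] at hne
      rw [hne]; simp

/-- for an involution `y` there are at most `16` elements `w` of order `3` with `yw` of
order `4` -/
theorem a6_boundC [Fintype G] [DecidableEq G]
    (hD : ∀ y : G, orderOf y = 2 → Nonempty (Subgroup.centralizer ({y} : Set G) ≃* DihedralGroup 4))
    (y : G) (hy : orderOf y = 2) :
    (Finset.univ.filter (fun w : G => orderOf w = 3 ∧ orderOf (y * w) = 4)).card ≤ 16 := by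
  have hy2 := d8_t_sq y hy
  have hy1 := d8_t_ne y hy
  have h := Finset.card_le_mul_card_image_of_maps_to
    (s := Finset.univ.filter (fun w : G => orderOf w = 3 ∧ orderOf (y * w) = 4))
    (t := Finset.univ.filter (fun ε : G => ε ≠ 1 ∧ ε * ε = 1 ∧ ε * y = y * ε ∧ ε ≠ y))
    (f := fun w => (y * (y * w * (y * w))) * (y * (y * w * (y * w)))) ?_ 4 ?_
  · exact h.trans ((Nat.mul_le_mul_left 4 (d8_J_le hD y hy)).trans (by norm_num))
  · intro w hw
    rw [Finset.mem_filter] at hw ⊢
    obtain ⟨-, hw3, hp4⟩ := hw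
    obtain ⟨p, hp⟩ : ∃ p, p = y * w := ⟨_, rfl⟩
    rw [← hp] at hp4 ⊢
    have hyp : y * p = w := by rw [hp, ← mul_assoc, hy2, one_mul]
    have hpow : p * p * p * p = 1 := by
      have h4 : p ^ 4 = 1 := by rw [← hp4]; exact pow_orderOf_eq_one p
      rw [← h4, pow_succ, pow_succ, pow_succ, pow_one]
    have hw' : y * p * (y * p) * (y * p) = 1 := by
      rw [hyp, ← pow_three', ← hw3]; exact pow_orderOf_eq_one w
    have hcomm := s4_comm hy2 hpow hw'
    obtain ⟨a, ha⟩ : ∃ a, a = p * p := ⟨_, rfl⟩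
    rw [← ha] at hcomm ⊢
    have hao : orderOf a = 2 := by
      rw [ha, ← pow_two, orderOf_pow, hp4]
      norm_num
    have ha2 : a * a = 1 := d8_t_sq a hao
    have hne1 : y * a * (y * a) ≠ 1 := by
      intro h1
      have h2 : y * a = a * y := by
        have h3 := (inv_rel hy2 h1).1
        rw [h3, inv_eq_of_mul_eq_one_left ha2]
      have h3 : a * p = p * a := by rw [ha, mul_assoc]
      have h4 : w * a = a * w := by
        rw [← hyp]
        calc y * p * a = y * (p * a) := by group
          _ = y * (a * p) := by rw [h3]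
          _ = (y * a) * p := by group
          _ = (a * y) * p := by rw [h2]
          _ = a * (y * p) := by group
      exact d8_no_comm hD a hao w h4 3 hw3 (by norm_num)
    have ha'2 : (y * a * y) * (y * a * y) = 1 := by
      calc (y * a * y) * (y * a * y) = y * a * (y * y) * a * y := by group
        _ = y * (a * a) * y := by rw [hy2]; group
        _ = 1 := by rw [ha2, mul_one, hy2]
    have hsq : y * a * (y * a) * (y * a * (y * a)) = 1 := by
      calc y * a * (y * a) * (y * a * (y * a)) = (y * a * y) * (a * (y * a * y)) * a := by group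
        _ = (y * a * y) * ((y * a * y) * a) * a := by rw [hcomm]
        _ = ((y * a * y) * (y * a * y)) * (a * a) := by group
        _ = 1 := by rw [ha'2, ha2, mul_one]
    have hey : y * a * (y * a) * y = y * (y * a * (y * a)) := by
      calc y * a * (y * a) * y = ((y * a * y) * a) * y := by group
        _ = (a * (y * a * y)) * y := by rw [← hcomm]
        _ = a * y * a * (y * y) := by group
        _ = (y * y) * a * y * a := by rw [hy2]; group
        _ = y * (y * a * (y * a)) := by group
    have hney : y * a * (y * a) ≠ y := by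
      intro h1
      have h2 : a * y * a = 1 := by
        calc a * y * a = y⁻¹ * (y * a * (y * a)) := by group
          _ = y⁻¹ * y := by rw [h1]
          _ = 1 := inv_mul_cancel y
      apply hy1
      calc y = a⁻¹ * (a * y * a) * a⁻¹ := by group
        _ = (a * a)⁻¹ := by rw [h2]; group
        _ = 1 := by rw [ha2, inv_one]
    exact ⟨Finset.mem_univ _, hne1, hsq, hey, hney⟩
  · intro ε hε
    rw [Finset.mem_filter] at hε
    obtain ⟨-, hε1, hε2, -, -⟩ := hε
    have hεo : orderOf ε = 2 := d8_orderOf hε1 hε2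
    have h2 := Finset.card_le_mul_card_image_of_maps_to
      (s := (Finset.univ.filter (fun w : G => orderOf w = 3 ∧ orderOf (y * w) = 4)).filter
        (fun w => (y * (y * w * (y * w))) * (y * (y * w * (y * w))) = ε))
      (t := Finset.univ.filter (fun a : G => orderOf a = 2 ∧ (y * a) * (y * a) = ε))
      (f := fun w => y * w * (y * w)) ?_ 2 ?_
    · refine h2.trans ((Nat.mul_le_mul_left 2 ?_).trans (by norm_num : 2 * 2 ≤ 4))
      refine (Finset.card_le_card_of_injOn (fun a => y * a) ?_ ?_).trans (d8_sqrt_le hD ε hεo)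
      · intro a ha
        rw [Finset.mem_coe, Finset.mem_filter] at ha
        rw [Finset.mem_coe, Finset.mem_filter]
        exact ⟨Finset.mem_univ _, ha.2.2⟩
      · intro a _ b _ h
        exact mul_left_cancel h
    · intro w hw
      rw [Finset.mem_filter, Finset.mem_filter] at hw
      rw [Finset.mem_filter]
      refine ⟨Finset.mem_univ _, ?_, hw.2⟩
      rw [← pow_two, orderOf_pow, hw.1.2.2]
      norm_num
    · intro a ha
      rw [Finset.mem_filter] at ha
      refine (Finset.card_le_card_of_injOn (fun w => y * w) ?_ ?_).trans (d8_sqrt_le hD a ha.2.1)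
      · intro w hw
        rw [Finset.mem_coe, Finset.mem_filter] at hw
        rw [Finset.mem_coe, Finset.mem_filter]
        exact ⟨Finset.mem_univ _, hw.2⟩
      · intro a _ b _ h
        exact mul_left_cancel h

end

end Cfsg.Agent.Lib.Helper20
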