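import Mathlib
import Cfsg.Agent.S0111
import Cfsg.Agent.Lib.Helper20.A6d
import Cfsg.Agent.Lib.Helper20.A5Enum

set_option autoImplicit false
open DihedralGroup
open Cfsg

namespace Cfsg.Agent.Lib.Helper20

section

variable {G : Type*} [Group G]

/-- a `(2,3,5)`-pair exists -/
theorem a6_exists_235 [Fintype G] [DecidableEq G] [IsSimpleGroup G] (hcard : Nat.card G = 360)
    (hD : ∀ y : G, orderOf y = 2 → Nonempty (Subgroup.centralizer ({y} : Set G) ≃* DihedralGroup 4))
    (h36 : Nat.card (Sylow 5 G) = 36)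
    (hI : (Finset.univ.filter (fun y : G => orderOf y = 2)).card = 45) :
    ∃ y w : G, orderOf y = 2 ∧ orderOf w = 3 ∧ orderOf (y * w) = 5 := by
  by_contra hcon
  push Not at hcon
  have hE3 := a6_card_E3 hcard hD h36 hI
  obtain ⟨I, hIdef⟩ : ∃ I : Finset G, I = Finset.univ.filter (fun y : G => orderOf y = 2) :=
    ⟨_, rfl⟩
  obtain ⟨E3, hE3def⟩ : ∃ E3 : Finset G, E3 = Finset.univ.filter (fun w : G => orderOf w = 3) :=
    ⟨_, rfl⟩
  rw [← hIdef] at hI
  rw [← hE3def] at hE3
  have hmemI : ∀ y, y ∈ I ↔ orderOf y = 2 := by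
    intro y; rw [hIdef, Finset.mem_filter]; simp
  have hmemE : ∀ w, w ∈ E3 ↔ orderOf w = 3 := by
    intro w; rw [hE3def, Finset.mem_filter]; simp
  have hP : (I ×ˢ E3).card = 45 * E3.card := by rw [Finset.card_product, hI]
  have hcov : I ×ˢ E3 ⊆
      (I ×ˢ E3).filter (fun p => (p.1 * p.2) * (p.1 * p.2) = 1) ∪
      (I ×ˢ E3).filter (fun p => orderOf (p.1 * p.2) = 3) ∪
      (I ×ˢ E3).filter (fun p => orderOf (p.1 * p.2) = 4) := by
    intro p hp
    have hp' := hp
    rw [Finset.mem_product, hmemI, hmemE] at hp'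
    simp only [Finset.mem_union, Finset.mem_filter]
    rcases a6_orders hcard hD h36 (p.1 * p.2) with h | h | h | h | h
    · left; left
      refine ⟨hp, ?_⟩
      rw [orderOf_eq_one_iff.mp h, mul_one]
    · left; left
      exact ⟨hp, d8_t_sq _ h⟩
    · left; right
      exact ⟨hp, h⟩
    · right
      exact ⟨hp, h⟩
    · exact (hcon p.1 p.2 hp'.1 hp'.2 h).elim
  have h2 : ((I ×ˢ E3).filter (fun p => (p.1 * p.2) * (p.1 * p.2) = 1)).card ≤ 9 * E3.card := by
    apply Finset.card_le_mul_card_image_of_maps_to (f := Prod.snd)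
    · intro p hp
      rw [Finset.mem_filter, Finset.mem_product] at hp
      exact hp.1.2
    · intro w hw
      rw [hmemE] at hw
      refine (Finset.card_le_card_of_injOn Prod.fst ?_ ?_).trans (a6_boundA hcard hD h36 w hw)
      · intro p hp
        rw [Finset.mem_coe, Finset.mem_filter, Finset.mem_filter, Finset.mem_product, hmemI] at hp
        rw [Finset.mem_coe, Finset.mem_filter]
        refine ⟨Finset.mem_univ _, hp.1.1.1, ?_⟩
        rw [← hp.2]; exact hp.1.2
      · intro p hp q hq h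
        rw [Finset.mem_coe, Finset.mem_filter] at hp hq
        exact Prod.ext h (hp.2.trans hq.2.symm)
  have h3 : ((I ×ˢ E3).filter (fun p => orderOf (p.1 * p.2) = 3)).card ≤ 32 * I.card := by
    apply Finset.card_le_mul_card_image_of_maps_to (f := Prod.fst)
    · intro p hp
      rw [Finset.mem_filter, Finset.mem_product] at hp
      exact hp.1.1
    · intro y hy
      rw [hmemI] at hy
      refine (Finset.card_le_card_of_injOn Prod.snd ?_ ?_).trans (a6_boundB hD y hy)
      · intro p hp
        rw [Finset.mem_coe, Finset.mem_filter, Finset.mem_filter, Finset.mem_product, hmemE] at hp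
        rw [Finset.mem_coe, Finset.mem_filter]
        refine ⟨Finset.mem_univ _, hp.1.1.2, ?_⟩
        rw [← hp.2]; exact hp.1.2
      · intro p hp q hq h
        rw [Finset.mem_coe, Finset.mem_filter] at hp hq
        exact Prod.ext (hp.2.trans hq.2.symm) h
  have h4 : ((I ×ˢ E3).filter (fun p => orderOf (p.1 * p.2) = 4)).card ≤ 16 * I.card := by
    apply Finset.card_le_mul_card_image_of_maps_to (f := Prod.fst)
    · intro p hp
      rw [Finset.mem_filter, Finset.mem_product] at hp
      exact hp.1.1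
    · intro y hy
      rw [hmemI] at hy
      refine (Finset.card_le_card_of_injOn Prod.snd ?_ ?_).trans (a6_boundC hD y hy)
      · intro p hp
        rw [Finset.mem_coe, Finset.mem_filter, Finset.mem_filter, Finset.mem_product, hmemE] at hp
        rw [Finset.mem_coe, Finset.mem_filter]
        refine ⟨Finset.mem_univ _, hp.1.1.2, ?_⟩
        rw [← hp.2]; exact hp.1.2
      · intro p hp q hq h
        rw [Finset.mem_coe, Finset.mem_filter] at hp hq
        exact Prod.ext (hp.2.trans hq.2.symm) h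
  have hc := Finset.card_le_card hcov
  have u1 := Finset.card_union_le
    ((I ×ˢ E3).filter (fun p => (p.1 * p.2) * (p.1 * p.2) = 1) ∪
      (I ×ˢ E3).filter (fun p => orderOf (p.1 * p.2) = 3))
    ((I ×ˢ E3).filter (fun p => orderOf (p.1 * p.2) = 4))
  have u2 := Finset.card_union_le
    ((I ×ˢ E3).filter (fun p => (p.1 * p.2) * (p.1 * p.2) = 1))
    ((I ×ˢ E3).filter (fun p => orderOf (p.1 * p.2) = 3))
  rw [hI] at h3 h4
  omega

/-- a `(2,3,5)`-pair generates a subgroup of index `6` -/
theorem a6_subgroup [Finite G] (hcard : Nat.card G = 360)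
    (y w : G) (hy : orderOf y = 2) (hw : orderOf w = 3) (hx : orderOf (y * w) = 5) :
    ∃ H : Subgroup G, H.index = 6 := by
  have : Fact (Nat.Prime 2) := ⟨Nat.prime_two⟩
  have hy2 := d8_t_sq y hy
  obtain ⟨x, hxdef⟩ : ∃ x, x = y * w := ⟨_, rfl⟩
  rw [← hxdef] at hx
  have hyx : y * x = w := by rw [hxdef, ← mul_assoc, hy2, one_mul]
  have hx5 : x ^ 5 = 1 := by rw [← hx]; exact pow_orderOf_eq_one x
  have hr : (y * x) ^ 3 = 1 := by rw [hyx, ← hw]; exact pow_orderOf_eq_one w
  have hle := a5_card_le hy2 hx5 hr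
  obtain ⟨H, hH⟩ : ∃ H : Subgroup G, H = Subgroup.closure ({x, y} : Set G) := ⟨_, rfl⟩
  rw [← hH] at hle
  have hxH : x ∈ H := by rw [hH]; exact Subgroup.subset_closure (by simp)
  have hyH : y ∈ H := by rw [hH]; exact Subgroup.subset_closure (by simp)
  have hwH : w ∈ H := by rw [← hyx]; exact H.mul_mem hyH hxH
  have d5 : 5 ∣ Nat.card H := by
    have := orderOf_dvd_natCard (⟨x, hxH⟩ : H)
    rwa [Subgroup.orderOf_mk, hx] at this
  have d3 : 3 ∣ Nat.card H := by
    have := orderOf_dvd_natCard (⟨w, hwH⟩ : H)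
    rwa [Subgroup.orderOf_mk, hw] at this
  have d2 : 2 ∣ Nat.card H := by
    have := orderOf_dvd_natCard (⟨y, hyH⟩ : H)
    rwa [Subgroup.orderOf_mk, hy] at this
  have d30 : 30 ∣ Nat.card H := by
    have h6 : 6 ∣ Nat.card H := Nat.Coprime.mul_dvd_of_dvd_of_dvd (by norm_num) d2 d3
    exact Nat.Coprime.mul_dvd_of_dvd_of_dvd (by norm_num) h6 d5
  have hpos : 0 < Nat.card H := Nat.card_pos
  have hmul := H.card_mul_index
  rw [hcard] at hmul
  obtain ⟨k, hk⟩ := d30
  have hk12 : k = 1 ∨ k = 2 := by omega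
  rcases hk12 with hk1 | hk2
  · exfalso
    have hc30 : Nat.card H = 2 ^ 1 * 15 := by rw [hk, hk1]; norm_num
    have hm : ¬ 2 ∣ 15 := by norm_num
    have hyo : orderOf (⟨y, hyH⟩ : H) = 2 := by rw [Subgroup.orderOf_mk, hy]
    have hz : Nat.card (Subgroup.zpowers (⟨y, hyH⟩ : H)) = 2 ^ 1 := by
      rw [Nat.card_zpowers, hyo, pow_one]
    obtain ⟨P, hP⟩ := (IsPGroup.of_card hz).exists_le_sylow
    have hPc : Nat.card (P : Subgroup H) = 2 := by
      rw [Helper23.sylow_card_of_eq hc30 hm P, pow_one]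
    have hyP : (⟨y, hyH⟩ : H) ∈ (P : Subgroup H) := hP (Subgroup.mem_zpowers _)
    have hyne : (⟨y, hyH⟩ : H) ≠ 1 := by
      intro h
      rw [h, orderOf_one] at hyo
      omega
    have hQi : (⊥ : Subgroup H).relIndex (P : Subgroup H) = 2 := by
      rw [Subgroup.relIndex_bot_left, hPc]
    rcases Cfsg.Agent.S0111.result P ⊥ bot_le hQi (⟨y, hyH⟩ : H) hyo hyP
      (by rw [Subgroup.mem_bot]; exact hyne) with ⟨M, hMn, hMi, hyM⟩ | ⟨g, hg⟩
    · apply hyM
      have hxM : (⟨x, hxH⟩ : H) ∈ M := by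
        have h1 := Subgroup.mul_self_mem_of_index_two hMi (⟨x, hxH⟩ : H)
        have h2 : (⟨x, hxH⟩ : H) = (⟨x, hxH⟩ * ⟨x, hxH⟩) ^ 3 := by
          apply Subtype.ext
          rw [Subgroup.coe_pow, Subgroup.coe_mul]
          calc x = x ^ 5 * x := by rw [hx5, one_mul]
            _ = (x * x) ^ 3 := by rw [← pow_two, ← pow_mul, ← pow_succ]
        rw [h2]; exact M.pow_mem h1 3
      have hwM : (⟨w, hwH⟩ : H) ∈ M := by
        have h1 := Subgroup.mul_self_mem_of_index_two hMi (⟨w, hwH⟩ : H)
        have hw3 : w ^ 3 = 1 := by rw [← hw]; exact pow_orderOf_eq_one w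
        have h2 : (⟨w, hwH⟩ : H) = (⟨w, hwH⟩ * ⟨w, hwH⟩) ^ 2 := by
          apply Subtype.ext
          rw [Subgroup.coe_pow, Subgroup.coe_mul]
          calc w = w ^ 3 * w := by rw [hw3, one_mul]
            _ = (w * w) ^ 2 := by rw [← pow_two, ← pow_mul, ← pow_succ]
        rw [h2]; exact M.pow_mem h1 2
      have h3 : (⟨y, hyH⟩ : H) = ⟨x, hxH⟩ * (⟨w, hwH⟩ : H)⁻¹ := by
        apply Subtype.ext
        rw [Subgroup.coe_mul, Subgroup.coe_inv]
        show y = x * w⁻¹
        rw [hxdef]; group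
      rw [h3]; exact M.mul_mem hxM (M.inv_mem hwM)
    · rw [Subgroup.mem_bot] at hg
      exact d8_conj_ne_one hyne hg
  · refine ⟨H, ?_⟩
    rw [hk, hk2] at hmul
    omega

/-- a simple group of order `360` with one class of involutions, with dihedral centralizers of
order `8`, is isomorphic to `A₆` -/
theorem simple_360_a6 [Finite G] [IsSimpleGroup G] (hcard : Nat.card G = 360) (y0 : G)
    (hy0 : orderOf y0 = 2) (e0 : Subgroup.centralizer ({y0} : Set G) ≃* DihedralGroup 4)
    (hconj : ∀ x : G, orderOf x = 2 → IsConj y0 x) :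
    Nonempty (G ≃* alternatingGroup (Fin 6)) := by
  classical
  have : Fact (Nat.Prime 5) := ⟨by norm_num⟩
  have hD : ∀ y : G, orderOf y = 2 →
      Nonempty (Subgroup.centralizer ({y} : Set G) ≃* DihedralGroup 4) :=
    fun y hy => d8_transport y0 e0 y (hconj y hy)
  rcases a6_n5 hcard with h6 | h36
  · obtain ⟨P⟩ : Nonempty (Sylow 5 G) := inferInstance
    have hidx : (Subgroup.normalizer ((P : Subgroup G) : Set G)).index = 6 := by
      rw [← h6]; exact (Sylow.card_eq_index_normalizer P).symm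
    exact a6_of_index_six hcard _ hidx
  · let _ : Fintype G := Fintype.ofFinite G
    have hI : (Finset.univ.filter (fun y : G => orderOf y = 2)).card = 45 := by
      have h1 := Helper23.card_isConj_eq_index y0
      have h2 := (Subgroup.centralizer ({y0} : Set G)).card_mul_index
      rw [d8_card y0 e0, hcard] at h2
      have h3 : (Subgroup.centralizer ({y0} : Set G)).index = 45 := by omega
      rw [h3] at h1
      rw [← h1, ← Fintype.card_subtype, ← Nat.card_eq_fintype_card]
      apply Nat.card_congr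
      refine Equiv.subtypeEquivRight (fun h => ?_)
      constructor
      · intro hh
        exact hconj h hh
      · intro hh
        obtain ⟨c, hc⟩ := isConj_iff.mp hh
        rw [← hc]
        have hs : SemiconjBy c y0 (c * y0 * c⁻¹) := by
          unfold SemiconjBy
          group
        rw [← hs.orderOf_eq]; exact hy0
    obtain ⟨y, w, hy, hw, hx⟩ := a6_exists_235 hcard hD h36 hI
    obtain ⟨H, hH⟩ := a6_subgroup hcard y w hy hw hx
    exact a6_of_index_six hcard H hH

end

end Cfsg.Agent.Lib.Helper20
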