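import Mathlib

set_option autoImplicit false

namespace Cfsg.Agent.Lib.Helper20

theorem d8_aux (d₁ d₂ d₃ e₁ e₂ e₃ : ℤ) (hd₁ : 3 ≤ d₁) (hd₂ : 3 ≤ d₂) (hd₃ : 3 ≤ d₃)
    (he₁ : e₁ = 1 ∨ e₁ = -1) (he₂ : e₂ = 1 ∨ e₂ = -1) (he₃ : e₃ = 1 ∨ e₃ = -1)
    (hne : ¬ (e₁ = -1 ∧ e₂ = -1 ∧ e₃ = -1)) :
    d₁ * d₂ * d₃ ≤ 3 * (d₁ * d₂ * d₃ + e₁ * d₂ * d₃ + e₂ * d₁ * d₃ + e₃ * d₁ * d₂) := by
  have h12 : 0 ≤ (d₁ - 3) * (d₂ - 3) := mul_nonneg (by linarith) (by linarith)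
  have h13 : 0 ≤ (d₁ - 3) * (d₃ - 3) := mul_nonneg (by linarith) (by linarith)
  have h23 : 0 ≤ (d₂ - 3) * (d₃ - 3) := mul_nonneg (by linarith) (by linarith)
  have p12 : 0 < d₁ * d₂ := by positivity
  have p13 : 0 < d₁ * d₃ := by positivity
  have p23 : 0 < d₂ * d₃ := by positivity
  have q1 : 0 ≤ d₁ * ((d₂ - 3) * (d₃ - 3)) := mul_nonneg (by linarith) h23
  have q2 : 0 ≤ d₂ * ((d₁ - 3) * (d₃ - 3)) := mul_nonneg (by linarith) h13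
  have q3 : 0 ≤ d₃ * ((d₁ - 3) * (d₂ - 3)) := mul_nonneg (by linarith) h12
  rcases he₁ with rfl | rfl <;> rcases he₂ with rfl | rfl <;> rcases he₃ with rfl | rfl
  all_goals first
    | (exfalso; exact hne ⟨rfl, rfl, rfl⟩)
    | nlinarith

/-- the arithmetic at the end of the determination of the perfect groups with a dihedral
involution centralizer of order `8` -/
theorem d8_arith (g d₁ d₂ d₃ e₁ e₂ e₃ a₁ a₂ a₃ : ℤ) (hg : 0 < g)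
    (hd₁ : 2 ≤ d₁) (hd₂ : 2 ≤ d₂) (hd₃ : 2 ≤ d₃)
    (he₁ : e₁ = 1 ∨ e₁ = -1) (he₂ : e₂ = 1 ∨ e₂ = -1) (he₃ : e₃ = 1 ∨ e₃ = -1)
    (ha₁ : a₁ = 1 ∨ a₁ = -1) (ha₂ : a₂ = 1 ∨ a₂ = -1) (ha₃ : a₃ = 1 ∨ a₃ = -1)
    (hk₁ : ∃ k : ℤ, d₁ = 8 * k + 2 * e₁ - a₁) (hk₂ : ∃ k : ℤ, d₂ = 8 * k + 2 * e₂ - a₂)
    (hk₃ : ∃ k : ℤ, d₃ = 8 * k + 2 * e₃ - a₃)
    (h2 : 1 + e₁ * d₁ + e₂ * d₂ + e₃ * d₃ = 0)
    (h3 : 1 + e₁ * a₁ + e₂ * a₂ + e₃ * a₃ = 0)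
    (h1 : g * (d₁ * d₂ * d₃ + e₁ * d₂ * d₃ + e₂ * d₁ * d₃ + e₃ * d₁ * d₂) =
      256 * (d₁ * d₂ * d₃))
    (h4 : 1 + d₁ ^ 2 + d₂ ^ 2 + d₃ ^ 2 ≤ g) : g = 168 ∨ g = 360 := by
  obtain ⟨k₁, hk₁⟩ := hk₁
  obtain ⟨k₂, hk₂⟩ := hk₂
  obtain ⟨k₃, hk₃⟩ := hk₃
  have hd₁' : 3 ≤ d₁ := by rcases he₁ with rfl | rfl <;> rcases ha₁ with rfl | rfl <;> omega
  have hd₂' : 3 ≤ d₂ := by rcases he₂ with rfl | rfl <;> rcases ha₂ with rfl | rfl <;> omega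
  have hd₃' : 3 ≤ d₃ := by rcases he₃ with rfl | rfl <;> rcases ha₃ with rfl | rfl <;> omega
  have hne : ¬ (e₁ = -1 ∧ e₂ = -1 ∧ e₃ = -1) := by
    rintro ⟨rfl, rfl, rfl⟩
    omega
  have haux := d8_aux d₁ d₂ d₃ e₁ e₂ e₃ hd₁' hd₂' hd₃' he₁ he₂ he₃ hne
  have hP : 0 < d₁ * d₂ * d₃ := by positivity
  have hX : 0 < d₁ * d₂ * d₃ + e₁ * d₂ * d₃ + e₂ * d₁ * d₃ + e₃ * d₁ * d₂ := by linarith
  have hg768 : g ≤ 768 := by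
    by_contra hcon
    push Not at hcon
    nlinarith
  have hb₁ : d₁ ≤ 27 := by nlinarith
  have hb₂ : d₂ ≤ 27 := by nlinarith
  have hb₃ : d₃ ≤ 27 := by nlinarith
  have hk₁l : 0 ≤ k₁ := by rcases he₁ with rfl | rfl <;> rcases ha₁ with rfl | rfl <;> omega
  have hk₁u : k₁ ≤ 3 := by rcases he₁ with rfl | rfl <;> rcases ha₁ with rfl | rfl <;> omega
  have hk₂l : 0 ≤ k₂ := by rcases he₂ with rfl | rfl <;> rcases ha₂ with rfl | rfl <;> omega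
  have hk₂u : k₂ ≤ 3 := by rcases he₂ with rfl | rfl <;> rcases ha₂ with rfl | rfl <;> omega
  have hk₃l : 0 ≤ k₃ := by rcases he₃ with rfl | rfl <;> rcases ha₃ with rfl | rfl <;> omega
  have hk₃u : k₃ ≤ 3 := by rcases he₃ with rfl | rfl <;> rcases ha₃ with rfl | rfl <;> omega
  clear haux hP hX hb₁ hb₂ hb₃ hd₁' hd₂' hd₃' hne hg768
  subst hk₁ hk₂ hk₃
  rcases he₁ with rfl | rfl <;> rcases he₂ with rfl | rfl <;> rcases he₃ with rfl | rfl <;>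
    rcases ha₁ with rfl | rfl <;> rcases ha₂ with rfl | rfl <;> rcases ha₃ with rfl | rfl <;>
    first
    | omega
    | (interval_cases k₁ <;> interval_cases k₂ <;> interval_cases k₃ <;> omega)

/-- three odd integers whose squares sum to at most `7` are signs -/
theorem d8_pm (A₁ A₂ A₃ m₁ m₂ m₃ e₁ e₂ e₃ : ℤ)
    (he₁ : e₁ = 1 ∨ e₁ = -1) (he₂ : e₂ = 1 ∨ e₂ = -1) (he₃ : e₃ = 1 ∨ e₃ = -1)
    (h₁ : A₁ = 2 * m₁ - e₁) (h₂ : A₂ = 2 * m₂ - e₂) (h₃ : A₃ = 2 * m₃ - e₃)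
    (h : 1 + A₁ ^ 2 + A₂ ^ 2 + A₃ ^ 2 ≤ 8) :
    (A₁ = 1 ∨ A₁ = -1) ∧ (A₂ = 1 ∨ A₂ = -1) ∧ (A₃ = 1 ∨ A₃ = -1) := by
  have hn₁ : A₁ ≤ -1 ∨ 1 ≤ A₁ := by rcases he₁ with rfl | rfl <;> omega
  have hn₂ : A₂ ≤ -1 ∨ 1 ≤ A₂ := by rcases he₂ with rfl | rfl <;> omega
  have hn₃ : A₃ ≤ -1 ∨ 1 ≤ A₃ := by rcases he₃ with rfl | rfl <;> omega
  have hs₁ : 1 ≤ A₁ ^ 2 := by rcases hn₁ with h' | h' <;> nlinarith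
  have hs₂ : 1 ≤ A₂ ^ 2 := by rcases hn₂ with h' | h' <;> nlinarith
  have hs₃ : 1 ≤ A₃ ^ 2 := by rcases hn₃ with h' | h' <;> nlinarith
  have hb₁ : -2 ≤ A₁ ∧ A₁ ≤ 2 := by constructor <;> nlinarith
  have hb₂ : -2 ≤ A₂ ∧ A₂ ≤ 2 := by constructor <;> nlinarith
  have hb₃ : -2 ≤ A₃ ∧ A₃ ≤ 2 := by constructor <;> nlinarith
  refine ⟨?_, ?_, ?_⟩
  · rcases he₁ with rfl | rfl <;> omega
  · rcases he₂ with rfl | rfl <;> omega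
  · rcases he₃ with rfl | rfl <;> omega

end Cfsg.Agent.Lib.Helper20
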