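import Mathlib
import Cfsg.Agent.Lib.Helper20.D8Grp
import Cfsg.Agent.Lib.Helper20.BSGen
import Cfsg.Agent.Lib.Helper20.LinChar
import Cfsg.Agent.Lib.Helper83.Ortho
import Cfsg.Agent.Lib.Helper83.Linear

set_option autoImplicit false
open scoped ComplexConjugate
open DihedralGroup
open Cfsg

namespace Cfsg.Agent.Lib.Helper20

section comb

theorem sum_four_set {ι : Type*} [DecidableEq ι] {M : Type*} [AddCommMonoid M] (F : ι → M)
    (i₀ i₁ i₂ i₃ : ι) (h01 : i₀ ≠ i₁) (h02 : i₀ ≠ i₂) (h03 : i₀ ≠ i₃) (h12 : i₁ ≠ i₂)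
    (h13 : i₁ ≠ i₃) (h23 : i₂ ≠ i₃) :
    ∑ i ∈ ({i₀, i₁, i₂, i₃} : Finset ι), F i = F i₀ + F i₁ + F i₂ + F i₃ := by
  rw [Finset.sum_insert (by simp [h01, h02, h03]), Finset.sum_insert (by simp [h12, h13]),
    Finset.sum_insert (by simp [h23]), Finset.sum_singleton]
  simp only [add_assoc]

theorem sum_four {ι : Type*} [Fintype ι] [DecidableEq ι] {M : Type*} [AddCommMonoid M] (F : ι → M)
    (i₀ i₁ i₂ i₃ : ι) (h01 : i₀ ≠ i₁) (h02 : i₀ ≠ i₂) (h03 : i₀ ≠ i₃) (h12 : i₁ ≠ i₂)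
    (h13 : i₁ ≠ i₃) (h23 : i₂ ≠ i₃)
    (hF : ∀ l, l ≠ i₀ → l ≠ i₁ → l ≠ i₂ → l ≠ i₃ → F l = 0) :
    ∑ i, F i = F i₀ + F i₁ + F i₂ + F i₃ := by
  rw [← sum_four_set F i₀ i₁ i₂ i₃ h01 h02 h03 h12 h13 h23]
  symm
  apply Finset.sum_subset (Finset.subset_univ _)
  intro l _ hl
  simp only [Finset.mem_insert, Finset.mem_singleton, not_or] at hl
  exact hF l hl.1 hl.2.1 hl.2.2.1 hl.2.2.2

/-- an integer vector of square norm `4` with a coordinate equal to one has exactly three further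
nonzero coordinates, all of them signs -/
theorem four_square {ι : Type*} [Fintype ι] [DecidableEq ι] (c : ι → ℤ) (i₀ : ι) (h0 : c i₀ = 1)
    (h : ∑ i, c i ^ 2 = 4) :
    ∃ i₁ i₂ i₃, i₀ ≠ i₁ ∧ i₀ ≠ i₂ ∧ i₀ ≠ i₃ ∧ i₁ ≠ i₂ ∧ i₁ ≠ i₃ ∧ i₂ ≠ i₃ ∧
      (c i₁ = 1 ∨ c i₁ = -1) ∧ (c i₂ = 1 ∨ c i₂ = -1) ∧ (c i₃ = 1 ∨ c i₃ = -1) ∧
      ∀ l, l ≠ i₀ → l ≠ i₁ → l ≠ i₂ → l ≠ i₃ → c l = 0 := by
  have h1 : ∑ i ∈ Finset.univ.erase i₀, c i ^ 2 = 3 := by
    have := Finset.add_sum_erase Finset.univ (fun i => c i ^ 2) (Finset.mem_univ i₀)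
    simp only [h0] at this
    linarith
  obtain ⟨T, hT⟩ : ∃ T : Finset ι, T = (Finset.univ.erase i₀).filter (fun i => c i ≠ 0) :=
    ⟨_, rfl⟩
  have h2 : ∑ i ∈ T, c i ^ 2 = 3 := by
    rw [hT, Finset.sum_filter_of_ne, h1]
    intro x _ hx hx0
    apply hx
    rw [hx0]
    norm_num
  have hmem : ∀ i, i ∈ T ↔ i ≠ i₀ ∧ c i ≠ 0 := by
    intro i
    rw [hT]
    simp
  have hpm : ∀ i ∈ T, c i = 1 ∨ c i = -1 := by
    intro i hi
    have h3 : c i ^ 2 ≤ 3 := by
      rw [← h2]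
      exact Finset.single_le_sum (f := fun i => c i ^ 2) (fun j _ => sq_nonneg (c j)) hi
    have h4 : c i ≠ 0 := ((hmem i).mp hi).2
    have h5 : c i ≤ 1 := by
      by_contra hgt
      push Not at hgt
      nlinarith
    have h6 : -1 ≤ c i := by
      by_contra hgt
      push Not at hgt
      nlinarith
    omega
  have hcard : T.card = 3 := by
    have h3 : ∑ i ∈ T, c i ^ 2 = ∑ i ∈ T, (1 : ℤ) := by
      apply Finset.sum_congr rfl
      intro i hi
      rcases hpm i hi with h | h <;> rw [h] <;> norm_num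
    rw [h3, Finset.sum_const, nsmul_eq_mul, mul_one] at h2
    exact_mod_cast h2
  obtain ⟨x, y, z, hxy, hxz, hyz, hTe⟩ := Finset.card_eq_three.mp hcard
  have hx : x ∈ T := by rw [hTe]; simp
  have hy : y ∈ T := by rw [hTe]; simp
  have hz : z ∈ T := by rw [hTe]; simp
  refine ⟨x, y, z, fun h => ((hmem x).mp hx).1 h.symm, fun h => ((hmem y).mp hy).1 h.symm,
    fun h => ((hmem z).mp hz).1 h.symm, hxy, hxz, hyz, hpm x hx, hpm y hy, hpm z hz, ?_⟩
  intro l hl0 hl1 hl2 hl3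
  by_contra hne
  have hl : l ∈ T := (hmem l).mpr ⟨hl0, hne⟩
  rw [hTe] at hl
  simp only [Finset.mem_insert, Finset.mem_singleton] at hl
  rcases hl with h | h | h
  · exact hl1 h
  · exact hl2 h
  · exact hl3 h

end comb

section theta

variable {G : Type*} [Group G]

/-- the class function on the centralizer with value `4` on the elements of order four and `0`
elsewhere -/
noncomputable def d8Theta (t : G) (e : Subgroup.centralizer ({t} : Set G) ≃* DihedralGroup 4) :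
    Subgroup.centralizer ({t} : Set G) → ℂ :=
  fun x => if e x = r 1 ∨ e x = r 3 then 4 else 0

/-- a linear character of the dihedral group, pulled back to the centralizer -/
noncomputable def d8Lin (t : G) (e : Subgroup.centralizer ({t} : Set G) ≃* DihedralGroup 4)
    (l : DihedralGroup 4 →* ℤˣ) : Subgroup.centralizer ({t} : Set G) →* ℂˣ :=
  (Units.map (Int.castRingHom ℂ).toMonoidHom).comp (l.comp e.toMonoidHom)

theorem d8Lin_apply (t : G) (e : Subgroup.centralizer ({t} : Set G) ≃* DihedralGroup 4)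
    (l : DihedralGroup 4 →* ℤˣ) (x : Subgroup.centralizer ({t} : Set G)) :
    ((d8Lin t e l x : ℂˣ) : ℂ) = (((l (e x) : ℤˣ) : ℤ) : ℂ) := rfl

theorem d8Lin_char (t : G) (e : Subgroup.centralizer ({t} : Set G) ≃* DihedralGroup 4)
    (l : DihedralGroup 4 →* ℤˣ) :
    IsCharacter (Subgroup.centralizer ({t} : Set G))
      (fun x => (((l (e x) : ℤˣ) : ℤ) : ℂ)) :=
  Helper35.isChar_of_irr (Helper83.isIrr_of_hom (d8Lin t e l))

theorem d8Theta_eq (t : G) (e : Subgroup.centralizer ({t} : Set G) ≃* DihedralGroup 4) :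
    d8Theta t e = ((1 : Subgroup.centralizer ({t} : Set G) → ℂ) +
      (fun x => (((D8.l2 (e x) : ℤˣ) : ℤ) : ℂ))) -
      ((fun x => (((D8.l3 (e x) : ℤˣ) : ℤ) : ℂ)) +
        (fun x => ((((D8.l2 * D8.l3) (e x) : ℤˣ) : ℤ) : ℂ))) := by
  funext x
  simp only [Pi.add_apply, Pi.sub_apply, Pi.one_apply, d8Theta, MonoidHom.mul_apply]
  have h := D8.theta_eq (e x)
  have h2 : ((if e x = r 1 ∨ e x = r 3 then (4 : ℤ) else 0 : ℤ) : ℂ) =
      ((1 + ((D8.l2 (e x) : ℤˣ) : ℤ) - ((D8.l3 (e x) : ℤˣ) : ℤ) -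
        ((D8.l2 (e x) * D8.l3 (e x) : ℤˣ) : ℤ) : ℤ) : ℂ) := by rw [h]
  push_cast at h2
  rw [h2]
  push_cast
  ring

theorem d8Theta_gen (t : G) (e : Subgroup.centralizer ({t} : Set G) ≃* DihedralGroup 4) :
    IsGeneralizedCharacter (Subgroup.centralizer ({t} : Set G)) (d8Theta t e) :=
  ⟨_, _, Helper35.isCharacter_add Helper35.isCharacter_one (d8Lin_char t e D8.l2),
    Helper35.isCharacter_add (d8Lin_char t e D8.l3) (d8Lin_char t e (D8.l2 * D8.l3)),
    d8Theta_eq t e⟩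

theorem d8Theta_cf (t : G) (e : Subgroup.centralizer ({t} : Set G) ≃* DihedralGroup 4) :
    IsClassFunction (Subgroup.centralizer ({t} : Set G)) (d8Theta t e) := by
  intro g h
  unfold d8Theta
  have h1 : e (h * g * h⁻¹) = e h * e g * (e h)⁻¹ := by rw [map_mul, map_mul, map_inv]
  rw [h1]
  exact if_congr (D8.theta_conj (e g) (e h)) rfl rfl

variable [Fintype G]

theorem d8_ind_zero (t : G) (e : Subgroup.centralizer ({t} : Set G) ≃* DihedralGroup 4)
    (x : G) (hx : x * x = 1) :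
    indFun (Subgroup.centralizer ({t} : Set G)) (d8Theta t e) x = 0 := by
  unfold indFun
  rw [Finset.sum_eq_zero, mul_zero]
  intro g _
  by_cases hm : g⁻¹ * x * g ∈ Subgroup.centralizer ({t} : Set G)
  · rw [Helper35.ext_mem _ _ _ hm]
    unfold d8Theta
    rw [if_neg]
    apply d8_not_four t e ⟨g⁻¹ * x * g, hm⟩
    show g⁻¹ * x * g * (g⁻¹ * x * g) = 1
    calc g⁻¹ * x * g * (g⁻¹ * x * g) = g⁻¹ * (x * x) * g := by group
      _ = 1 := by rw [hx]; group
  · exact Helper35.ext_not_mem _ _ _ hm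

theorem d8_ind_sigma (t : G) (ht : orderOf t = 2)
    (e : Subgroup.centralizer ({t} : Set G) ≃* DihedralGroup 4) :
    indFun (Subgroup.centralizer ({t} : Set G)) (d8Theta t e)
      ((e.symm (r 1) : Subgroup.centralizer ({t} : Set G)) : G) = 4 := by
  classical
  let _ : Fintype (Subgroup.centralizer ({t} : Set G)) := Fintype.ofFinite _
  rw [indFun_eq_of_ti (Subgroup.centralizer ({t} : Set G)) (d8Theta t e) (d8Theta_cf t e)]
  · unfold d8Theta
    rw [if_pos]
    left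
    simp
  · intro g hg
    by_cases hm : g⁻¹ * ((e.symm (r 1) : Subgroup.centralizer ({t} : Set G)) : G) * g ∈
        Subgroup.centralizer ({t} : Set G)
    · rw [Helper35.ext_mem _ _ _ hm] at hg
      have h1 : e ⟨_, hm⟩ = r 1 ∨ e ⟨_, hm⟩ = r 3 := by
        by_contra hcon
        apply hg
        unfold d8Theta
        rw [if_neg hcon]
      exact d8_ti t ht e (e.symm (r 1)) ⟨_, hm⟩ (Or.inl (by simp)) h1 g rfl
    · exact absurd (Helper35.ext_not_mem _ _ _ hm) hg

omit [Fintype G] in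
/-- values of a class function of `G` on the centralizer -/
theorem d8_val [Finite G] (hperf : commutator G = ⊤) (t : G) (ht : orderOf t = 2)
    (e : Subgroup.centralizer ({t} : Set G) ≃* DihedralGroup 4) (χ : G → ℂ)
    (hχ : IsClassFunction G χ) :
    χ ((e.symm (r 0) : Subgroup.centralizer ({t} : Set G)) : G) = χ 1 ∧
    χ ((e.symm (r 2) : Subgroup.centralizer ({t} : Set G)) : G) = χ t ∧
    χ ((e.symm (r 3) : Subgroup.centralizer ({t} : Set G)) : G) =
      χ ((e.symm (r 1) : Subgroup.centralizer ({t} : Set G)) : G) ∧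
    ∀ i, χ ((e.symm (sr i) : Subgroup.centralizer ({t} : Set G)) : G) = χ t := by
  have hconj : ∀ x : G, IsConj t x → χ x = χ t := by
    intro x hx
    obtain ⟨c, hc⟩ := isConj_iff.mp hx
    rw [← hc]
    exact hχ t c
  have hsr : ∀ i : ZMod 4, (sr i : DihedralGroup 4) ≠ 1 ∧ (sr i : DihedralGroup 4) * sr i = 1 := by
    decide
  refine ⟨?_, ?_, ?_, ?_⟩
  · rw [D8.r0_eq, map_one, Subgroup.coe_one]
  · rw [d8_symm_r2 t ht e]
  · have h1 : e.symm (r 3) = e.symm (sr 0) * e.symm (r 1) * (e.symm (sr 0))⁻¹ := by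
      rw [← map_inv, ← map_mul, ← map_mul, D8.conj_r1]
    rw [h1]
    exact hχ _ _
  · intro i
    apply hconj
    apply d8_invol_symm hperf t ht e
    · exact (hsr i).1
    · exact (hsr i).2

omit [Fintype G] in
/-- inner products on the centralizer of the restriction of a class function of `G` -/
theorem d8_res_inner [Finite G] (hperf : commutator G = ⊤) (t : G) (ht : orderOf t = 2)
    (e : Subgroup.centralizer ({t} : Set G) ≃* DihedralGroup 4)
    [Fintype (Subgroup.centralizer ({t} : Set G))] (χ : G → ℂ)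
    (hχ : IsClassFunction G χ) (ψ : DihedralGroup 4 → ℂ) :
    8 * classInner (Helper35.res (Subgroup.centralizer ({t} : Set G)) χ) (fun x => ψ (e x)) =
      χ 1 * conj (ψ (r 0)) +
      χ ((e.symm (r 1) : Subgroup.centralizer ({t} : Set G)) : G) *
        (conj (ψ (r 1)) + conj (ψ (r 3))) +
      χ t * (conj (ψ (r 2)) + conj (ψ (sr 0)) + conj (ψ (sr 1)) + conj (ψ (sr 2)) +
        conj (ψ (sr 3))) := by
  obtain ⟨h0, h2, h3, hs⟩ := d8_val hperf t ht e χ hχ
  unfold classInner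
  rw [d8_card t e]
  have hsum : ∑ x : Subgroup.centralizer ({t} : Set G),
      Helper35.res (Subgroup.centralizer ({t} : Set G)) χ x * conj (ψ (e x)) =
      ∑ q : DihedralGroup 4,
        χ ((e.symm q : Subgroup.centralizer ({t} : Set G)) : G) * conj (ψ q) := by
    rw [← Equiv.sum_comp e.symm.toEquiv]
    apply Finset.sum_congr rfl
    intro q _
    simp
  rw [hsum, D8.sum_d8, h0, h2, h3, hs 0, hs 1, hs 2, hs 3]
  push_cast
  ring

/-- the induced class function has inner product `conj (χ σ)` with a class function `χ` -/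
theorem d8_ind_inner [Finite G] (hperf : commutator G = ⊤) (t : G) (ht : orderOf t = 2)
    (e : Subgroup.centralizer ({t} : Set G) ≃* DihedralGroup 4) (χ : G → ℂ)
    (hχ : IsClassFunction G χ) :
    classInner (indFun (Subgroup.centralizer ({t} : Set G)) (d8Theta t e)) χ =
      conj (χ ((e.symm (r 1) : Subgroup.centralizer ({t} : Set G)) : G)) := by
  classical
  let _ : Fintype (Subgroup.centralizer ({t} : Set G)) := Fintype.ofFinite _
  rw [Helper35.frobenius_reciprocity _ _ _ hχ, Helper4.classInner_conj_symm]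
  have h1 := d8_res_inner hperf t ht e χ hχ (fun q => if q = r 1 ∨ q = r 3 then 4 else 0)
  have h2 : (fun x : Subgroup.centralizer ({t} : Set G) =>
      (fun q : DihedralGroup 4 => if q = r 1 ∨ q = r 3 then (4 : ℂ) else 0) (e x)) =
      d8Theta t e := rfl
  rw [h2] at h1
  have e0 : ¬ ((r 0 : DihedralGroup 4) = r 1 ∨ (r 0 : DihedralGroup 4) = r 3) := by decide
  have e1 : ((r 1 : DihedralGroup 4) = r 1 ∨ (r 1 : DihedralGroup 4) = r 3) := by decide
  have e2 : ¬ ((r 2 : DihedralGroup 4) = r 1 ∨ (r 2 : DihedralGroup 4) = r 3) := by decide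
  have e3 : ((r 3 : DihedralGroup 4) = r 1 ∨ (r 3 : DihedralGroup 4) = r 3) := by decide
  have e4 : ¬ ((sr 0 : DihedralGroup 4) = r 1 ∨ (sr 0 : DihedralGroup 4) = r 3) := by decide
  have e5 : ¬ ((sr 1 : DihedralGroup 4) = r 1 ∨ (sr 1 : DihedralGroup 4) = r 3) := by decide
  have e6 : ¬ ((sr 2 : DihedralGroup 4) = r 1 ∨ (sr 2 : DihedralGroup 4) = r 3) := by decide
  have e7 : ¬ ((sr 3 : DihedralGroup 4) = r 1 ∨ (sr 3 : DihedralGroup 4) = r 3) := by decide
  rw [if_neg e0, if_pos e1, if_neg e2, if_pos e3, if_neg e4, if_neg e5, if_neg e6,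
    if_neg e7] at h1
  simp only [map_zero, mul_zero, add_zero, zero_add] at h1
  have h3 : classInner (Helper35.res (Subgroup.centralizer ({t} : Set G)) χ) (d8Theta t e) =
      χ ((e.symm (r 1) : Subgroup.centralizer ({t} : Set G)) : G) := by
    have h4 : (conj (4 : ℂ)) = 4 := by
      rw [show (4 : ℂ) = ((4 : ℕ) : ℂ) by norm_num, Complex.conj_natCast]
    rw [h4] at h1
    linear_combination (1 / 8 : ℂ) * h1
  rw [h3]

end theta

end Cfsg.Agent.Lib.Helper20
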