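import Mathlib
import Cfsg.Agent.S0840
import Cfsg.Agent.Lib.Helper20.D8Char
import Cfsg.Agent.Lib.Helper20.D8Arith

set_option autoImplicit false
open scoped ComplexConjugate
open DihedralGroup
open Cfsg

namespace Cfsg.Agent.Lib.Helper20

section main

variable {G : Type*} [Group G]

/-- a perfect group has no linear character besides the principal one -/
theorem d8_perfect_linear (hperf : commutator G = ⊤) {χ : G → ℂ} (hχ : IsCharacter G χ)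
    (h1 : χ 1 = 1) : χ = fun _ => 1 := by
  obtain ⟨f, hf⟩ := exists_hom_of_linear χ hχ h1
  funext a
  have hk : a ∈ f.ker := by
    have h2 := Abelianization.commutator_subset_ker f
    rw [hperf] at h2
    exact h2 (Subgroup.mem_top a)
  rw [← hf a, MonoidHom.mem_ker.mp hk]
  simp

/-- the degree and the value at the involution of an irreducible character, in terms of its
value `ε` at an element of order four -/
theorem d8_values [Finite G] (hperf : commutator G = ⊤) (t : G) (ht : orderOf t = 2)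
    (e : Subgroup.centralizer ({t} : Set G) ≃* DihedralGroup 4) (χ : G → ℂ)
    (hχ : IsIrrCharacter G χ) (ε : ℤ)
    (hε : χ ((e.symm (r 1) : Subgroup.centralizer ({t} : Set G)) : G) = (ε : ℂ)) :
    ∃ A k m : ℤ, χ t = (A : ℂ) ∧ (charDegree χ : ℤ) = 8 * k + 2 * ε - A ∧ A = 2 * m - ε := by
  classical
  let _ : Fintype (Subgroup.centralizer ({t} : Set G)) := Fintype.ofFinite _
  have hcf : IsClassFunction G χ :=
    Helper35.isClassFunction_of_isCharacter (Helper35.isChar_of_irr hχ)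
  have hres : IsCharacter (Subgroup.centralizer ({t} : Set G))
      (Helper35.res (Subgroup.centralizer ({t} : Set G)) χ) :=
    Helper35.isCharacter_res _ (Helper35.isChar_of_irr hχ)
  obtain ⟨n₁, hn₁⟩ := Helper35.classInner_char_nat hres
    (Helper35.isCharacter_one (G := Subgroup.centralizer ({t} : Set G)))
  obtain ⟨n₂, hn₂⟩ := Helper35.classInner_char_nat hres (d8Lin_char t e D8.l3)
  have h1 := d8_res_inner hperf t ht e χ hcf (fun _ => 1)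
  have h2 := d8_res_inner hperf t ht e χ hcf (fun q => (((D8.l3 q : ℤˣ) : ℤ) : ℂ))
  have e1 : (fun x : Subgroup.centralizer ({t} : Set G) =>
      (fun _ : DihedralGroup 4 => (1 : ℂ)) (e x)) =
      (1 : Subgroup.centralizer ({t} : Set G) → ℂ) := rfl
  rw [e1, hn₁, hε] at h1
  have e2 : (fun x : Subgroup.centralizer ({t} : Set G) =>
      (fun q : DihedralGroup 4 => (((D8.l3 q : ℤˣ) : ℤ) : ℂ)) (e x)) =
      (fun x : Subgroup.centralizer ({t} : Set G) => (((D8.l3 (e x) : ℤˣ) : ℤ) : ℂ)) := rfl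
  rw [e2, hn₂, hε] at h2
  obtain ⟨v0, v1, v2, v3, v4, v5, v6, v7⟩ := D8.l3_vals
  simp only [v0, v1, v2, v3, v4, v5, v6, v7, Int.cast_one, Int.cast_neg, map_one, map_neg]
    at h1 h2
  obtain ⟨-, hd⟩ := Helper83.irr_degree hχ
  rw [hd] at h1 h2
  refine ⟨2 * ((n₁ : ℤ) - n₂) - ε, n₂, (n₁ : ℤ) - n₂, ?_, ?_, rfl⟩
  · push_cast
    linear_combination (-1 / 4 : ℂ) * h1 + (1 / 4 : ℂ) * h2
  · have h3 : ((charDegree χ : ℤ) : ℂ) =
        ((8 * (n₂ : ℤ) + 2 * ε - (2 * ((n₁ : ℤ) - n₂) - ε) : ℤ) : ℂ) := by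
      push_cast
      linear_combination (1 / 4 : ℂ) * h1 - (5 / 4 : ℂ) * h2
    exact_mod_cast h3

/-- a perfect finite group with an involution whose centralizer is dihedral of order `8` has
order `168` or `360` -/
theorem d8_main [Finite G] (hperf : commutator G = ⊤) (t : G) (ht : orderOf t = 2)
    (e : Subgroup.centralizer ({t} : Set G) ≃* DihedralGroup 4) :
    Nat.card G = 168 ∨ Nat.card G = 360 := by
  classical
  let _ : Fintype G := Fintype.ofFinite G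
  have hfin := Helper4.irr_finite (G := G)
  let _ : Fintype (IrrCharacter G) := Fintype.ofFinite _
  have ht2 := d8_t_sq t ht
  obtain ⟨σ, hσ⟩ : ∃ σ : G, σ = ((e.symm (r 1) : Subgroup.centralizer ({t} : Set G)) : G) :=
    ⟨_, rfl⟩
  obtain ⟨Θ, hΘ⟩ : ∃ Θ : G → ℂ,
    Θ = indFun (Subgroup.centralizer ({t} : Set G)) (d8Theta t e) := ⟨_, rfl⟩
  have hΘgen : IsGeneralizedCharacter G Θ := by
    rw [hΘ]
    exact Helper35.isGenChar_indFun _ (d8Theta_gen t e)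
  have hΘcf : IsClassFunction G Θ := by
    rw [hΘ]
    exact Helper35.isClassFunction_indFun _ _
  have hΘ0 : ∀ x : G, x * x = 1 → Θ x = 0 := by
    intro x hx
    rw [hΘ]
    exact d8_ind_zero t e x hx
  have hΘσ : Θ σ = 4 := by
    rw [hΘ, hσ]
    exact d8_ind_sigma t ht e
  have hΘin : ∀ χ : G → ℂ, IsClassFunction G χ → classInner Θ χ = conj (χ σ) := by
    intro χ hχ
    rw [hΘ, hσ]
    exact d8_ind_inner hperf t ht e χ hχ
  obtain ⟨c, hc⟩ := Helper35.gen_decomp hΘgen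
  have hcσ : ∀ χ : IrrCharacter G, (χ : G → ℂ) σ = (c χ : ℂ) := by
    intro χ
    have h1 := hΘin χ (Helper4.isClassFunction_irr χ)
    have h2 := Helper4.classInner_sum_irr (fun χ : IrrCharacter G => ((c χ : ℤ) : ℂ)) χ
    rw [← hc, h1] at h2
    have h3 := congrArg conj h2
    rw [Complex.conj_conj] at h3
    simp only [map_intCast] at h3
    exact h3
  have hsq : ∑ χ : IrrCharacter G, c χ ^ 2 = 4 := by
    have h1 := hΘin Θ hΘcf
    rw [hΘσ] at h1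
    have h4 : (conj (4 : ℂ)) = 4 := by
      rw [show (4 : ℂ) = ((4 : ℕ) : ℂ) by norm_num, Complex.conj_natCast]
    rw [h4] at h1
    have h2 := Helper35.classInner_int_decomp c c
    rw [← hc, h1] at h2
    have h3 : (∑ χ : IrrCharacter G, c χ * c χ : ℤ) = 4 := by exact_mod_cast h2.symm
    rw [← h3]
    exact Finset.sum_congr rfl fun χ _ => sq (c χ)
  obtain ⟨τ, hτ⟩ : ∃ τ : IrrCharacter G, (τ : G → ℂ) = fun _ => 1 :=
    ⟨⟨_, Helper83.isIrr_one⟩, rfl⟩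
  have hτv : ∀ x : G, (τ : G → ℂ) x = 1 := fun x => congrFun hτ x
  have hcτ : c τ = 1 := by
    have h1 := hcσ τ
    rw [hτv] at h1
    exact_mod_cast h1.symm
  obtain ⟨χ₁, χ₂, χ₃, h01, h02, h03, h12, h13, h23, he₁, he₂, he₃, hrest⟩ :=
    four_square c τ hcτ hsq
  have hsum : ∀ F : IrrCharacter G → ℂ, (∀ l, c l = 0 → F l = 0) →
      ∑ χ, F χ = F τ + F χ₁ + F χ₂ + F χ₃ := by
    intro F hF
    exact sum_four F τ χ₁ χ₂ χ₃ h01 h02 h03 h12 h13 h23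
      (fun l a b c' d => hF l (hrest l a b c' d))
  -- degrees and values
  obtain ⟨hd₁p, hd₁⟩ := Helper83.irr_degree χ₁.2
  obtain ⟨hd₂p, hd₂⟩ := Helper83.irr_degree χ₂.2
  obtain ⟨hd₃p, hd₃⟩ := Helper83.irr_degree χ₃.2
  obtain ⟨A₁, k₁, m₁, hA₁, hk₁, hm₁⟩ := d8_values hperf t ht e χ₁ χ₁.2 (c χ₁)
    (by rw [← hσ]; exact hcσ χ₁)
  obtain ⟨A₂, k₂, m₂, hA₂, hk₂, hm₂⟩ := d8_values hperf t ht e χ₂ χ₂.2 (c χ₂)
    (by rw [← hσ]; exact hcσ χ₂)
  obtain ⟨A₃, k₃, m₃, hA₃, hk₃, hm₃⟩ := d8_values hperf t ht e χ₃ χ₃.2 (c χ₃)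
    (by rw [← hσ]; exact hcσ χ₃)
  obtain ⟨d₁, hd₁e⟩ : ∃ d : ℕ, d = charDegree (χ₁ : G → ℂ) := ⟨_, rfl⟩
  obtain ⟨d₂, hd₂e⟩ : ∃ d : ℕ, d = charDegree (χ₂ : G → ℂ) := ⟨_, rfl⟩
  obtain ⟨d₃, hd₃e⟩ : ∃ d : ℕ, d = charDegree (χ₃ : G → ℂ) := ⟨_, rfl⟩
  rw [← hd₁e] at hd₁p hd₁ hk₁
  rw [← hd₂e] at hd₂p hd₂ hk₂
  rw [← hd₃e] at hd₃p hd₃ hk₃
  have hΘval : ∀ x : G, Θ x = ∑ χ : IrrCharacter G, (c χ : ℂ) * (χ : G → ℂ) x := by
    intro x
    have h1 := congrFun hc x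
    simp only [Finset.sum_apply, Pi.smul_apply, smul_eq_mul] at h1
    exact h1
  -- the value at the identity
  have hE1 : 1 + c χ₁ * (d₁ : ℤ) + c χ₂ * (d₂ : ℤ) + c χ₃ * (d₃ : ℤ) = 0 := by
    have h1 := hΘval 1
    rw [hΘ0 1 (mul_one 1),
      hsum (fun χ => (c χ : ℂ) * (χ : G → ℂ) 1) (fun l hl => by rw [hl]; simp)] at h1
    simp only [hcτ, hτv, hd₁, hd₂, hd₃] at h1
    have h2 : ((1 + c χ₁ * (d₁ : ℤ) + c χ₂ * (d₂ : ℤ) + c χ₃ * (d₃ : ℤ) : ℤ) : ℂ) = 0 := by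
      push_cast
      linear_combination -h1
    exact_mod_cast h2
  -- the value at the involution
  have hE2 : 1 + c χ₁ * A₁ + c χ₂ * A₂ + c χ₃ * A₃ = 0 := by
    have h1 := hΘval t
    rw [hΘ0 t ht2,
      hsum (fun χ => (c χ : ℂ) * (χ : G → ℂ) t) (fun l hl => by rw [hl]; simp)] at h1
    simp only [hcτ, hτv, hA₁, hA₂, hA₃] at h1
    have h2 : ((1 + c χ₁ * A₁ + c χ₂ * A₂ + c χ₃ * A₃ : ℤ) : ℂ) = 0 := by
      push_cast
      linear_combination -h1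
    exact_mod_cast h2
  -- column orthogonality at the involution
  have hcol : (1 : ℤ) + A₁ ^ 2 + A₂ ^ 2 + A₃ ^ 2 ≤ 8 := by
    have h1 := Helper83.column_orthogonality_conj (G := G) (IsConj.refl t)
    rw [d8_card t e] at h1
    have h2 : ((∑ χ : IrrCharacter G, Complex.normSq ((χ : G → ℂ) t) : ℝ) : ℂ) = ((8 : ℝ) : ℂ) := by
      rw [Complex.ofReal_sum]
      have h3 : ((8 : ℝ) : ℂ) = ((8 : ℕ) : ℂ) := by norm_num
      rw [h3, ← h1]
      exact Finset.sum_congr rfl fun χ _ => (Complex.mul_conj _).symm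
    have h3 : ∑ χ : IrrCharacter G, Complex.normSq ((χ : G → ℂ) t) = 8 := by exact_mod_cast h2
    have h4 := Finset.sum_le_univ_sum_of_nonneg (s := ({τ, χ₁, χ₂, χ₃} : Finset (IrrCharacter G)))
      (f := fun χ : IrrCharacter G => Complex.normSq ((χ : G → ℂ) t))
      (fun χ => Complex.normSq_nonneg _)
    rw [h3, sum_four_set _ τ χ₁ χ₂ χ₃ h01 h02 h03 h12 h13 h23] at h4
    simp only [hτv, hA₁, hA₂, hA₃, Complex.normSq_intCast, Complex.normSq_one] at h4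
    have h5 : (((1 : ℤ) + A₁ ^ 2 + A₂ ^ 2 + A₃ ^ 2 : ℤ) : ℝ) ≤ ((8 : ℤ) : ℝ) := by
      push_cast
      linarith
    exact_mod_cast h5
  obtain ⟨ha₁, ha₂, ha₃⟩ := d8_pm A₁ A₂ A₃ m₁ m₂ m₃ (c χ₁) (c χ₂) (c χ₃) he₁ he₂ he₃ hm₁ hm₂ hm₃ hcol
  -- the sum of the squares of the degrees
  have hdeg : (1 : ℤ) + (d₁ : ℤ) ^ 2 + (d₂ : ℤ) ^ 2 + (d₃ : ℤ) ^ 2 ≤ (Nat.card G : ℤ) := by
    have h1 := Helper83.sum_degree_sq (G := G)
    have h2 : ((∑ χ : IrrCharacter G, charDegree (χ : G → ℂ) ^ 2 : ℕ) : ℂ) = (Nat.card G : ℂ) := by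
      rw [← h1]
      push_cast
      exact Finset.sum_congr rfl fun χ _ => by rw [(Helper83.irr_degree χ.2).2]
    have h3 : ∑ χ : IrrCharacter G, charDegree (χ : G → ℂ) ^ 2 = Nat.card G := by
      exact_mod_cast h2
    have h4 := Finset.sum_le_univ_sum_of_nonneg (s := ({τ, χ₁, χ₂, χ₃} : Finset (IrrCharacter G)))
      (f := fun χ : IrrCharacter G => charDegree (χ : G → ℂ) ^ 2)
      (fun χ => Nat.zero_le _)
    rw [h3, sum_four_set _ τ χ₁ χ₂ χ₃ h01 h02 h03 h12 h13 h23] at h4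
    have h5 : charDegree (τ : G → ℂ) = 1 := by
      have h6 := (Helper83.irr_degree τ.2).2
      rw [hτv] at h6
      exact_mod_cast h6.symm
    rw [h5, ← hd₁e, ← hd₂e, ← hd₃e] at h4
    exact_mod_cast h4
  -- the degrees are at least two
  have hnl : ∀ χ : IrrCharacter G, τ ≠ χ → charDegree (χ : G → ℂ) ≠ 1 := by
    intro χ hne h1
    apply hne
    apply Subtype.ext
    rw [hτ]
    have h2 := (Helper83.irr_degree χ.2).2
    rw [h1, Nat.cast_one] at h2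
    exact (d8_perfect_linear hperf (Helper35.isChar_of_irr χ.2) h2).symm
  have hd₁2 : (2 : ℤ) ≤ d₁ := by
    have := hnl χ₁ h01
    rw [← hd₁e] at this
    omega
  have hd₂2 : (2 : ℤ) ≤ d₂ := by
    have := hnl χ₂ h02
    rw [← hd₂e] at this
    omega
  have hd₃2 : (2 : ℤ) ≤ d₃ := by
    have := hnl χ₃ h03
    rw [← hd₃e] at this
    omega
  -- the class multiplication formula
  have hcls := Cfsg.Agent.S0840.result t t σ
  have hcount : Nat.card {p : G × G // IsConj t p.1 ∧ IsConj t p.2 ∧ p.1 * p.2 = σ} = 4 := by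
    rw [hσ]
    exact d8_count hperf t ht e
  have hcl := Helper83.card_conj_mul_card_centralizer t
  rw [d8_card t e] at hcl
  obtain ⟨cl, hcle⟩ : ∃ cl : ℕ, cl = Nat.card {x : G // IsConj t x} := ⟨_, rfl⟩
  obtain ⟨N, hNe⟩ : ∃ N : ℕ, N = Nat.card G := ⟨_, rfl⟩
  rw [← hcle, ← hNe] at hcl
  rw [← hNe] at hdeg
  have hN0 : 0 < N := by rw [hNe]; exact Nat.card_pos
  rw [hcount, finsum_eq_sum_of_fintype, ← hcle, ← hNe,
    hsum (fun χ => (χ : G → ℂ) t * (χ : G → ℂ) t * conj ((χ : G → ℂ) σ) / (χ : G → ℂ) 1)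
      (fun l hl => by rw [hcσ l, hl]; simp)] at hcls
  simp only [hτv, hcσ, hcτ, hA₁, hA₂, hA₃, hd₁, hd₂, hd₃, map_intCast, Int.cast_one] at hcls
  simp only [map_one, Nat.cast_ofNat] at hcls
  have hclC : (cl : ℂ) = (N : ℂ) / 8 := by
    rw [eq_div_iff (by norm_num)]
    exact_mod_cast hcl
  have hNC : (N : ℂ) ≠ 0 := by exact_mod_cast hN0.ne'
  have hd₁C : (d₁ : ℂ) ≠ 0 := by exact_mod_cast hd₁p.ne'
  have hd₂C : (d₂ : ℂ) ≠ 0 := by exact_mod_cast hd₂p.ne'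
  have hd₃C : (d₃ : ℂ) ≠ 0 := by exact_mod_cast hd₃p.ne'
  have hAA₁ : (A₁ : ℂ) * (A₁ : ℂ) = 1 := by rcases ha₁ with h | h <;> rw [h] <;> norm_num
  have hAA₂ : (A₂ : ℂ) * (A₂ : ℂ) = 1 := by rcases ha₂ with h | h <;> rw [h] <;> norm_num
  have hAA₃ : (A₃ : ℂ) * (A₃ : ℂ) = 1 := by rcases ha₃ with h | h <;> rw [h] <;> norm_num
  rw [hclC, hAA₁, hAA₂, hAA₃] at hcls
  have hfin1 : (N : ℂ) * ((d₁ : ℂ) * d₂ * d₃ + (c χ₁ : ℂ) * d₂ * d₃ + (c χ₂ : ℂ) * d₁ * d₃ +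
      (c χ₃ : ℂ) * d₁ * d₂) = 256 * ((d₁ : ℂ) * d₂ * d₃) := by
    field_simp at hcls
    linear_combination (-1 : ℂ) * hcls
  have hfin2 : (N : ℤ) * ((d₁ : ℤ) * d₂ * d₃ + c χ₁ * d₂ * d₃ + c χ₂ * d₁ * d₃ +
      c χ₃ * d₁ * d₂) = 256 * ((d₁ : ℤ) * d₂ * d₃) := by
    exact_mod_cast hfin1
  have hfinal := d8_arith (N : ℤ) d₁ d₂ d₃ (c χ₁) (c χ₂) (c χ₃) A₁ A₂ A₃ (by exact_mod_cast hN0)
    hd₁2 hd₂2 hd₃2 he₁ he₂ he₃ ha₁ ha₂ ha₃ ⟨k₁, hk₁⟩ ⟨k₂, hk₂⟩ ⟨k₃, hk₃⟩ hE1 hE2 hfin2 hdeg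
  rw [← hNe]
  rcases hfinal with h | h
  · left
    exact_mod_cast h
  · right
    exact_mod_cast h

end main

end Cfsg.Agent.Lib.Helper20
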