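import Mathlib
import Cfsg.Agent.S0495
import Cfsg.Agent.S0255

set_option autoImplicit false

namespace Cfsg.Agent.Lib.Helper20

theorem sl32_center : Subgroup.center (Matrix.SpecialLinearGroup (Fin 3) (ZMod 2)) = ⊥ := by
  rw [eq_bot_iff]
  intro A hA
  obtain ⟨r, hr, hr'⟩ := Matrix.SpecialLinearGroup.mem_center_iff.mp hA
  have h0 : ∀ r : ZMod 2, r ^ Fintype.card (Fin 3) = 1 → r = 1 := by decide
  have h1 : r = 1 := h0 r hr
  rw [Subgroup.mem_bot]
  apply Subtype.ext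
  rw [← hr', h1]; simp

/-- a simple group of order `168` is isomorphic to `SL₃(2)` -/
theorem simple_168_sl32 {G : Type*} [Group G] [Finite G] [IsSimpleGroup G]
    (h : Nat.card G = 168) : Nonempty (G ≃* Matrix.SpecialLinearGroup (Fin 3) (ZMod 2)) := by
  have : Fact (Nat.Prime 7) := ⟨by norm_num⟩
  have : Fact (Nat.Prime 2) := ⟨Nat.prime_two⟩
  obtain ⟨e1⟩ := Cfsg.Agent.S0495.result h (F := ZMod 7) (ZMod.card 7)
  obtain ⟨e2⟩ := Cfsg.Agent.S0255.result (F := ZMod 7) (K := ZMod 2) (ZMod.card 7) (ZMod.card 2)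
  exact ⟨(e1.trans e2).trans
    ((QuotientGroup.quotientMulEquivOfEq sl32_center).trans QuotientGroup.quotientBot)⟩

end Cfsg.Agent.Lib.Helper20
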