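import Mathlib
import Cfsg.Agent.Lib.Helper20.D8Main
import Cfsg.Agent.Lib.Helper20.D8Str
import Cfsg.Agent.Lib.Helper20.SL32
import Cfsg.Agent.Lib.Helper20.A6e

set_option autoImplicit false
open DihedralGroup
open Cfsg

namespace Cfsg.Agent.Lib.Helper20

section

variable {G : Type*} [Group G]

/-- case (iii): full fusion gives `SL₃(2)` or `A₆` -/
theorem d8_case_iii [Finite G] (z : G) (hz : orderOf z = 2)
    (e : Subgroup.centralizer ({z} : Set G) ≃* DihedralGroup 4)
    (h1 : ∃ g : G, g * z * g⁻¹ = ((e.symm (sr 0) : Subgroup.centralizer ({z} : Set G)) : G))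
    (h2 : ∃ g : G, g * z * g⁻¹ = ((e.symm (sr 1) : Subgroup.centralizer ({z} : Set G)) : G)) :
    Nonempty (G ≃* Matrix.SpecialLinearGroup (Fin 3) (ZMod 2)) ∨
      Nonempty (G ≃* alternatingGroup (Fin 6)) := by
  have hconj := d8_one_class z hz e h1 h2
  have hperf := d8_perfect z hz e hconj
  have hs := d8_simple z hz e hconj
  rcases d8_main hperf z hz e with h | h
  · left; exact simple_168_sl32 h
  · right; exact simple_360_a6 h z hz e hconj

/-- the theorem on dihedral centralizers of order `8`, modulo the case of partial fusion -/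
theorem d8_final [Finite G] (z : G) (hz : orderOf z = 2)
    (hii : ∀ e : Subgroup.centralizer ({z} : Set G) ≃* DihedralGroup 4,
      (∃ g : G, g * z * g⁻¹ = ((e.symm (sr 0) : Subgroup.centralizer ({z} : Set G)) : G)) →
      (¬ ∃ g : G, g * z * g⁻¹ = ((e.symm (sr 1) : Subgroup.centralizer ({z} : Set G)) : G)) →
      Nonempty (G ≃* Equiv.Perm (Fin 4)) ∨ Nonempty (G ≃* Equiv.Perm (Fin 5)))
    (e : Subgroup.centralizer ({z} : Set G) ≃* DihedralGroup 4) :
    Subgroup.centralizer ({z} : Set G) ⊔ Cfsg.oddCore G = ⊤ ∨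
      Nonempty (G ≃* Equiv.Perm (Fin 4)) ∨ Nonempty (G ≃* Equiv.Perm (Fin 5)) ∨
      Nonempty (G ≃* Matrix.SpecialLinearGroup (Fin 3) (ZMod 2)) ∨
      Nonempty (G ≃* ↥(alternatingGroup (Fin 6))) := by
  by_cases h1 : ∃ g : G, g * z * g⁻¹ =
      ((e.symm (sr 0) : Subgroup.centralizer ({z} : Set G)) : G)
  · by_cases h2 : ∃ g : G, g * z * g⁻¹ =
        ((e.symm (sr 1) : Subgroup.centralizer ({z} : Set G)) : G)
    · rcases d8_case_iii z hz e h1 h2 with h | h
      · right; right; right; left; exact h
      · right; right; right; right; exact h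
    · rcases hii e h1 h2 with h | h
      · right; left; exact h
      · right; right; left; exact h
  · by_cases h2 : ∃ g : G, g * z * g⁻¹ =
        ((e.symm (sr 1) : Subgroup.centralizer ({z} : Set G)) : G)
    · have h1' : ∃ g : G, g * z * g⁻¹ =
          (((e.trans d8Swap).symm (sr 0) : Subgroup.centralizer ({z} : Set G)) : G) := by
        rw [MulEquiv.symm_trans_apply, d8Swap_symm_sr0]; exact h2
      have h2' : ¬ ∃ g : G, g * z * g⁻¹ =
          (((e.trans d8Swap).symm (sr 1) : Subgroup.centralizer ({z} : Set G)) : G) := by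
        rw [MulEquiv.symm_trans_apply, d8Swap_symm_sr1]; exact h1
      rcases hii (e.trans d8Swap) h1' h2' with h | h
      · right; left; exact h
      · right; right; left; exact h
    · left; exact d8_case_i z hz e h1 h2

end

end Cfsg.Agent.Lib.Helper20
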