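import Mathlib
import Cfsg.Agent.S4304
import Cfsg.Agent.Lib.Helper23.Syl
import Cfsg.Agent.Lib.Helper23.ExcGroup
import Cfsg.Agent.Lib.Helper76.N22Count
import Cfsg.Agent.Lib.Helper76.SylPrime
import Cfsg.Agent.Lib.Helper20.Exc2f

/-!
# Simple groups of order 4032 (helper20)

The four cases `n_7 ∈ {8, 36, 64, 288}` for the number of Sylow 7-subgroups of a simple group of
order `4032 = 2^6 * 3^2 * 7`.  The cases `8, 36, 64` follow helper76's analysis (fixed points on
the set of Sylow 7-subgroups); the case `288` (`N(P)` dihedral of order 14) uses the involution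
formula `exc2_inv_formula`: `|C(t)|² d (d + 1) = 576 (d - a)²` is impossible.
-/

set_option autoImplicit false

namespace Cfsg.Agent.Lib.Helper20

open Subgroup
open Cfsg Cfsg.Agent.Lib.Helper4 Cfsg.Agent.Lib.Helper23
open Cfsg.Agent.Lib.Helper76.N22
open Cfsg.Agent.Lib.Helper76.SylPrime

/-- `n_7 = 8`. -/
theorem g4032_n8 {G : Type*} [Group G] [Finite G] [IsSimpleGroup G] [Fact (Nat.Prime 7)]
    (hG : ¬ IsMulCommutative G) (hn : Nat.card (Sylow 7 G) = 8) (P : Sylow 7 G)
    (hC2 : 2 ∣ Nat.card (centralizer ((P : Subgroup G) : Set G))) : False := by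
  have : Fact (Nat.Prime 2) := ⟨by norm_num⟩
  have hn1 : Nat.card (Sylow 7 G) ≠ 1 := by rw [hn]; norm_num
  obtain ⟨t, htC, ht1, ht2⟩ := exists_mem_pow_eq_one _ 2 hC2
  have h1 := fix_mod P t htC
  have h2 := fix_mod_four hG hn1 t ht1 ht2
  have h3 := fix_lt hG hn1 t ht1
  rw [hn] at h2 h3
  omega

/-- `n_7 = 36`. -/
theorem g4032_n36 {G : Type*} [Group G] [Finite G] [IsSimpleGroup G] [Fact (Nat.Prime 7)]
    (hG : ¬ IsMulCommutative G) (hn : Nat.card (Sylow 7 G) = 36) (P : Sylow 7 G)
    (hC : Nat.card (centralizer ((P : Subgroup G) : Set G)) = 56) : False := by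
  have : Fact (Nat.Prime 2) := ⟨by norm_num⟩
  have hn1 : Nat.card (Sylow 7 G) ≠ 1 := by rw [hn]; norm_num
  obtain ⟨K0, hK0⟩ := Sylow.exists_subgroup_card_pow_prime 2
    (G := centralizer ((P : Subgroup G) : Set G)) (n := 3) (by rw [hC]; norm_num)
  obtain ⟨K, hK⟩ : ∃ K : Subgroup G,
      K = K0.map (centralizer ((P : Subgroup G) : Set G)).subtype := ⟨_, rfl⟩
  have hKcard : Nat.card K = 8 := by
    rw [hK, Subgroup.card_map_of_injective (Subgroup.subtype_injective _), hK0]
    norm_num
  have hKle : K ≤ centralizer ((P : Subgroup G) : Set G) := by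
    rw [hK]
    exact Subgroup.map_subtype_le K0
  have hinv : ∀ u ∈ centralizer ((P : Subgroup G) : Set G), u ≠ 1 → u ^ 2 = 1 →
      (MulAction.fixedBy (Sylow 7 G) u).ncard = 8 := by
    intro u hu hu1 hu2
    have h1 := fix_mod P u hu
    have h2 := fix_mod_four hG hn1 u hu1 hu2
    have h3 := fix_lt hG hn1 u hu1
    rw [hn] at h2 h3
    omega
  have hfix : ∀ a ∈ K, a ≠ 1 → (MulAction.fixedBy (Sylow 7 G) a).ncard = 8 := by
    intro a haK ha1
    have haC := hKle haK
    have ha8 : a ^ 2 ^ 3 = 1 := by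
      have h1 : (⟨a, haK⟩ : K) ^ Nat.card K = 1 := pow_card_eq_one'
      rw [hKcard] at h1
      have h2 := congrArg Subtype.val h1
      simpa using h2
    have hmod7 := fix_mod P a haC
    have hmod2 := fix_modEq_of_pow (p := 7) 2 a 3 ha8
    rw [hn] at hmod2
    have hpow : ∃ j : ℕ, a ^ j ≠ 1 ∧ (a ^ j) ^ 2 = 1 := by
      by_cases h2 : a ^ 2 = 1
      · exact ⟨1, by simpa using ha1, by simpa using h2⟩
      · by_cases h4 : a ^ 4 = 1
        · exact ⟨2, h2, by rw [← pow_mul]; exact h4⟩
        · refine ⟨4, h4, ?_⟩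
          rw [← pow_mul]
          norm_num at ha8 ⊢
          exact ha8
    obtain ⟨j, hj1, hj2⟩ := hpow
    have hjC : a ^ j ∈ centralizer ((P : Subgroup G) : Set G) := pow_mem haC j
    have hfj := hinv (a ^ j) hjC hj1 hj2
    have hsub : MulAction.fixedBy (Sylow 7 G) a ⊆ MulAction.fixedBy (Sylow 7 G) (a ^ j) := by
      have h1 := MulAction.fixedBy_subset_fixedBy_zpow (Sylow 7 G) a (j : ℤ)
      rwa [zpow_natCast] at h1
    have hle := Set.ncard_le_ncard hsub (Set.toFinite _)
    rw [hfj] at hle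
    omega
  have hdvd := card_dvd_of_fix (Ω := Sylow 7 G) K 8 (by rw [hn]; norm_num) hfix
  rw [hKcard, hn] at hdvd
  norm_num at hdvd

/-- For `n_7 = 64`, an element of order 3 centralizing a Sylow 7-subgroup fixes no other
Sylow 7-subgroup. -/
theorem g4032_fix_one {G : Type*} [Group G] [Finite G] [IsSimpleGroup G] [Fact (Nat.Prime 7)]
    (hcard : Nat.card G = 4032) (hG : ¬ IsMulCommutative G)
    (hc : ∀ Q : Sylow 7 G, Nat.card (Q : Subgroup G) = 7)
    (hn : Nat.card (Sylow 7 G) = 64) (P : Sylow 7 G) (x : G)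
    (hxC : x ∈ centralizer ((P : Subgroup G) : Set G)) (hx1 : x ≠ 1) (hx3 : x ^ 3 = 1) :
    (MulAction.fixedBy (Sylow 7 G) x).ncard = 1 := by
  have : Fact (Nat.Prime 3) := ⟨by norm_num⟩
  have hn1 : Nat.card (Sylow 7 G) ≠ 1 := by rw [hn]; norm_num
  have hN : Nat.card (normalizer ((P : Subgroup G) : Set G)) = 63 := by
    have h := card_normalizer_sylow_mul P
    rw [hn, hcard] at h
    omega
  have h1 := fix_mod P x hxC
  have h2 := fix_modEq_of_pow (p := 7) 3 x 1 (by rwa [pow_one])
  have h3 := fix_lt hG hn1 x hx1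
  rw [hn] at h2 h3
  by_cases hcent : ∀ Q : Sylow 7 G, x • Q = Q → x ∈ centralizer ((Q : Subgroup G) : Set G)
  · have hxP : x • P = P := smul_eq_of_mem_centralizer P x hxC
    have hcz := card_centralizer_eq P x hxP hcent
    have hxx : x ∈ centralizer ({x} : Set G) := by
      rw [mem_centralizer_iff]
      intro w hw
      rw [Set.mem_singleton_iff] at hw
      rw [hw]
    have hD1 : Nat.card (centralizer ({x} : Set G) ⊓
        normalizer ((P : Subgroup G) : Set G) : Subgroup G) ∣ 63 := by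
      rw [← hN]
      exact Subgroup.card_dvd_of_le inf_le_right
    have hPle : (P : Subgroup G) ≤ centralizer ({x} : Set G) ⊓
        normalizer ((P : Subgroup G) : Set G) := by
      refine le_inf ?_ le_normalizer
      intro y hy
      rw [mem_centralizer_iff]
      intro w hw
      rw [Set.mem_singleton_iff] at hw
      rw [hw]
      exact (mem_centralizer_iff.mp hxC y hy).symm
    have hD7 : 7 ∣ Nat.card (centralizer ({x} : Set G) ⊓
        normalizer ((P : Subgroup G) : Set G) : Subgroup G) := by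
      have h := Subgroup.card_dvd_of_le hPle
      rwa [hc P] at h
    have hD3 : 3 ∣ Nat.card (centralizer ({x} : Set G) ⊓
        normalizer ((P : Subgroup G) : Set G) : Subgroup G) :=
      dvd_card_of_mem _ 3 x ⟨hxx, centralizer_le_normalizer _ hxC⟩ hx1 hx3
    have h4 := Subgroup.card_dvd_of_le (le_top : centralizer ({x} : Set G) ≤ ⊤)
    rw [Subgroup.card_top, hcard, hcz] at h4
    have hpos : 0 < Nat.card (centralizer ({x} : Set G) ⊓
        normalizer ((P : Subgroup G) : Set G) : Subgroup G) := Nat.card_pos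
    generalize Nat.card (centralizer ({x} : Set G) ⊓
      normalizer ((P : Subgroup G) : Set G) : Subgroup G) = i at *
    generalize (MulAction.fixedBy (Sylow 7 G) x).ncard = f at *
    have hi : i = 21 ∨ i = 63 := by
      have hle : i ≤ 63 := Nat.le_of_dvd (by norm_num) hD1
      interval_cases i <;> omega
    have hf : f = 1 ∨ f = 22 ∨ f = 43 := by omega
    rcases hi with rfl | rfl <;> rcases hf with rfl | rfl | rfl <;>
      first | rfl | (exfalso; revert h4; decide)
  · push Not at hcent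
    obtain ⟨Q, hxQ, hxCQ⟩ := hcent
    have h5 := fix_le_of_not_centralizer hc Q x hxQ hxCQ
    rw [hn] at h5
    omega

/-- `n_7 = 64`. -/
theorem g4032_n64 {G : Type*} [Group G] [Finite G] [IsSimpleGroup G] [Fact (Nat.Prime 7)]
    (hcard : Nat.card G = 4032) (hG : ¬ IsMulCommutative G)
    (hc : ∀ Q : Sylow 7 G, Nat.card (Q : Subgroup G) = 7)
    (hn : Nat.card (Sylow 7 G) = 64) (P : Sylow 7 G)
    (hC : Nat.card (centralizer ((P : Subgroup G) : Set G)) = 21) : False := by
  have : Fact (Nat.Prime 3) := ⟨by norm_num⟩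
  have hN : Nat.card (normalizer ((P : Subgroup G) : Set G)) = 63 := by
    have h := card_normalizer_sylow_mul P
    rw [hn, hcard] at h
    omega
  obtain ⟨x, hxC, hx1, hx3⟩ := exists_mem_pow_eq_one
    (centralizer ((P : Subgroup G) : Set G)) 3 (by rw [hC]; norm_num)
  have hfx := g4032_fix_one hcard hG hc hn P x hxC hx1 hx3
  have hxP : x • P = P := smul_eq_of_mem_centralizer P x hxC
  have hfixeq : ∀ Q : Sylow 7 G, x • Q = Q → Q = P := by
    intro Q hQ
    obtain ⟨Q0, hQ0⟩ := Set.ncard_eq_one.mp hfx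
    have e1 : Q ∈ ({Q0} : Set (Sylow 7 G)) := by rw [← hQ0]; exact hQ
    have e2 : P ∈ ({Q0} : Set (Sylow 7 G)) := by rw [← hQ0]; exact hxP
    rw [Set.mem_singleton_iff] at e1 e2
    rw [e1, e2]
  have hCx : centralizer ({x} : Set G) ≤ normalizer ((P : Subgroup G) : Set G) := by
    intro g hg
    refine Sylow.smul_eq_iff_mem_normalizer.mp (hfixeq (g • P) ?_)
    have hgx : x * g = g * x := mem_centralizer_iff.mp hg x rfl
    rw [← mul_smul, hgx, mul_smul, hxP]
  -- a Sylow 3-subgroup containing `x`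
  have h3 : Nat.card G = 3 ^ 2 * 448 := by rw [hcard]; norm_num
  have hm3 : ¬ 3 ∣ 448 := by norm_num
  have hpg : IsPGroup 3 (zpowers x) := isPGroup_zpowers 3 x 1 (by rwa [pow_one])
  obtain ⟨R, hR⟩ := hpg.exists_le_sylow
  have hxR : x ∈ (R : Subgroup G) := hR (mem_zpowers x)
  have hRcard : Nat.card (R : Subgroup G) = 9 := by
    have h := sylow_card_of_eq h3 hm3 R
    simpa using h
  have hRcomm : ∀ a b : (R : Subgroup G), a * b = b * a :=
    (IsPGroup.isMulCommutative_of_card_eq_prime_sq (p := 3)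
      (by rw [hRcard]; norm_num)).is_comm.comm
  have hRle : (R : Subgroup G) ≤ centralizer ({x} : Set G) := by
    intro z hz
    rw [mem_centralizer_iff]
    intro w hw
    rw [Set.mem_singleton_iff] at hw
    subst hw
    exact congrArg Subtype.val (hRcomm ⟨w, hxR⟩ ⟨z, hz⟩)
  have hRN : (R : Subgroup G) ≤ normalizer ((P : Subgroup G) : Set G) := hRle.trans hCx
  have hNR : normalizer ((R : Subgroup G) : Set G) ≤ normalizer ((P : Subgroup G) : Set G) := by
    intro g hg
    refine Sylow.smul_eq_iff_mem_normalizer.mp (hfixeq (g • P) ?_)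
    have hx'R : g * x * g⁻¹ ∈ (R : Subgroup G) := (mem_normalizer_iff.mp hg x).mp hxR
    have hx'1 : g * x * g⁻¹ ≠ 1 := by
      intro h
      apply hx1
      calc x = g⁻¹ * (g * x * g⁻¹) * g := by group
        _ = 1 := by rw [h]; group
    have hx'3 : (g * x * g⁻¹) ^ 3 = 1 := by
      rw [conj_pow, hx3]
      group
    have hx'C : g * x * g⁻¹ ∈ centralizer (((g • P : Sylow 7 G) : Subgroup G) : Set G) := by
      rw [mem_centralizer_iff]
      intro y hy
      have hy' : g⁻¹ * y * g ∈ (P : Subgroup G) := (S4304.mem_smul_sylow g y P).mp hy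
      have h5 := mem_centralizer_iff.mp hxC _ hy'
      calc y * (g * x * g⁻¹) = g * ((g⁻¹ * y * g) * x) * g⁻¹ := by group
        _ = g * (x * (g⁻¹ * y * g)) * g⁻¹ := by rw [h5]
        _ = g * x * g⁻¹ * y := by group
    have hfx' := g4032_fix_one hcard hG hc hn (g • P) (g * x * g⁻¹) hx'C hx'1 hx'3
    have hx'fix : (g * x * g⁻¹) • (g • P) = g • P := smul_eq_of_mem_centralizer (g • P) _ hx'C
    have hcomm : x * (g * x * g⁻¹) = (g * x * g⁻¹) * x :=
      congrArg Subtype.val (hRcomm ⟨x, hxR⟩ ⟨_, hx'R⟩)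
    have hfix2 : (g * x * g⁻¹) • (x • (g • P)) = x • (g • P) := by
      rw [← mul_smul, ← hcomm, mul_smul, hx'fix]
    obtain ⟨Q0, hQ0⟩ := Set.ncard_eq_one.mp hfx'
    have e1 : g • P ∈ ({Q0} : Set (Sylow 7 G)) := by rw [← hQ0]; exact hx'fix
    have e2 : x • (g • P) ∈ ({Q0} : Set (Sylow 7 G)) := by rw [← hQ0]; exact hfix2
    rw [Set.mem_singleton_iff] at e1 e2
    rw [e2, e1]
  have hRne : (R : Subgroup G) ≠ ⊥ := by
    rw [← Subgroup.one_lt_card_iff_ne_bot, hRcard]
    norm_num
  apply simple_not_normalizer_le_centralizer hG R hRne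
  have hRleN : (R : Subgroup G) ≤ normalizer ((R : Subgroup G) : Set G) := le_normalizer
  have hd1 : 9 ∣ Nat.card (normalizer ((R : Subgroup G) : Set G)) := by
    rw [← hRcard]
    exact Subgroup.card_dvd_of_le hRleN
  have hd2 : Nat.card (normalizer ((R : Subgroup G) : Set G)) ∣ 63 := by
    rw [← hN]
    exact Subgroup.card_dvd_of_le hNR
  have hcases : Nat.card (normalizer ((R : Subgroup G) : Set G)) = 9 ∨
      Nat.card (normalizer ((R : Subgroup G) : Set G)) = 63 := by
    have hle := Nat.le_of_dvd (by norm_num) hd2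
    have hpos : 0 < Nat.card (normalizer ((R : Subgroup G) : Set G)) := Nat.card_pos
    generalize Nat.card (normalizer ((R : Subgroup G) : Set G)) = i at *
    interval_cases i <;> omega
  rcases hcases with h9 | h63
  · have heq : (R : Subgroup G) = normalizer ((R : Subgroup G) : Set G) :=
      Subgroup.eq_of_le_of_card_ge hRleN (by rw [h9, hRcard])
    rw [← heq]
    intro z hz
    rw [mem_centralizer_iff]
    intro w hw
    exact congrArg Subtype.val (hRcomm ⟨w, hw⟩ ⟨z, hz⟩)
  · exfalso
    have heq : normalizer ((R : Subgroup G) : Set G) = normalizer ((P : Subgroup G) : Set G) :=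
      Subgroup.eq_of_le_of_card_ge hNR (by rw [h63, hN])
    have hRC : (R : Subgroup G) ≤ centralizer ((P : Subgroup G) : Set G) := by
      intro z hz
      rw [mem_centralizer_iff]
      intro y hy
      have hyN : y ∈ normalizer ((R : Subgroup G) : Set G) := by
        rw [heq]
        exact le_normalizer hy
      have hzN : z ∈ normalizer ((P : Subgroup G) : Set G) := hRN hz
      have e1 : y * z * y⁻¹ ∈ (R : Subgroup G) := (mem_normalizer_iff.mp hyN z).mp hz
      have e2 : z * y⁻¹ * z⁻¹ ∈ (P : Subgroup G) :=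
        (mem_normalizer_iff.mp hzN y⁻¹).mp (inv_mem hy)
      have e3 : y * z * y⁻¹ * z⁻¹ ∈ (P : Subgroup G) ⊓ (R : Subgroup G) := by
        refine Subgroup.mem_inf.mpr ⟨?_, mul_mem e1 (inv_mem hz)⟩
        have e4 : y * z * y⁻¹ * z⁻¹ = y * (z * y⁻¹ * z⁻¹) := by group
        rw [e4]
        exact mul_mem hy e2
      have hbot : (P : Subgroup G) ⊓ (R : Subgroup G) = ⊥ :=
        (Subgroup.disjoint_of_coprime_natCard (by rw [hc P, hRcard]; norm_num)).eq_bot
      rw [hbot, mem_bot] at e3
      calc y * z = (y * z * y⁻¹ * z⁻¹) * z * y := by group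
        _ = z * y := by rw [e3, one_mul]
    have h5 := Subgroup.card_dvd_of_le hRC
    rw [hRcard, hC] at h5
    norm_num at h5

/-- `n_7 = 288`: the normalizer of a Sylow 7-subgroup is dihedral of order 14. -/
theorem g4032_n288 {G : Type*} [Group G] [Finite G] [IsSimpleGroup G] [Fact (Nat.Prime 7)]
    (hcard : Nat.card G = 4032)
    (hc : ∀ Q : Sylow 7 G, Nat.card (Q : Subgroup G) = 7) (P : Sylow 7 G)
    (hC : Nat.card (centralizer ((P : Subgroup G) : Set G)) = 7)
    (hN : Nat.card (normalizer ((P : Subgroup G) : Set G)) = 14) : False := by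
  classical
  cases nonempty_fintype G
  have hfin : Finite (IrrCharacter G) := irr_finite
  let _ : Fintype (IrrCharacter G) := Fintype.ofFinite _
  have hp2 : Fact (Nat.Prime 2) := ⟨by norm_num⟩
  have hCP : centralizer ((P : Subgroup G) : Set G) = P :=
    (Subgroup.eq_of_le_of_card_ge (sylow_le_centralizer hc P) (by rw [hC, hc P])).symm
  obtain ⟨hC', hF'⟩ := prime_fusion_two (P : Subgroup G) (hc P) hCP (by rw [hN])
  obtain ⟨t, htN, ht1, ht2⟩ := exists_mem_pow_eq_one
    (normalizer ((P : Subgroup G) : Set G)) 2 (by rw [hN]; norm_num)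
  have ht2' : t * t = 1 := by rw [← pow_two]; exact ht2
  have htinv : t⁻¹ = t := inv_eq_of_mul_eq_one_left ht2'
  have htP : ∀ z ∈ (P : Subgroup G), t * z * t = z⁻¹ := by
    intro z hz
    by_cases hz1 : z = 1
    · subst hz1
      simp [ht2']
    · have hmem : t * z * t⁻¹ ∈ (P : Subgroup G) := (mem_normalizer_iff.mp htN z).mp hz
      have hconj : IsConj z (t * z * t⁻¹) := isConj_iff.mpr ⟨t, rfl⟩
      rcases (hF' z hz hz1 _ hmem).mp hconj with h | h
      · exfalso
        have htc : t ∈ centralizer ({z} : Set G) := by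
          rw [mem_centralizer_iff]
          intro w hw
          rw [Set.mem_singleton_iff] at hw
          subst hw
          calc w * t = (t * w * t⁻¹) * t := by rw [h]
            _ = t * w := by group
        have hd := dvd_card_of_mem (centralizer ({z} : Set G)) 2 t htc ht1 ht2
        rw [hC' z hz hz1] at hd
        norm_num at hd
      · rw [htinv] at h
        exact h
  obtain ⟨d, a, hdpos, -, -, hform⟩ := exc2_inv_formula 7 (by norm_num) (P : Subgroup G)
    (hc P) hC' hF' t ht2' htP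
  rw [hcard] at hform
  obtain ⟨c, hcdef⟩ : ∃ c : ℕ, c = Nat.card (centralizer ({t} : Set G)) := ⟨_, rfl⟩
  rw [← hcdef] at hform
  have hcpos : 0 < c := by rw [hcdef]; exact Nat.card_pos
  apply exc2_not_sq c d (24 * ((d : ℤ) - a)) hcpos hdpos
  have h7 : (7 : ℤ) * ((c : ℤ) ^ 2 * d * (d + 1)) = 7 * (24 * ((d : ℤ) - a)) ^ 2 := by
    push_cast at hform
    linear_combination hform
  exact mul_left_cancel₀ (by norm_num) h7

end Cfsg.Agent.Lib.Helper20
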