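import Mathlib
import Cfsg.Agent.Lib.Helper20.CharSub

set_option autoImplicit false
open scoped ComplexConjugate
open Cfsg

namespace Cfsg.Agent.Lib.Helper20

section

variable {H : Type*} [Group H]

/-- the extension by zero of a class function of `T` is invariant under conjugation by `T` -/
theorem ext_conj_mem (T : Subgroup H) {η : T → ℂ} (hη : IsClassFunction T η) (t y : H)
    (ht : t ∈ T) : extendByZero T η (t⁻¹ * y * t) = extendByZero T η y := by
  by_cases hy : y ∈ T
  · have hy' : t⁻¹ * y * t ∈ T := T.mul_mem (T.mul_mem (T.inv_mem ht) hy) ht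
    rw [Helper35.ext_mem T η _ hy', Helper35.ext_mem T η _ hy]
    have h1 := hη ⟨y, hy⟩ ⟨t, ht⟩⁻¹
    rw [← h1]
    congr 1
    apply Subtype.ext
    simp
  · have hy' : t⁻¹ * y * t ∉ T := by
      intro h
      apply hy
      have h2 : y = t * (t⁻¹ * y * t) * t⁻¹ := by group
      rw [h2]
      exact T.mul_mem (T.mul_mem ht h) (T.inv_mem ht)
    rw [Helper35.ext_not_mem T η _ hy', Helper35.ext_not_mem T η _ hy]

variable [Fintype H]

/-- Mackey's formula when `H = N T`: the restriction to `N` of a class function induced from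
`T` is induced from `N ⊓ T`. -/
theorem indFun_res_of_sup (N T : Subgroup H) [N.Normal] [Fintype N] (hNT : N ⊔ T = ⊤)
    (η : T → ℂ) (hη : IsClassFunction T η) (n : N) :
    indFun T η (n : H) = indFun (T.subgroupOf N)
      (fun x : T.subgroupOf N => η ⟨((x : N) : H), Subgroup.mem_subgroupOf.mp x.2⟩) n := by
  classical
  set η' : T.subgroupOf N → ℂ :=
    fun x : T.subgroupOf N => η ⟨((x : N) : H), Subgroup.mem_subgroupOf.mp x.2⟩ with hη'
  set f : H → ℂ := fun h => extendByZero T η (h⁻¹ * (n : H) * h) with hf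
  have h1 : ∀ y : N, extendByZero (T.subgroupOf N) η' y = extendByZero T η (y : H) := by
    intro y
    by_cases hy : (y : H) ∈ T
    · rw [Helper35.ext_mem T η _ hy,
        Helper35.ext_mem (T.subgroupOf N) η' y (Subgroup.mem_subgroupOf.mpr hy)]
    · rw [Helper35.ext_not_mem T η _ hy,
        Helper35.ext_not_mem (T.subgroupOf N) η' y (fun h => hy (Subgroup.mem_subgroupOf.mp h))]
  have h2 : ∀ (h t : H), t ∈ T → f (h * t) = f h := by
    intro h t ht
    show extendByZero T η ((h * t)⁻¹ * (n : H) * (h * t)) = extendByZero T η (h⁻¹ * (n : H) * h)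
    rw [← ext_conj_mem T hη t (h⁻¹ * (n : H) * h) ht]
    congr 1
    group
  have h3 : ∀ h : H, ∑ x : N, f ((x : H) * h) = ∑ x : N, f (x : H) := by
    intro h
    obtain ⟨x₀, hx₀, t₀, ht₀, hxt⟩ : ∃ x₀ ∈ N, ∃ t₀ ∈ T, x₀ * t₀ = h := by
      have hh : h ∈ ((N ⊔ T : Subgroup H) : Set H) := by rw [hNT]; trivial
      rw [Subgroup.normal_mul] at hh
      exact Set.mem_mul.mp hh
    rw [← hxt]
    have h4 : ∀ x : N, f ((x : H) * (x₀ * t₀)) = f (((x * ⟨x₀, hx₀⟩ : N) : H)) := by
      intro x
      rw [← mul_assoc, h2 _ t₀ ht₀]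
      rfl
    rw [Finset.sum_congr rfl (fun x _ => h4 x)]
    exact Equiv.sum_comp (Equiv.mulRight (⟨x₀, hx₀⟩ : N)) (fun x : N => f (x : H))
  have h5 : ∑ h : H, f h = (Nat.card N : ℂ)⁻¹ * ((Fintype.card H : ℂ) * ∑ x : N, f (x : H)) := by
    rw [Cfsg.Agent.S0868.sum_eq_avg N f, Finset.sum_comm,
      Finset.sum_congr rfl (fun h _ => h3 h), Finset.sum_const, Finset.card_univ, nsmul_eq_mul]
  have h6 : ∑ x : N, extendByZero (T.subgroupOf N) η' (x⁻¹ * n * x) = ∑ x : N, f (x : H) := by
    apply Finset.sum_congr rfl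
    intro x _
    rw [h1]
    rfl
  have hcard : Nat.card H * Nat.card (T.subgroupOf N) = Nat.card N * Nat.card T := by
    have e1 : Nat.card (T.subgroupOf N) = Nat.card (N.subgroupOf T) := by
      apply Nat.card_congr
      exact
        { toFun := fun x => ⟨⟨((x : N) : H), Subgroup.mem_subgroupOf.mp x.2⟩,
            Subgroup.mem_subgroupOf.mpr (x : N).2⟩
          invFun := fun x => ⟨⟨((x : T) : H), Subgroup.mem_subgroupOf.mp x.2⟩,
            Subgroup.mem_subgroupOf.mpr (x : T).2⟩
          left_inv := fun x => rfl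
          right_inv := fun x => rfl }
    have e2 : N.index = N.relIndex T := by
      have h := Subgroup.relIndex_sup_left (K := N) (H := T)
      rw [hNT, Subgroup.relIndex_top_right] at h
      exact h
    have e3 := Subgroup.card_mul_index N
    have e4 := Subgroup.card_mul_index (N.subgroupOf T)
    have e5 : (N.subgroupOf T).index = N.index := e2.symm
    rw [e1, ← e3, ← e4, e5]
    ring
  have hN0 : (Nat.card N : ℂ) ≠ 0 := by exact_mod_cast (Nat.card_pos (α := N)).ne'
  have hT0 : (Nat.card T : ℂ) ≠ 0 := by exact_mod_cast (Nat.card_pos (α := T)).ne'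
  have hT0' : (Nat.card (T.subgroupOf N) : ℂ) ≠ 0 := by
    exact_mod_cast (Nat.card_pos (α := T.subgroupOf N)).ne'
  have hcard' : (Fintype.card H : ℂ) * (Nat.card (T.subgroupOf N) : ℂ) =
      (Nat.card N : ℂ) * (Nat.card T : ℂ) := by
    rw [← Nat.card_eq_fintype_card]
    exact_mod_cast hcard
  show (Nat.card T : ℂ)⁻¹ * ∑ h : H, f h =
    (Nat.card (T.subgroupOf N) : ℂ)⁻¹ * ∑ x : N, extendByZero (T.subgroupOf N) η' (x⁻¹ * n * x)
  rw [h5, h6]
  field_simp
  rw [mul_comm (Nat.card T : ℂ), ← hcard']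
  ring

end

end Cfsg.Agent.Lib.Helper20
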