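import Mathlib
import Cfsg.Agent.Lib.Helper44.PU3Defs
import Cfsg.Agent.Lib.Helper7.GUOrder

/-!
# Piece TRSOL of the PU3 project (helper44, S2784 + S2786): three transvections with the same
parameter whose product has a prescribed trace
-/

set_option autoImplicit false

namespace Cfsg.Agent.Lib.Helper44.PU3

open Matrix
open Cfsg.Agent.Lib.Helper7 (herm_norm_surj herm_pow_pow hf_conj)

theorem pu3_trsol {F : Type*} [Field F] [Fintype F] (q : ℕ) (h1 : PigEvenStmt F q) (h2 : PigOddStmt F q) (h3 : GramStmt F q) (h4 : TrfStmt F q) : TrSolStmt F q := by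
  intro hF t c ht hc0 hc
  have hcq : c ^ q = -c := by
    have e : c ^ q = (c + c ^ q) - c := by ring
    rw [e, hc, zero_sub]
  have hc2 : c ^ 2 ≠ 0 := pow_ne_zero 2 hc0
  have hc2q : (c ^ 2) ^ q = c ^ 2 := by
    rw [← pow_mul, mul_comm, pow_mul, hcq]; ring
  obtain ⟨x, y, z, hx, hy, hz, hx0, hy0, hz0, hΩ⟩ : ∃ x y z : F, x ^ q = x ∧ y ^ q = y ∧
      z ^ q = z ∧ x ≠ 0 ∧ y ≠ 0 ∧ z ≠ 0 ∧ (t - (x + y + z)) ^ (q + 1) = -(x * y * z) := by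
    rcases Nat.even_or_odd q with he | ho
    · exact h1 hF he t ht
    · exact h2 hF ho t ht
  obtain ⟨a, ha0, ha⟩ := herm_norm_surj hF (x / c ^ 2) (div_ne_zero hx0 hc2)
    (by rw [div_pow, hx, hc2q])
  obtain ⟨b, hb0, hb⟩ := herm_norm_surj hF (z / c ^ 2) (div_ne_zero hz0 hc2)
    (by rw [div_pow, hz, hc2q])
  obtain ⟨Ω, hΩdef⟩ : ∃ Ω, Ω = t - (x + y + z) := ⟨_, rfl⟩
  rw [← hΩdef] at hΩ
  obtain ⟨w, hw⟩ : ∃ w, w = Ω / c ^ 3 := ⟨_, rfl⟩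
  obtain ⟨c31, hc31⟩ : ∃ c31, c31 = w ^ q / (a * b) := ⟨_, rfl⟩
  obtain ⟨v₁, v₂, v₃, hv₁, hv₂, hv₃, hi₁, hi₂, hi₃, h12, h23, h31⟩ := h3 hF a b c31 ha0 hb0
  refine ⟨v₁, v₂, v₃, hv₁, hv₂, hv₃, hi₁, hi₂, hi₃, ?_⟩
  rw [h4 v₁ v₂ v₃ c c c hi₁ hi₂ hi₃]
  have h21 : Cfsg.hermForm 3 F q v₂ v₁ = a ^ q := by rw [hf_conj hF, h12]
  have h32 : Cfsg.hermForm 3 F q v₃ v₂ = b ^ q := by rw [hf_conj hF, h23]
  have h13 : Cfsg.hermForm 3 F q v₁ v₃ = c31 ^ q := by rw [hf_conj hF, h31]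
  rw [h12, h21, h13, h31, h23, h32]
  have haq0 : a ^ q ≠ 0 := pow_ne_zero q ha0
  have hbq0 : b ^ q ≠ 0 := pow_ne_zero q hb0
  have hA : a * a ^ q = x / c ^ 2 := by rw [← ha, pow_succ']
  have hB : b * b ^ q = z / c ^ 2 := by rw [← hb, pow_succ']
  have hc31q : c31 ^ q = w / (a ^ q * b ^ q) := by
    rw [hc31, div_pow, herm_pow_pow hF, mul_pow]
  have hww : w * w ^ q = -(x * y * z) / (-(c ^ 2)) ^ 3 := by
    have e1 : w * w ^ q = w ^ (q + 1) := by rw [pow_succ']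
    rw [e1, hw, div_pow, hΩ]
    congr 1
    have e2 : (c ^ 3) ^ (q + 1) = (c ^ (q + 1)) ^ 3 := by
      rw [← pow_mul, ← pow_mul, mul_comm]
    have e3 : c ^ (q + 1) = -(c ^ 2) := by
      rw [pow_succ c q, hcq]; ring
    rw [e2, e3]
  have hT1 : c * c * (a * a ^ q) = x := by
    rw [hA]; field_simp
  have hT3 : c * c * (b * b ^ q) = z := by
    rw [hB]; field_simp
  have hT4 : c * c * c * (c31 ^ q * b ^ q * a ^ q) = Ω := by
    rw [hc31q, hw]; field_simp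
  have hT2 : c * c * (c31 ^ q * c31) = y := by
    have e : c31 ^ q * c31 = (w * w ^ q) / ((a * a ^ q) * (b * b ^ q)) := by
      rw [hc31q, hc31]; field_simp
    rw [e, hww, hA, hB]; field_simp
  rw [hT1, hT2, hT3, hT4, hΩdef]; ring

end Cfsg.Agent.Lib.Helper44.PU3
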